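import Cfsg.Agent.BlkChar.CyclicDefect.Shape
import Cfsg.Agent.BC85.Pairs.AbelianInertia
import Mathlib.Data.Int.ModEq

/-!
# Degrees in a block with cyclic defect group
-/

set_option autoImplicit false
set_option linter.unusedSectionVars false

namespace Cfsg.Agent.BlkChar.CyclicDefect

open BlocksCore BlocksDefect BC85
open scoped Classical ComplexConjugate

universe u

variable {G : Type u} [Group G] [Fintype G] {p : ℕ} [Fact p.Prime] {M : Ideal AlgInt}
  [hP : M.IsPrime]

theorem not_iff_of_dvd_sub {x y : ℤ} {m n : ℕ} (hmn : m ≤ n) (h : (p : ℤ) ^ n ∣ x - y) :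
    (p : ℤ) ^ m ∣ x ↔ (p : ℤ) ^ m ∣ y :=
  dvd_iff_dvd_of_dvd_sub ((pow_dvd_pow _ hmn).trans h)

namespace CycData

variable {B : Set (IrrCharacter G)} {D : Subgroup G}
  {c : Set (IrrCharacter (Subgroup.centralizer (D : Set G)))} {X : CycData p M B D c}
  {R : Finset (X.loc →* ℂˣ)} {f : (X.loc →* ℂˣ) → IrrCharacter G} {δ : IrrCharacter G → ℤ} {ε : ℤ}

namespace Tree

variable (X) in
/-- The non-exceptional members. -/
def nonExc (R : Finset (X.loc →* ℂˣ)) (f : (X.loc →* ℂˣ) → IrrCharacter G) :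
    Set (IrrCharacter G) := {χ | χ ∈ B ∧ ∀ l ∈ R, f l ≠ χ}

variable (T : X.Tree R f δ ε)
include T

theorem image_inj : Set.InjOn f R := fun _ hl _ hm h => T.inj _ hl _ hm h

theorem union_eq : B = nonExc X R f ∪ f '' R := by
  ext χ
  refine ⟨fun h => ?_, ?_⟩
  · by_cases hne : ∀ l ∈ R, f l ≠ χ
    · exact Or.inl ⟨h, hne⟩
    · push Not at hne
      obtain ⟨l, hl, rfl⟩ := hne
      exact Or.inr ⟨l, hl, rfl⟩
  · rintro (h | ⟨l, hl, rfl⟩)
    · exact h.1
    · exact T.mem l hl

theorem disjoint : Disjoint (nonExc X R f) (f '' R) :=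
  Set.disjoint_left.mpr fun _ h => by rintro ⟨l, hl, rfl⟩; exact h.2 l hl rfl

theorem card_exc : Nat.card (f '' (R : Set (X.loc →* ℂˣ))) = R.card := by
  rw [Nat.card_coe_set_eq, T.image_inj.ncard_image, Set.ncard_coe_finset]

theorem card_nonExc : Nat.card (nonExc X R f) = X.ei := by
  have := finite_irr (G := G)
  have h := Set.ncard_union_eq T.disjoint (Set.toFinite _) (Set.toFinite _)
  rw [← T.union_eq, ← Nat.card_coe_set_eq, T.card, ← Nat.card_coe_set_eq, ← Nat.card_coe_set_eq,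
    T.card_exc] at h
  omega

theorem sign_mul : ε * ε = 1 := by rcases T.sign with h | h <;> simp [h]

theorem delta_mul {χ : IrrCharacter G} (hχ : χ ∈ nonExc X R f) : δ χ * δ χ = 1 := by
  rcases (T.coef_nonexc χ hχ.1 hχ.2).1 with h | h <;> simp [h]

/-- An induced difference in terms of the members. -/
theorem vind_apply [Fintype (IrrCharacter G)] {l : X.loc →* ℂˣ} (hl : l ∈ R) (g : G) :
    X.vind l g = (ε : ℂ) * (f l : G → ℂ) g +
      ∑ χ ∈ (nonExc X R f).toFinset, (δ χ : ℂ) * (χ : G → ℂ) g := by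
  rw [X.vind_eq_sum, ← Finset.add_sum_erase _ _ (Finset.mem_univ (f l)),
    show X.coef l (f l) = ε by rw [T.coef_exc l hl l hl, if_pos rfl]]
  congr 1
  rw [← Finset.sum_subset (s₁ := (nonExc X R f).toFinset) (fun χ hχ =>
    Finset.mem_erase.mpr ⟨fun h => (Set.mem_toFinset.mp hχ).2 l hl h.symm, Finset.mem_univ _⟩)]
  · exact Finset.sum_congr rfl fun χ hχ => by
      rw [(T.coef_nonexc χ (Set.mem_toFinset.mp hχ).1 (Set.mem_toFinset.mp hχ).2).2 l hl]
  · intro χ hχ hnot
    have h0 : X.coef l χ = 0 := by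
      by_cases hB : χ ∈ B
      · rcases (T.union_eq ▸ hB : χ ∈ nonExc X R f ∪ f '' R) with h | ⟨m, hm, rfl⟩
        · exact absurd (Set.mem_toFinset.mpr h) hnot
        · rw [T.coef_exc l hl m hm, if_neg fun h => (Finset.mem_erase.mp hχ).1 (by rw [h])]
      · have h1 := (X.coef_spec l χ).symm.trans (X.classInner_vind_of_notMem l hB)
        exact_mod_cast h1
    rw [h0, Int.cast_zero, zero_mul]

/-- The relation on the regular elements. -/
theorem relation {l : X.loc →* ℂˣ} (hl : l ∈ R) {g : G} (hg : ¬ p ∣ orderOf g) :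
    (ε : ℂ) * (f l : G → ℂ) g + ∑ᶠ χ ∈ nonExc X R f, (δ χ : ℂ) * (χ : G → ℂ) g = 0 := by
  have := finite_irr (G := G)
  letI := Fintype.ofFinite (IrrCharacter G)
  rw [finsum_mem_eq_toFinset_sum, ← T.vind_apply hl g, X.vind_regular l hg]

theorem exc_regular {l m : X.loc →* ℂˣ} (hl : l ∈ R) (hm : m ∈ R) {g : G}
    (hg : ¬ p ∣ orderOf g) : (f l : G → ℂ) g = (f m : G → ℂ) g := by
  have h := (T.relation hl hg).trans (T.relation hm hg).symm
  rw [add_left_inj] at h
  refine mul_left_cancel₀ (Int.cast_ne_zero.mpr fun h0 => ?_) h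
  have := T.sign_mul
  simp [h0] at this

/-- A combination orthogonal to the induced differences vanishes on the singular elements. -/
theorem vanish (s : Finset (IrrCharacter G)) (k : IrrCharacter G → ℤ) (hs : ∀ χ ∈ s, χ ∈ B)
    (h : ∀ l ∈ R, ∑ χ ∈ s, k χ * X.coef l χ = 0) {g : G} (hg : p ∣ orderOf g) :
    ∑ χ ∈ s, (k χ : ℂ) * (χ : G → ℂ) g = 0 := by
  refine X.eq_zero_of_orth s (fun χ => (k χ : ℂ)) id hs (fun l hl => ?_) hg
  obtain ⟨t, ht⟩ := T.reps.exists_rep l hl
  rw [← X.vind_lconj t l, show (fun g => ∑ i ∈ s, (k i : ℂ) * (id i : IrrCharacter G).1 g) =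
    ∑ i ∈ s, (k i : ℂ) • (i : G → ℂ) from funext fun g => by simp [Finset.sum_apply],
    CharCore.classInner_sum_left]
  simp only [CharCore.classInner_smul_left, X.classInner_irr_vind]
  exact_mod_cast h _ ht

/-- The degree of a combination orthogonal to the induced differences is divisible by the order of
every `p`-subgroup. -/
theorem dvd_degree {Q : Subgroup G} (hQ : IsPGroup p Q) (s : Finset (IrrCharacter G))
    (k : IrrCharacter G → ℤ) (hs : ∀ χ ∈ s, χ ∈ B)
    (h : ∀ l ∈ R, ∑ χ ∈ s, k χ * X.coef l χ = 0) :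
    (Nat.card Q : ℤ) ∣ ∑ χ ∈ s, k χ * (charDegree (χ : G → ℂ) : ℤ) := by
  obtain ⟨m, hm⟩ := exists_dvd_of_vanishes (F := ∑ χ ∈ s, (k χ : ℂ) • (χ : G → ℂ))
    (CharCore.isGeneralized_sum _ _ fun χ _ =>
      CharCore.isGeneralized_intCast_smul (CharCore.irr_isGeneralized χ) _) Q fun q hq hq1 => by
      simp only [Finset.sum_apply, Pi.smul_apply, smul_eq_mul]
      refine T.vanish s k hs h ?_
      obtain ⟨j, hj⟩ := IsPGroup.iff_orderOf.mp hQ ⟨q, hq⟩
      rw [Subgroup.orderOf_mk] at hj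
      rcases Nat.eq_zero_or_pos j with rfl | hj0
      · exact absurd (orderOf_eq_one_iff.mp (by simpa using hj)) hq1
      · exact hj ▸ dvd_pow_self p hj0.ne'
  refine ⟨m, Int.cast_injective (α := ℂ) ?_⟩
  push_cast
  rw [← hm]
  simp [Finset.sum_apply, irr_one_eq]

theorem dvd_nonExc {Q : Subgroup G} (hQ : IsPGroup p Q) {χ χ' : IrrCharacter G}
    (h : χ ∈ nonExc X R f) (h' : χ' ∈ nonExc X R f) :
    (Nat.card Q : ℤ) ∣
      δ χ * (charDegree (χ : G → ℂ) : ℤ) - δ χ' * (charDegree (χ' : G → ℂ) : ℤ) := by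
  by_cases he : χ = χ'
  · rw [he, sub_self]
    exact dvd_zero _
  have := T.dvd_degree hQ {χ, χ'} (fun θ => if θ = χ then δ χ else -δ χ') (fun θ hθ => by
    rcases Finset.mem_insert.mp hθ with rfl | hθ
    · exact h.1
    · rw [Finset.mem_singleton.mp hθ]; exact h'.1) fun l hl => by
    rw [Finset.sum_pair he]
    simp only [if_true, if_neg (Ne.symm he), (T.coef_nonexc χ h.1 h.2).2 l hl,
      (T.coef_nonexc χ' h'.1 h'.2).2 l hl, neg_mul, T.delta_mul h, T.delta_mul h']
    norm_num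
  rw [Finset.sum_pair he] at this
  simpa [Ne.symm he, sub_eq_add_neg] using this

theorem dvd_exc {Q : Subgroup G} (hQ : IsPGroup p Q) {χ : IrrCharacter G}
    (h : χ ∈ nonExc X R f) {m : X.loc →* ℂˣ} (hm : m ∈ R) :
    (Nat.card Q : ℤ) ∣ ε * (R.card * (charDegree (f m : G → ℂ) : ℤ)) -
      δ χ * (charDegree (χ : G → ℂ) : ℤ) := by
  have hn : χ ∉ R.image f := fun hc => by
    obtain ⟨l, hl, rfl⟩ := Finset.mem_image.mp hc
    exact h.2 l hl rfl
  have hk : ∀ θ ∈ R.image f, (if θ = χ then -δ χ else ε) = ε := fun θ hθ =>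
    if_neg fun he : θ = χ => hn (by rw [← he]; exact hθ)
  have hinj := fun (a : X.loc →* ℂˣ) (ha : a ∈ R) (b : X.loc →* ℂˣ) (hb : b ∈ R) (e : f a = f b) =>
    T.inj a ha b hb e
  have := T.dvd_degree hQ (insert χ (R.image f)) (fun θ => if θ = χ then -δ χ else ε)
    (fun θ hθ => by
      rcases Finset.mem_insert.mp hθ with rfl | hθ
      · exact h.1
      · obtain ⟨l, hl, rfl⟩ := Finset.mem_image.mp hθ
        exact T.mem l hl) fun l hl => by
    rw [Finset.sum_insert hn, if_pos rfl, (T.coef_nonexc χ h.1 h.2).2 l hl,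
      Finset.sum_congr rfl fun θ hθ => by rw [hk θ hθ], Finset.sum_image hinj, Finset.sum_congr rfl
        (fun a ha => by rw [T.coef_exc l hl a ha]), ← Finset.mul_sum, Finset.sum_ite_eq, if_pos hl,
      neg_mul, T.delta_mul h, T.sign_mul]
    norm_num
  rw [Finset.sum_insert hn, if_pos rfl, Finset.sum_congr rfl fun θ hθ => by rw [hk θ hθ],
    Finset.sum_image hinj, ← Finset.mul_sum, Finset.sum_congr rfl fun a ha => show
      (charDegree (f a : G → ℂ) : ℤ) = (charDegree (f m : G → ℂ) : ℤ) from by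
        have := T.exc_regular ha hm (g := 1) (by
          rw [orderOf_one]; exact (Fact.out : p.Prime).not_dvd_one)
        rw [irr_one_eq, irr_one_eq] at this
        exact_mod_cast this, Finset.sum_const, nsmul_eq_mul] at this
  convert this using 1
  ring

theorem height_zero {χ : IrrCharacter G} (hχ : χ ∈ B) : blockHeight p B (χ : G → ℂ) = 0 := by
  have hp : p.Prime := Fact.out
  have := finite_irr (G := G)
  obtain ⟨χ0, hχ0, h0⟩ := exists_height_zero X.mod X.blockB
  set n := (Nat.card G).factorization p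
  set v := (charDegree (χ0 : G → ℂ)).factorization p with hv
  let P : Sylow p G := default
  have hPcard : (Nat.card (P : Subgroup G) : ℤ) = (p : ℤ) ^ n := by
    rw [Sylow.card_eq_multiplicity]; push_cast; rfl
  obtain ⟨k, hk⟩ := IsPGroup.iff_card.mp X.isPGroup
  have hk0 : 0 < k := Nat.pos_of_ne_zero fun h => X.ne_bot (Subgroup.card_eq_one.mp (by
    rw [hk, h, pow_zero]))
  have hbd : blockDefect p B = k := Nat.pow_right_injective hp.two_le
    ((defectGroup_natCard X.mod X.blockB (isDefectGroup_of_maximal X.mod X.max)).symm.trans hk)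
  have hkn : k ≤ n := (hp.pow_dvd_iff_le_factorization Nat.card_pos.ne').mp
    (hk ▸ Subgroup.card_subgroup_dvd_card D)
  have hvn : v + 1 ≤ n := by
    rw [hv, height_zero_degree hχ0 h0, hbd]
    omega
  have hpr : ¬ (p : ℤ) ∣ (R.card : ℤ) := by
    intro h
    have h1 : (p : ℤ) ∣ (Nat.card D : ℤ) := by
      rw [hk]; push_cast; exact dvd_pow_self _ hk0.ne'
    rw [← T.reps.card] at h1
    push_cast at h1
    exact hp.not_dvd_one (Int.natCast_dvd_natCast.mp (by
      simpa using (Int.dvd_add_right (h.mul_right (X.ei : ℤ))).mp h1))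
  have hunit : ∀ {s : ℤ}, s = 1 ∨ s = -1 → ∀ x : ℤ, (p : ℤ) ^ (v + 1) ∣ s * x ↔ (p : ℤ) ^ (v + 1) ∣ x := by
    rintro s (rfl | rfl) x <;> simp
  obtain ⟨χ1, hχ1⟩ : (nonExc X R f).Nonempty := by
    rw [← Set.ncard_pos (Set.toFinite _), ← Nat.card_coe_set_eq, T.card_nonExc]
    exact X.ei_pos
  have hall : ∀ θ ∈ B, ((p : ℤ) ^ (v + 1) ∣ (charDegree (θ : G → ℂ) : ℤ) ↔
      (p : ℤ) ^ (v + 1) ∣ (charDegree (χ1 : G → ℂ) : ℤ)) := by
    intro θ hθ
    rcases (T.union_eq ▸ hθ : θ ∈ nonExc X R f ∪ f '' R) with h | ⟨m, hm, rfl⟩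
    · have := not_iff_of_dvd_sub (p := p) hvn (hPcard ▸ T.dvd_nonExc P.2 h hχ1)
      rwa [hunit (T.coef_nonexc θ h.1 h.2).1, hunit (T.coef_nonexc χ1 hχ1.1 hχ1.2).1] at this
    · have := not_iff_of_dvd_sub (p := p) hvn (hPcard ▸ T.dvd_exc P.2 hχ1 hm)
      rw [hunit T.sign, hunit (T.coef_nonexc χ1 hχ1.1 hχ1.2).1] at this
      refine Iff.trans ⟨fun h => h.mul_left _, fun h => ?_⟩ this
      exact (((Nat.prime_iff_prime_int.mp hp).coprime_iff_not_dvd.mpr hpr).pow_left).dvd_of_dvd_mul_left h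
  have hno : ¬ (p : ℤ) ^ (v + 1) ∣ (charDegree (χ0 : G → ℂ) : ℤ) := by
    rw [← Nat.cast_pow, Int.natCast_dvd_natCast]
    exact fun h => by
      have := (hp.pow_dvd_iff_le_factorization (charDegree_pos χ0).ne').mp h
      omega
  have hle : (charDegree (χ : G → ℂ)).factorization p ≤ v := by
    by_contra h
    refine hno ((hall χ0 hχ0).mpr ((hall χ hχ).mp ?_))
    rw [← Nat.cast_pow, Int.natCast_dvd_natCast, hp.pow_dvd_iff_le_factorization (charDegree_pos χ).ne']
    omega
  unfold blockHeight at h0 ⊢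
  omega

end Tree

end CycData

/-- The stabilizer, read through conjugate characters. -/
theorem mem_stabT_iff_forall {D : Subgroup G}
    (c : Set (IrrCharacter (Subgroup.centralizer (D : Set G)))) (g : G) :
    g ∈ stabT D c ↔ g ∈ Subgroup.normalizer (D : Set G) ∧
      ∀ θ ∈ c, ∀ θ' : IrrCharacter (Subgroup.centralizer (D : Set G)),
        (∀ h h' : Subgroup.centralizer (D : Set G), (h' : G) = g * h * g⁻¹ →
          (θ' : Subgroup.centralizer (D : Set G) → ℂ) h' =
            (θ : Subgroup.centralizer (D : Set G) → ℂ) h) → θ' ∈ c := by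
  rw [mem_stabT_iff]
  refine and_congr_right fun hg => ⟨fun h θ hθ θ' hθ' => ?_, fun h => ?_⟩
  · obtain ⟨χ', hχ', hc⟩ := h.2 θ hθ
    obtain rfl : θ' = χ' := Subtype.ext (funext fun k => by
      have hk : g⁻¹ * (k : G) * g ∈ Subgroup.centralizer (D : Set G) := by
        have := (BlocksCore.conj_mem_centralizer_iff (x := (k : G)) (Subgroup.inv_mem _ hg)).mpr k.2
        rwa [inv_inv] at this
      rw [hθ' ⟨_, hk⟩ k (by group), hc ⟨_, hk⟩ k (by group)])
    exact hχ'
  · refine ⟨normalizer_le_normalizer_centralizer D hg, fun θ hθ => ?_⟩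
    set σ := (nEquiv (Subgroup.centralizer (D : Set G))
      (⟨g, normalizer_le_normalizer_centralizer D hg⟩ :
        Subgroup.normalizer (Subgroup.centralizer (D : Set G) : Set G))).symm
    have hc : IsConjCharOf (Subgroup.centralizer (D : Set G)) g
        (θ : Subgroup.centralizer (D : Set G) → ℂ) (pullIrr σ θ : _ → ℂ) := fun k k' hk => by
      rw [pullIrr_apply]
      refine congrArg θ.1 ((MulEquiv.symm_apply_eq _).mpr (Subtype.ext ?_))
      rw [hk]
      rfl
    exact ⟨_, h θ hθ _ hc, hc⟩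

theorem cycData_of_induced (hM : IsPModular p M) {B : Set (IrrCharacter G)} {D : Subgroup G}
    (hBD : IsDefectGroup p M B D) (hcyc : IsCyclic D) (hne : D ≠ ⊥)
    {c : Set (IrrCharacter (Subgroup.centralizer (D : Set G)))}
    (hc : IsInducedBlock M (Subgroup.centralizer (D : Set G)) c B) : CycData p M B D c :=
  ⟨hM, isMaximal_of_induced hM hBD (fun x hx y hy => by
    letI := IsCyclic.commGroup (α := D)
    exact congrArg Subtype.val (mul_comm (⟨x, hx⟩ : D) ⟨y, hy⟩)) hc, hcyc, hne⟩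

end Cfsg.Agent.BlkChar.CyclicDefect
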