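import Cfsg.Agent.BlkChar.CyclicDefect.Nilpotent
import Cfsg.Agent.Lib.BlocksDefect.Kulshammer
import Cfsg.Agent.BlockAlg8.TwoChar

/-!
# The centre of a nilpotent block with cyclic defect group

The class functions whose central characters are the values of the linear characters of the
defect group form a copy of the group algebra of the defect group in the centre of the block.
-/

set_option autoImplicit false
set_option linter.unusedSectionVars false

namespace Cfsg.Agent.BlkChar.CyclicDefect

open BlocksCore BlocksDefect BC85 BC85.Star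
local notation "𝕜" => BlocksDefect.Res
open scoped Classical ComplexConjugate

universe u

variable {G : Type u} [Group G] [Fintype G] {p : ℕ} [Fact p.Prime] {M : Ideal AlgInt}
  [hP : M.IsPrime] {B : Set (IrrCharacter G)} {P : Subgroup G}
  {e : Set (IrrCharacter (Subgroup.centralizer (P : Set G)))}

namespace NilData

variable (D : NilData p M B P e)
include D

/-- A member of the block. -/
noncomputable def base : IrrCharacter G := (isPBlock_nonempty D.isPBlock).choose

theorem base_mem : D.base ∈ B := (isPBlock_nonempty D.isPBlock).choose_spec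

/-- The normalising constant. -/
noncomputable def kap : ℂ := (Nat.card P : ℂ) * (D.base : G → ℂ) 1 / Nat.card G

/-- The element of the centre belonging to an element of the defect group. -/
noncomputable def yfun (u : P) : G → ℂ := fun g =>
  D.kap * starMul p M P e (dfun u⁻¹) (D.base : G → ℂ) g⁻¹

theorem yfun_class (u : P) : IsClassFunction G (D.yfun u) := fun g t => by
  simp only [yfun]
  rw [show (t * g * t⁻¹)⁻¹ = t * g⁻¹ * t⁻¹ by group,
    starMul_isClassFunction D.mod D.max (D.stable _) (irr_class _) g⁻¹ t]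

theorem degree_eq {χ : IrrCharacter G} (hχ : χ ∈ B) : (χ : G → ℂ) 1 = (D.base : G → ℂ) 1 :=
  D.regular_eq D.base_mem hχ (by rw [orderOf_one]; exact (Fact.out : p.Prime).not_dvd_one)

theorem omega_yfun_eq (u : P) [Fintype (P →* ℂˣ)] (ψ : IrrCharacter G) :
    omega (ψ : G → ℂ) (D.yfun u) = (D.base : G → ℂ) 1 / (ψ : G → ℂ) 1 *
      ∑ l : P →* ℂˣ, lf l u * (if D.twist l D.base = ψ then 1 else 0) := by
  have hG : (Nat.card G : ℂ) ≠ 0 := Nat.cast_ne_zero.mpr Nat.card_pos.ne'
  have hP0 : (Nat.card P : ℂ) ≠ 0 := Nat.cast_ne_zero.mpr Nat.card_pos.ne'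
  have h1 : ∑ g : G, D.yfun u g * (ψ : G → ℂ) g = D.kap * ((Nat.card G : ℂ) *
      classInner (starMul p M P e (dfun u⁻¹) (D.base : G → ℂ)) (ψ : G → ℂ)) := by
    rw [classInner, mul_inv_cancel_left₀ hG, Finset.mul_sum]
    refine Fintype.sum_equiv (Equiv.inv G) _ _ fun g => ?_
    simp only [yfun, Equiv.inv_apply, conj_irr, inv_inv]
    ring
  have h2 : classInner (starMul p M P e (dfun u⁻¹) (D.base : G → ℂ)) (ψ : G → ℂ) =
      (Nat.card P : ℂ)⁻¹ * ∑ l : P →* ℂˣ, lf l u * (if D.twist l D.base = ψ then 1 else 0) := by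
    rw [dfun_eq_sum D.cyc, show starMul p M P e
        (fun x => ∑ l : P →* ℂˣ, (Nat.card P : ℂ)⁻¹ * lf l u⁻¹⁻¹ * lf l x) (D.base : G → ℂ) =
        ∑ l : P →* ℂˣ, ((Nat.card P : ℂ)⁻¹ * lf l u) • (D.twist l D.base : G → ℂ) from
      funext fun g => by
        rw [starMul_sum, Finset.sum_apply]
        refine Finset.sum_congr rfl fun l _ => ?_
        rw [D.twist_coe l D.base_mem, inv_inv]
        rfl,
      CharCore.classInner_sum_left, Finset.mul_sum]
    refine Finset.sum_congr rfl fun l _ => ?_
    rw [CharCore.classInner_smul_left, mul_assoc]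
    split_ifs with h
    · rw [h, CharCore.classInner_irr_self]
    · rw [CharCore.classInner_irr_of_ne h]
  rw [omega_eq_sum, h1, h2, kap]
  field_simp

/-- The central character at the element belonging to `u`. -/
theorem omega_yfun (u : P) {ψ : IrrCharacter G} {l : P →* ℂˣ} (hl : D.twist l D.base = ψ) :
    omega (ψ : G → ℂ) (D.yfun u) = lf l u := by
  have := D.cyc
  have := finite_lin (P := P)
  letI := Fintype.ofFinite (P →* ℂˣ)
  subst hl
  rw [D.omega_yfun_eq, D.degree_eq (D.twist_mem l D.base_mem), div_self (irr_one_ne_zero _),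
    one_mul, Finset.sum_eq_single l]
  · rw [if_pos rfl, mul_one]
  · intro m _ hm
    rw [if_neg fun h => hm (D.twist_injective D.base_mem h), mul_zero]
  · exact fun h => absurd (Finset.mem_univ l) h

theorem omega_yfun_of_notMem (u : P) {ψ : IrrCharacter G} (hψ : ψ ∉ B) :
    omega (ψ : G → ℂ) (D.yfun u) = 0 := by
  have := D.cyc
  have := finite_lin (P := P)
  letI := Fintype.ofFinite (P →* ℂˣ)
  rw [D.omega_yfun_eq, Finset.sum_eq_zero, mul_zero]
  intro l _
  rw [if_neg fun h => hψ (by rw [← h]; exact D.twist_mem l D.base_mem), mul_zero]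

theorem yfun_one : D.yfun 1 = blockCoeff B := by
  refine eq_of_omega_eq (D.yfun_class 1) (isClassFunction_blockCoeff B) fun ψ => ?_
  rw [omega_blockCoeff]
  by_cases hψ : ψ ∈ B
  · obtain ⟨l, hl, -⟩ := D.torsor D.base D.base_mem ψ hψ
    rw [Set.indicator_of_mem hψ, D.omega_yfun 1 hl]
    simp [lf]
  · rw [Set.indicator_of_notMem hψ, D.omega_yfun_of_notMem 1 hψ]

theorem conv_yfun (u w : P) : conv (D.yfun u) (D.yfun w) = D.yfun (u * w) := by
  refine eq_of_omega_eq (isClassFunction_conv (D.yfun_class u) (D.yfun_class w))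
    (D.yfun_class _) fun ψ => ?_
  rw [omega_conv ψ (D.yfun_class u) (D.yfun_class w)]
  by_cases hψ : ψ ∈ B
  · obtain ⟨l, hl, -⟩ := D.torsor D.base D.base_mem ψ hψ
    rw [D.omega_yfun u hl, D.omega_yfun w hl, D.omega_yfun _ hl]
    simp [lf]
  · simp [D.omega_yfun_of_notMem _ hψ]

theorem kap_eq : ∃ m n : ℕ, ¬ p ∣ n ∧ D.kap = (m : ℂ) * (n : ℂ)⁻¹ := by
  have hp : p.Prime := Fact.out
  set c := charDegree (D.base : G → ℂ) with hc
  have hc0 : 0 < c := charDegree_pos D.base
  obtain ⟨n, hn⟩ := charDegree_dvd_card D.base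
  have hn0 : n ≠ 0 := fun h => Nat.card_pos.ne' (hn.trans (by rw [h, mul_zero]))
  have hd : blockDefect p B =
      (Nat.card G).factorization p - c.factorization p := by
    rw [blockDefect]
    congr 1
    have himg : (fun χ : IrrCharacter G => (charDegree (χ : G → ℂ)).factorization p) '' B =
        {c.factorization p} := by
      refine Set.eq_singleton_iff_unique_mem.mpr ⟨⟨_, D.base_mem, rfl⟩, ?_⟩
      rintro _ ⟨χ, hχ, rfl⟩
      have h := D.degree_eq hχ
      rw [irr_one_eq, irr_one_eq] at h
      show (charDegree (χ : G → ℂ)).factorization p = _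
      rw [show charDegree (χ : G → ℂ) = c from Nat.cast_injective h]
    rw [himg, csInf_singleton]
  have hcard := defectGroup_natCard D.mod D.isPBlock D.defect
  rw [hd, hn, Nat.factorization_mul hc0.ne' hn0, Finsupp.add_apply, Nat.add_sub_cancel_left] at hcard
  refine ⟨1, n / p ^ n.factorization p, Nat.not_dvd_ordCompl hp hn0, ?_⟩
  rw [kap, irr_one_eq, ← hc, hn, hcard, Nat.cast_mul, Nat.cast_one, one_mul,
    Nat.cast_div (Nat.ordProj_dvd n p) (Nat.cast_ne_zero.mpr (pow_ne_zero _ hp.ne_zero))]
  field_simp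
  exact div_self (Nat.cast_ne_zero.mpr hc0.ne')

theorem kap_mem : MemLocalRing M D.kap := by
  obtain ⟨m, n, hn, h⟩ := D.kap_eq
  rw [h]
  exact (localRing M).mul_mem (memLocalRing_natCast m) (memLocalRing_natCast_inv D.mod hn)

theorem starMul_dfun_mem (u : P) (g : G) :
    MemLocalRing M (starMul p M P e (dfun u) (D.base : G → ℂ) g) := by
  rw [starMul, starFun_def]
  refine (localRing M).sum_mem fun a ha => (localRing M).mul_mem ?_ ?_
  · rw [etaOf]
    split_ifs
    · unfold dfun
      split_ifs
      · exact (localRing M).one_mem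
      · exact (localRing M).zero_mem
    · exact (localRing M).zero_mem
  · exact (localRing M).sum_mem fun c _ => (localRing M).mul_mem (bp_mem D.mod ha c)
      (memLocalRing_of_mem (isIntegral_irr D.base _))

theorem yfun_int (u : P) : IsIntClassFun M (D.yfun u) :=
  ⟨D.yfun_class u, fun _ => (localRing M).mul_mem D.kap_mem (D.starMul_dfun_mem _ _)⟩

theorem yfun_regular {u : P} (hu : u ≠ 1) {g : G} (hg : ¬ p ∣ orderOf g) : D.yfun u g = 0 := by
  rw [yfun, starMul_regular D.mod D.max (D.stable _) D.base_mem (by rwa [orderOf_inv]), dfun,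
    if_neg fun h => hu (inv_eq_one.mp h.symm), zero_mul, mul_zero]

theorem blockCoeff_singular {g : G} (hg : p ∣ orderOf g) : blockCoeff B g = 0 := by
  rw [← D.yfun_one, yfun, inv_one, D.starMul_dfun_one D.base_mem,
    BC85.pRegularPart_neg (by rwa [orderOf_inv]), mul_zero]

/-- The element of the residue group algebra belonging to `u`. -/
noncomputable def yel (u : P) : MonoidAlgebra (𝕜 M) G := toAlg M (D.yfun u)

theorem yel_mul (u w : P) : D.yel u * D.yel w = D.yel (u * w) := by
  rw [yel, yel, ← toAlg_conv (D.yfun_int u).2 (D.yfun_int w).2, D.conv_yfun, yel]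

theorem yel_one : D.yel 1 = toAlg M (blockCoeff B) := by rw [yel, D.yfun_one]

theorem yel_linearIndependent : LinearIndependent (𝕜 M) D.yel := by
  refine Fintype.linearIndependent_iff.mpr fun a ha w => ?_
  obtain ⟨g₀, hg₀, -⟩ := D.defect
  have hreg : ¬ p ∣ orderOf g₀ := fun h => hg₀.2.1 (by
    rw [D.blockCoeff_singular h]; exact memLocalIdeal_zero)
  have h1 := congrArg (fun z : MonoidAlgebra (𝕜 M) G => (z * D.yel w⁻¹).coeff g₀) ha
  simp only [Finset.sum_mul, smul_mul_assoc, D.yel_mul, zero_mul, MonoidAlgebra.coeff_sum,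
    Finsupp.finsetSum_apply, MonoidAlgebra.coeff_smul, Finsupp.smul_apply, smul_eq_mul,
    MonoidAlgebra.coeff_zero, Finsupp.zero_apply] at h1
  rw [Finset.sum_eq_single w] at h1
  · rw [mul_inv_cancel, D.yel_one, BlockAlg8.coeff_toAlg] at h1
    refine (mul_eq_zero.mp h1).resolve_right fun h => hg₀.2.1 ?_
    rw [show (0 : 𝕜 M) = red M 0 from (red_eq_zero memLocalIdeal_zero).symm,
      red_eq_iff hg₀.1 (localRing M).zero_mem, sub_zero] at h
    exact h
  · intro v _ hv
    rw [yel, BlockAlg8.coeff_toAlg, D.yfun_regular (fun h => hv (mul_inv_eq_one.mp h)) hreg,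
      red_eq_zero memLocalIdeal_zero, mul_zero]
  · exact fun h => absurd (Finset.mem_univ w) h

end NilData

end Cfsg.Agent.BlkChar.CyclicDefect
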