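import Cfsg.Agent.BlkChar.CyclicDefect.Free

/-!
# The block algebra at the subgroup of order `p`
-/

set_option autoImplicit false
set_option linter.unusedSectionVars false

namespace Cfsg.Agent.BlkChar.CyclicDefect

open scoped Classical
open Finset MonoidAlgebra

variable {K : Type*} [Field K]

namespace Shape

variable {A : Type*} [Ring A] [Algebra K A] {ε π : A} {N n : ℕ} [NeZero n]
  {R : A →ₐ[K] Matrix (Fin n) (Fin n) K} {f : A} {U V : Fin n → A}
  (S : Shape ε π N n R f U V)

include S

theorem pow_comm (k : ℕ) (a : A) : π ^ k * a = a * π ^ k :=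
  (Commute.pow_left (show Commute π a from S.piComm a) k).eq

theorem R_pi : R π = 0 := by
  obtain ⟨c, hc⟩ := Matrix.mem_range_scalar_of_commute_single (M := R π) fun i j _ => by
    obtain ⟨a, ha⟩ := S.surj (Matrix.single i j 1)
    show Matrix.single i j 1 * R π = R π * Matrix.single i j 1
    rw [← ha, ← map_mul, ← map_mul, S.piComm a]
  have h1 : R π ^ N = 0 := by rw [← map_pow, S.piN, map_zero]
  rw [← hc, ← map_pow] at h1
  have h2 := congrFun (congrFun h1 0) 0
  simp at h2
  rw [← hc, h2.1, map_zero]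

theorem R_mul_eps (x : A) : R (ε * x) = R x := by rw [map_mul, S.map_eps, one_mul]

theorem fcf (x : A) (a b : Fin n) :
    f * (V a * x * U b) = V a * x * U b ∧ V a * x * U b * f = V a * x * U b :=
  ⟨by rw [← mul_assoc, ← mul_assoc, S.fV], by rw [mul_assoc, S.Uf]⟩

theorem R_corner {c : A} (hf1 : f * c = c) (hf2 : c * f = c) :
    R c = Matrix.single 0 0 (R c 0 0) := by
  conv_lhs => rw [← hf1, ← hf2, map_mul, map_mul, S.map_f]
  rw [← Matrix.mul_assoc, Matrix.single_mul_mul_single, one_mul, mul_one]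

/-- An element of the corner is its constant term modulo the nilpotent generator. -/
theorem corner_split {c : A} (hf1 : f * c = c) (hf2 : c * f = c) :
    ∃ c', c = R c 0 0 • f + π * c' := by
  obtain ⟨t, ht⟩ := S.corner c hf1 hf2
  set j0 : Fin N := ⟨0, S.pos⟩
  have hR : R c 0 0 = t j0 := by
    rw [ht, map_sum, Matrix.sum_apply, Finset.sum_eq_single j0]
    · simp [j0, S.map_f]
    · intro j _ hj
      have : 0 < (j : ℕ) := Nat.pos_of_ne_zero fun h => hj (Fin.ext h)
      rw [map_smul, map_mul, map_pow, S.R_pi, zero_pow this.ne', zero_mul, smul_zero,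
        Matrix.zero_apply]
    · exact fun h => absurd (Finset.mem_univ j0) h
  refine ⟨∑ j ∈ Finset.univ.erase j0, t j • (π ^ ((j : ℕ) - 1) * f), ?_⟩
  rw [hR]
  conv_lhs => rw [ht, ← Finset.add_sum_erase _ _ (Finset.mem_univ j0)]
  congr 1
  · simp [j0]
  · rw [Finset.mul_sum]
    refine Finset.sum_congr rfl fun j hj => ?_
    rw [mul_smul_comm, ← mul_assoc, ← pow_succ', Nat.sub_add_cancel
      (Nat.one_le_iff_ne_zero.mpr fun h => (Finset.mem_erase.mp hj).1 (Fin.ext h))]

theorem mul_U (x : A) (a : Fin n) : x * U a = ∑ b, U b * (V b * x * U a) := by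
  conv_lhs => rw [← S.εU a, ← mul_assoc, ← S.comm, mul_assoc, ← S.UV, Finset.sum_mul]
  simp only [mul_assoc]

theorem V_mul (x : A) (a : Fin n) : V a * x = ∑ b, V a * x * U b * V b + V a * x * (1 - ε) := by
  rw [mul_sub, mul_one]
  rw [Finset.sum_congr rfl fun b _ => mul_assoc (V a * x) (U b) (V b), ← Finset.mul_sum, S.UV,
    add_sub_cancel]

theorem expand {z : A} (hz : ε * z = z) : z = ∑ a, ∑ b, U a * (V a * z * U b) * V b := by
  have e : z = ε * z * ε := by rw [mul_assoc, ← S.comm z, hz, hz]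
  conv_lhs => rw [e, ← S.UV]
  simp only [Finset.mul_sum, Finset.sum_mul, mul_assoc]
  exact Finset.sum_comm

/-- The kernel of the simple module in the block. -/
theorem exists_of_R_eq_zero {z : A} (hz : ε * z = z) (h : R z = 0) : ∃ z', z = π * z' := by
  have hc : ∀ a b, ∃ c', V a * z * U b = π * c' := fun a b => by
    obtain ⟨c', hc'⟩ := S.corner_split (S.fcf z a b).1 (S.fcf z a b).2
    refine ⟨c', ?_⟩
    rw [map_mul, map_mul, h] at hc'
    simpa using hc'
  choose c' hc' using hc
  refine ⟨∑ a, ∑ b, U a * c' a b * V b, ?_⟩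
  conv_lhs => rw [S.expand hz]
  rw [Finset.mul_sum]
  refine Finset.sum_congr rfl fun a _ => ?_
  rw [Finset.mul_sum]
  refine Finset.sum_congr rfl fun b _ => ?_
  rw [hc', ← mul_assoc (U a), ← S.piComm (U a)]
  simp only [mul_assoc]

/-- A central element of the block killed by the corner idempotent is zero. -/
theorem central_eq_zero {d : A} (hd : ∀ a, d * a = a * d) (hε : d * ε = d) (hf : d * f = 0) :
    d = 0 := by
  rw [← hε, ← S.UV, Finset.mul_sum]
  refine Finset.sum_eq_zero fun a _ => ?_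
  rw [← mul_assoc, hd (U a), mul_assoc, ← S.fV a, ← mul_assoc d, hf, zero_mul, mul_zero]

theorem eps_pow_mul {k : ℕ} (hk : 0 < k) : ε * π ^ k = π ^ k := by
  obtain ⟨j, rfl⟩ := Nat.exists_eq_succ_of_ne_zero hk.ne'
  rw [pow_succ', ← mul_assoc, S.piEps]

theorem top_ne_zero : π ^ (N - 1) * ε ≠ 0 := by
  intro h
  have h1 : π ^ (N - 1) * f = 0 := by rw [← S.εf, ← mul_assoc, h, zero_mul]
  have h2 := S.indep (fun j => if (j : ℕ) = N - 1 then 1 else 0) (by
    refine Finset.sum_eq_zero fun j _ => ?_
    split_ifs with hj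
    · rw [one_smul, hj, h1]
    · rw [zero_smul])
  have h3 := congrFun h2 ⟨N - 1, Nat.sub_lt S.pos one_pos⟩
  simp at h3

end Shape

/-- The block algebra with the position of the element of order `p`. -/
structure Core {H : Type*} [Group H] (p : ℕ) (z : H) (ε π w : MonoidAlgebra K H) (N q n : ℕ)
    [NeZero n] (R : MonoidAlgebra K H →ₐ[K] Matrix (Fin n) (Fin n) K) (f : MonoidAlgebra K H)
    (U V : Fin n → MonoidAlgebra K H) : Prop where
  shape : Shape ε π N n R f U V
  z_pow : z ^ p = 1
  z_central : ∀ h : H, Commute z h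
  zfac : (of K H z - 1) * ε = π ^ q * w
  qpos : 0 < q
  N_eq : N = p * q

section Range

variable {H : Type*} [Group H] {p : ℕ} [Fact p.Prime] [CharP K p] {z : H}
  {ε π w : MonoidAlgebra K H} {q : ℕ} {Y : Type*} [AddCommGroup Y] [Module K Y]

/-- Vectors killed by the complementary power are in the image. -/
theorem exists_range_of_free (σ : Representation K H Y) (hzp : z ^ p = 1)
    (hπc : ∀ a, π * a = a * π) (hεc : ∀ a, ε * a = a * ε)
    (hfac : (of K H z - 1) * ε = π ^ q * w)
    (hμ : ∃ μ : Module.End K Y, ∑ j ∈ range p, σ z ^ j * μ * σ z ^ (p - j) = 1) {y : Y}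
    (hy : σ.asAlgebraHom ε y = y) (hy0 : σ.asAlgebraHom (π ^ (q * (p - 1))) y = 0) :
    ∃ x, y = σ.asAlgebraHom (π ^ q) x := by
  set a : MonoidAlgebra K H := of K H z - 1 with ha
  have hpc : ∀ (k : ℕ) b, π ^ k * b = b * π ^ k := fun k b =>
    (Commute.pow_left (show Commute π b from hπc b) k).eq
  have hae : ∀ k, a ^ k * ε ^ k = π ^ (q * k) * w ^ k := fun k => by
    rw [← (show Commute a ε from (hεc a).symm).mul_pow, hfac,
      (show Commute (π ^ q) w from hpc q w).mul_pow, pow_mul]
  have hek : σ.asAlgebraHom (ε ^ (p - 1)) y = y := by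
    induction (p - 1) with
    | zero => simp
    | succ k ih => rw [pow_succ, map_mul, Module.End.mul_apply, hy, ih]
  have h1 : σ.asAlgebraHom (a ^ (p - 1)) y = 0 := by
    conv_lhs => rw [← hek, ← Module.End.mul_apply, ← map_mul, hae, hpc, map_mul,
      Module.End.mul_apply, hy0, map_zero]
  have hza : σ.asAlgebraHom a = σ z - 1 := by
    rw [ha, map_sub, Representation.asAlgebraHom_of, map_one]
  obtain ⟨μ, hμ⟩ := hμ
  obtain ⟨x, hx⟩ := exists_sub_eq (σ z) μ p (by rw [← map_pow, hzp, map_one]) hμ (v := y) (by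
    rw [← LinearMap.sum_apply, geom_eq_pow (K := K) (σ z), ← hza, ← map_pow, h1])
  refine ⟨σ.asAlgebraHom w x, ?_⟩
  rw [← Module.End.mul_apply, ← map_mul, ← hfac, ← hεc, map_mul, Module.End.mul_apply, hza,
    LinearMap.sub_apply, Module.End.one_apply, hx, hy]

end Range

namespace Core

variable {H : Type*} [Group H] {p : ℕ} [Fact p.Prime] [CharP K p] {z : H}
  {ε π w : MonoidAlgebra K H} {N q n : ℕ} [NeZero n]
  {R : MonoidAlgebra K H →ₐ[K] Matrix (Fin n) (Fin n) K} {f : MonoidAlgebra K H}
  {U V : Fin n → MonoidAlgebra K H} (C : Core p z ε π w N q n R f U V)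

include C

theorem two_le : 2 ≤ N := by
  rw [C.N_eq]
  calc 2 = 2 * 1 := rfl
    _ ≤ p * q := Nat.mul_le_mul (Fact.out : p.Prime).two_le C.qpos

/-- On a module where the subgroup of order `p` acts freely, vectors of the block not reaching
the socle power are divisible by the generator. -/
theorem exists_pi_of_free {Y : Type*} [AddCommGroup Y] [Module K Y] (σ : Representation K H Y)
    (hμ : ∃ μ : Module.End K Y, ∑ j ∈ range p, σ z ^ j * μ * σ z ^ (p - j) = 1) {y : Y}
    (hy : σ.asAlgebraHom ε y = y) (hy0 : σ.asAlgebraHom (π ^ (N - 1)) y = 0) :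
    ∃ x, y = σ.asAlgebraHom π x := by
  have hp2 := (Fact.out : p.Prime).two_le
  obtain ⟨q', rfl⟩ : ∃ q', q = q' + 1 := ⟨q - 1, (Nat.sub_add_cancel C.qpos).symm⟩
  have hN : N - 1 = (q' + 1) * (p - 1) + q' := by
    obtain ⟨p', rfl⟩ : ∃ p', p = p' + 1 := ⟨p - 1, by omega⟩
    rw [C.N_eq, Nat.add_sub_cancel]
    ring_nf
    omega
  have hAε : ∀ b (v : Y), σ.asAlgebraHom ε v = v →
      σ.asAlgebraHom ε (σ.asAlgebraHom b v) = σ.asAlgebraHom b v := fun b v hv => by
    rw [← Module.End.mul_apply, ← map_mul, C.shape.comm, map_mul, Module.End.mul_apply, hv]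
  rw [hN, pow_add, map_mul, Module.End.mul_apply] at hy0
  obtain ⟨x, hx⟩ := exists_range_of_free σ C.z_pow C.shape.piComm C.shape.comm C.zfac hμ
    (hAε _ y hy) hy0
  set r := y - σ.asAlgebraHom π (σ.asAlgebraHom ε x) with hr
  have hεr : σ.asAlgebraHom ε r = r := by
    rw [hr, map_sub, hy, ← Module.End.mul_apply, ← map_mul, C.shape.piEps]
  have hr0 : σ.asAlgebraHom (π ^ q') r = 0 := by
    rw [hr, map_sub, hx, ← Module.End.mul_apply, ← map_mul, ← pow_succ, ← Module.End.mul_apply,
      ← map_mul, ← C.shape.comm, C.shape.eps_pow_mul (Nat.succ_pos _), sub_self]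
  have hle : q' ≤ (q' + 1) * (p - 1) :=
    (Nat.le_succ q').trans (Nat.le_mul_of_pos_right _ (by omega))
  obtain ⟨x', hx'⟩ := exists_range_of_free σ C.z_pow C.shape.piComm C.shape.comm C.zfac hμ hεr (by
    rw [← Nat.sub_add_cancel hle, pow_add, map_mul, Module.End.mul_apply, hr0, map_zero])
  refine ⟨σ.asAlgebraHom ε x + σ.asAlgebraHom (π ^ q') x', ?_⟩
  rw [map_add, ← Module.End.mul_apply (σ.asAlgebraHom π) (σ.asAlgebraHom (π ^ q')), ← map_mul,
    ← pow_succ', ← hx', hr, add_sub_cancel]

end Core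

/-- The position of a central element of order `p` in a block of the shape above. -/
theorem exists_core {H : Type*} [Group H] [Fintype H] {p : ℕ} [Fact p.Prime] [CharP K p] {z : H}
    (hz : orderOf z = p) (hzc : ∀ h : H, Commute z h) {ε π : MonoidAlgebra K H} {N n : ℕ}
    [NeZero n] {R : MonoidAlgebra K H →ₐ[K] Matrix (Fin n) (Fin n) K} {f : MonoidAlgebra K H}
    {U V : Fin n → MonoidAlgebra K H} (S : Shape ε π N n R f U V) :
    ∃ q w, Core p z ε π w N q n R f U V ∧ R (of K H z) = 1 := by
  have hp : p.Prime := Fact.out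
  have hzp : z ^ p = 1 := by rw [← hz, pow_orderOf_eq_one]
  have hcom : ∀ a : MonoidAlgebra K H, of K H z * a = a * of K H z := fun a => by
    induction a using MonoidAlgebra.induction_on with
    | of h => rw [← map_mul, ← map_mul, (hzc h).eq]
    | add a b ha hb => rw [mul_add, add_mul, ha, hb]
    | smul c a ha => rw [mul_smul_comm, smul_mul_assoc, ha]
  have hRz : R (of K H z) = 1 := by
    obtain ⟨c, hc⟩ := Matrix.mem_range_scalar_of_commute_single (M := R (of K H z)) fun i j _ => by
      obtain ⟨a, ha⟩ := S.surj (Matrix.single i j 1)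
      show Matrix.single i j 1 * R (of K H z) = R (of K H z) * Matrix.single i j 1
      rw [← ha, ← map_mul, ← map_mul, hcom a]
    have h1 : R (of K H z) ^ p = 1 := by rw [← map_pow, ← map_pow, hzp, map_one, map_one]
    rw [← hc, ← map_pow] at h1
    have h2 := congrFun (congrFun h1 0) 0
    simp at h2
    have h3 : (c - 1) ^ p = 0 := by rw [sub_pow_char, h2, one_pow, sub_self]
    rw [← hc, sub_eq_zero.mp (pow_eq_zero_iff hp.ne_zero |>.mp h3), map_one]
  set d := (of K H z - 1) * ε with hd
  have hdc : ∀ a, d * a = a * d := fun a => by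
    rw [hd, mul_assoc, S.comm, ← mul_assoc, ← mul_assoc, sub_mul (of K H z) 1 a, mul_sub a, hcom,
      one_mul, mul_one]
  have hdε : d * ε = d := by rw [hd, mul_assoc, S.idem]
  obtain ⟨t, ht⟩ := S.corner (d * f)
    (by rw [← mul_assoc, ← hdc f, mul_assoc, S.ff]) (by rw [mul_assoc, S.ff])
  have ht0 : t ⟨0, S.pos⟩ = 0 := by
    have h1 := congrArg (fun x => R x 0 0) ht
    rw [hd] at h1
    simp only [map_mul, map_sub, map_one, hRz, sub_self, zero_mul, map_sum] at h1
    rw [Matrix.sum_apply, Finset.sum_eq_single ⟨0, S.pos⟩] at h1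
    · simpa [S.map_f] using h1.symm
    · intro j _ hj
      have : 0 < (j : ℕ) := Nat.pos_of_ne_zero fun h => hj (Fin.ext h)
      rw [map_smul, map_mul, map_pow, S.R_pi, zero_pow this.ne', zero_mul, smul_zero,
        Matrix.zero_apply]
    · exact fun h => absurd (Finset.mem_univ _) h
  -- the left regular module
  let σ : Representation K H (H → K) := funRep (Representation.trivial K H K) H
  have hμ := funRep_higman (Representation.trivial K H K) H hp.pos hzp
    (fun ω j hj hjp h => by
      have h1 : z ^ j = 1 := by simpa [smul_eq_mul] using h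
      exact (Nat.le_of_dvd hj (hz ▸ orderOf_dvd_of_pow_eq_one h1)).not_gt hjp)
  set δ : H → K := fun x => if x = 1 then 1 else 0 with hδ
  have hσ : ∀ a : MonoidAlgebra K H, σ.asAlgebraHom a δ = fun x => a.coeff x := fun a => by
    induction a using MonoidAlgebra.induction_on with
    | of h =>
      rw [Representation.asAlgebraHom_of]
      funext x
      simp [σ, funRep_apply, hδ, Finsupp.single_apply, inv_mul_eq_one]
    | add a b ha hb => rw [map_add, LinearMap.add_apply, ha, hb]; funext x; simp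
    | smul c a ha => rw [map_smul, LinearMap.smul_apply, ha]; funext x; simp
  have hinj : ∀ a : MonoidAlgebra K H, σ.asAlgebraHom a δ = 0 → a = 0 := fun a h => by
    rw [hσ] at h
    exact MonoidAlgebra.ext (Finsupp.ext fun x => congrFun h x)
  have hεc' : ∀ a, σ.asAlgebraHom (a * ε) δ = σ.asAlgebraHom a (σ.asAlgebraHom ε δ) :=
    fun a => by rw [map_mul, Module.End.mul_apply]
  -- the first non-zero coefficient
  obtain ⟨j1, hj1⟩ : ∃ j, t j ≠ 0 := by
    by_contra h
    push Not at h
    have hd0 : d = 0 := S.central_eq_zero hdc hdε (by rw [ht]; simp [h])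
    obtain ⟨x, hx⟩ := exists_range_of_free (q := N) (w := (0 : MonoidAlgebra K H)) σ hzp S.piComm
      S.comm (by rw [← hd, hd0, mul_zero]) hμ
      (y := σ.asAlgebraHom ε δ) (by rw [← hεc', S.idem])
      (by
        rw [← hεc', ← Nat.sub_add_cancel (Nat.le_mul_of_pos_right N
          (Nat.sub_pos_of_lt hp.one_lt) : N ≤ N * (p - 1)), pow_add, S.piN, mul_zero, zero_mul,
          map_zero, LinearMap.zero_apply])
    rw [S.piN, map_zero, LinearMap.zero_apply] at hx
    exact S.top_ne_zero (by rw [hinj ε hx, mul_zero])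
  have hex : ∃ k, ∃ h : k < N, t ⟨k, h⟩ ≠ 0 := ⟨j1, j1.2, hj1⟩
  obtain ⟨hqN, htq⟩ := Nat.find_spec hex
  set q := Nat.find hex with hq
  have hqpos : 0 < q := by
    by_contra h0
    rw [not_lt, nonpos_iff_eq_zero] at h0
    exact htq (by convert ht0 using 2; exact Fin.ext h0)
  set w0 : MonoidAlgebra K H :=
    ∑ j ∈ Finset.univ.filter (fun j : Fin N => q ≤ (j : ℕ)), t j • π ^ ((j : ℕ) - q) with hw0
  have hdw : d = π ^ q * (w0 * ε) := by
    refine sub_eq_zero.mp (S.central_eq_zero (fun a => ?_) ?_ ?_)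
    · have h1 : ∀ b, π ^ q * (w0 * ε) * b = b * (π ^ q * (w0 * ε)) := fun b => by
        have hw : Commute w0 b := Commute.sum_left _ _ _ fun j _ =>
          Commute.smul_left (S.pow_comm _ b) _
        exact (Commute.mul_left (S.pow_comm q b) (hw.mul_left (S.comm b))).eq
      rw [sub_mul, mul_sub, hdc, h1]
    · rw [sub_mul, hdε, mul_assoc (π ^ q), mul_assoc w0, S.idem]
    · rw [sub_mul, ht, mul_assoc, mul_assoc, S.εf, hw0, Finset.sum_mul, Finset.mul_sum, sub_eq_zero,
        ← Finset.sum_filter_add_sum_filter_not Finset.univ (fun j : Fin N => q ≤ (j : ℕ)),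
        Finset.sum_eq_zero (s := Finset.univ.filter fun j : Fin N => ¬ q ≤ (j : ℕ)) fun j hj => ?_,
        add_zero]
      · refine Finset.sum_congr rfl fun j hj => ?_
        rw [smul_mul_assoc, mul_smul_comm, ← mul_assoc, ← pow_add,
          Nat.add_sub_cancel' (Finset.mem_filter.mp hj).2]
      · have h2 := Nat.find_min hex (not_le.mp (Finset.mem_filter.mp hj).2)
        push Not at h2
        rw [show t j = 0 from h2 j.2, zero_smul]
  -- the unit
  obtain ⟨b, hb⟩ : ∃ b, w0 = t ⟨q, hqN⟩ • 1 + π * b := by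
    refine ⟨∑ j ∈ Finset.univ.filter (fun j : Fin N => q < (j : ℕ)),
      t j • π ^ ((j : ℕ) - q - 1), ?_⟩
    rw [hw0, show Finset.univ.filter (fun j : Fin N => q ≤ (j : ℕ)) =
      insert ⟨q, hqN⟩ (Finset.univ.filter (fun j : Fin N => q < (j : ℕ))) from ?_,
      Finset.sum_insert (by simp), Finset.mul_sum]
    · congr 1
      · simp
      · refine Finset.sum_congr rfl fun j hj => ?_
        have := (Finset.mem_filter.mp hj).2
        rw [mul_smul_comm, ← pow_succ', Nat.sub_add_cancel (by omega)]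
    · ext j
      simp [Fin.ext_iff]
      omega
  obtain ⟨u, hu⟩ : IsUnit w0 := by
    rw [hb]
    refine IsNilpotent.isUnit_add_left_of_commute ⟨N, ?_⟩
      (by rw [← Algebra.algebraMap_eq_smul_one]; exact (isUnit_iff_ne_zero.mpr htq).map _) ?_
    · rw [(show Commute π b from S.piComm b).mul_pow, S.piN, zero_mul]
    · exact (Commute.one_right _).smul_right _
  -- the exponent
  have hle1 : N ≤ p * q := by
    by_contra hlt
    rw [not_le] at hlt
    have h1 : d ^ p = 0 := by
      rw [hd, (show Commute (of K H z - 1) ε from (S.comm _).symm).mul_pow]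
      have : CharP (MonoidAlgebra K H) p :=
        charP_of_injective_algebraMap (FaithfulSMul.algebraMap_injective K _) p
      rw [sub_pow_char_of_commute _ (Commute.one_right _), ← map_pow, hzp, map_one, one_pow,
        sub_self, zero_mul]
    rw [hdw, (show Commute (π ^ q) (w0 * ε) from S.pow_comm q _).mul_pow,
      (show Commute w0 ε from (S.comm w0).symm).mul_pow,
      show ε ^ p = ε from by
        obtain ⟨k, hk⟩ := Nat.exists_eq_succ_of_ne_zero hp.ne_zero
        rw [hk, IsIdempotentElem.pow_succ_eq k (show IsIdempotentElem ε from S.idem)],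
      ← pow_mul, mul_comm q p, ← hu, ← Units.val_pow_eq_pow_val, ← mul_assoc,
      S.pow_comm, mul_assoc] at h1
    have h2 := congrArg (fun x => π ^ (N - 1 - p * q) * ((↑(u ^ p)⁻¹ : MonoidAlgebra K H) * x)) h1
    simp only [Units.inv_mul_cancel_left, mul_zero, ← mul_assoc (π ^ _) (π ^ _), ← pow_add] at h2
    exact S.top_ne_zero (by rwa [Nat.sub_add_cancel (by omega : p * q ≤ N - 1)] at h2)
  have hle2 : p * q ≤ N := by
    set k := N - q * (p - 1) with hk
    obtain ⟨x, hx⟩ := exists_range_of_free (q := q) (w := w0 * ε) σ hzp S.piComm S.comm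
      (by rw [← hd]; exact hdw) hμ (y := σ.asAlgebraHom (π ^ k * ε) δ)
      (by
        rw [← Module.End.mul_apply, ← map_mul, ← mul_assoc, S.comm (π ^ k), mul_assoc, S.idem])
      (by
        rw [← Module.End.mul_apply, ← map_mul, ← mul_assoc, ← pow_add,
          ← Nat.sub_add_cancel (show N ≤ q * (p - 1) + k by omega), pow_add, S.piN, mul_zero,
          zero_mul, map_zero, LinearMap.zero_apply])
    by_contra hlt
    rw [not_le] at hlt
    have hkq : k < q := by
      have : p * q = q * (p - 1) + q := by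
        conv_lhs => rw [← Nat.sub_add_cancel hp.one_le]
        ring
      omega
    have h2 := congrArg (σ.asAlgebraHom (π ^ (N - 1 - k))) hx
    rw [← Module.End.mul_apply, ← map_mul, ← Module.End.mul_apply, ← map_mul, ← mul_assoc,
      ← pow_add, ← pow_add, Nat.sub_add_cancel (by omega : k ≤ N - 1),
      ← Nat.sub_add_cancel (show N ≤ N - 1 - k + q by omega), pow_add _ _ N, S.piN, mul_zero,
      map_zero, LinearMap.zero_apply] at h2
    exact S.top_ne_zero (hinj _ h2)
  exact ⟨q, w0 * ε, ⟨S, hzp, hzc, by rw [← hd]; exact hdw, hqpos, le_antisymm hle1 hle2⟩, hRz⟩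

end Cfsg.Agent.BlkChar.CyclicDefect
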