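import Cfsg.Agent.BlkChar.CyclicDefect.Match
import Cfsg.Agent.BC85.Pairs.AbelianInertia
import Cfsg.Agent.BC85.Pairs.Lift
import Cfsg.Agent.BC85.Pairs.Principal
import Cfsg.Agent.BC85.Star.NilpotentMain
import Cfsg.Agent.Lib.BlocksDefect.Kernel
import Cfsg.Agent.Lib.CharCore.Linear

/-!
# Correspondents and the model group
-/

set_option autoImplicit false
set_option linter.unusedSectionVars false
set_option linter.style.haveILetI false

namespace Cfsg.Agent.BlkChar.CyclicDefect

open BlocksCore BlocksDefect BC85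
open scoped Classical

universe u

variable {G : Type u} [Group G] [Fintype G] {p : ℕ} [Fact p.Prime] {M : Ideal AlgInt}
  [hP : M.IsPrime]

/-- The data of a block and of its correspondent in a group containing the stabilizer. -/
theorem exists_correspondent (hM : IsPModular p M) {B : Set (IrrCharacter G)} (hB : IsPBlock M B)
    {P : Subgroup G} (hPD : IsDefectGroup p M B P) (hcyc : IsCyclic P) (hP1 : P ≠ ⊥)
    {N : Subgroup G} (hPN : P ≤ N) (hCN : Subgroup.centralizer (P : Set G) ≤ N)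
    (hTN : ∀ f : Set (IrrCharacter (Subgroup.centralizer (P : Set G))), stabT P f ≤ N)
    {c : Set (IrrCharacter N)} (hcD : IsDefectGroup p M c (P.subgroupOf N))
    (hc : IsInducedBlock M N c B) :
    ∃ c₀ c₁, ∃ X : CycData p M B P c₀, ∃ Y : CycData p M c (P.subgroupOf N) c₁, Y.ei = X.ei := by
  obtain ⟨c₁, hc₁⟩ := exists_pairOf_of_subConj hM hc.1 hcD (isPGroup_of_isDefectGroup hcD)
    (BC85.Star.subConj_refl' _)
  have hmap : (P.subgroupOf N).map N.subtype = P := Subgroup.map_subgroupOf_eq_of_le hPN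
  obtain ⟨⟨P₀, c₀⟩, hc₀, hlift⟩ := exists_exactLift hM (⟨P.subgroupOf N, c₁⟩ : BrauerPairIdx N)
    (by rw [hmap]; exact hCN) hc₁.1.2
  obtain rfl : P = P₀ := (hlift.2.trans hmap).symm
  obtain ⟨B', hB', -⟩ := existsUnique_block_of_pair hM (P := P) (e := c₀)
    ⟨isPGroup_of_isDefectGroup hPD, hc₀⟩
  have hsub' : c₁ ⊆ cset M (P.subgroupOf N) (blockCoeff c) :=
    ((isBrauerPairOf_iff hM).mp hc₁).2.2
  have hBB : B' = B := BC84.induced_unique hM
    (isInducedBlock_of_over hM hPN hCN hB' hc.1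
      ((hlift.1.subset_cset_iff fun x => subgroupBlockCoeff_coe N c x).mpr hsub')) hc
  subst hBB
  have hcyc' : IsCyclic (P.subgroupOf N) := (Subgroup.subgroupOfEquivOfLe hPN).isCyclic.mpr hcyc
  have hne' : P.subgroupOf N ≠ ⊥ := fun h => hP1 (by rw [← hmap, h, Subgroup.map_bot])
  refine ⟨c₀, c₁, ⟨hM, isMaximal_of_defect hM hPD hB', hcyc, hP1⟩,
    ⟨hM, isMaximal_of_defect hM hcD hc₁, hcyc', hne'⟩, ?_⟩
  have hS : stabT (P.subgroupOf N) c₁ = (stabT P c₀).subgroupOf N :=
    Subgroup.ext fun x => ((mem_stab_unlift hM hlift x).symm : _)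
  have hC' : Subgroup.centralizer ((P.subgroupOf N) : Set N) =
      (Subgroup.centralizer (P : Set G)).subgroupOf N :=
    Subgroup.ext fun x => (mem_centralizer_subgroupOf hPN x).trans Iff.rfl
  rw [CycData.ei, CycData.ei, hS, hC', Subgroup.relIndex_subgroupOf (hTN c₀)]

/-- A normal `p`-subgroup containing its centralizer leaves one block. -/
theorem sameBlock_of_centralizer_le (hM : IsPModular p M) (Q : Subgroup G) [Q.Normal]
    (hQ : IsPGroup p Q) (hle : Subgroup.centralizer (Q : Set G) ≤ Q) (χ ψ : IrrCharacter G) :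
    SameBlock M (χ : G → ℂ) (ψ : G → ℂ) := by
  intro g
  by_cases hg : ∀ x, IsConj g x → x ∉ Subgroup.centralizer (Q : Set G)
  · exact BlocksCore.memLocalIdeal_sub
      (BlocksDefect.centralChar_memLocalIdeal_of_notMem Q hM hQ hg χ)
      (BlocksDefect.centralChar_memLocalIdeal_of_notMem Q hM hQ hg ψ)
  push Not at hg
  obtain ⟨x, hx, hxC⟩ := hg
  have hgQ : g ∈ Q := by
    obtain ⟨c, hc⟩ := isConj_iff.mp hx.symm
    rw [← hc]
    exact Subgroup.Normal.conj_mem inferInstance x (hle hxC) c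
  have key : ∀ φ : IrrCharacter G, MemLocalIdeal M (centralChar (φ : G → ℂ) g -
      ((Subgroup.centralizer ({g} : Set G)).index : ℂ)) := by
    intro φ
    obtain ⟨η, hη, hk⟩ := BlocksDefect.exists_mem_kernel_pSubgroup hM
      (BlocksCore.isPBlock_blockOf φ) Q hQ
    have h1 : centralChar (η : G → ℂ) g = ((Subgroup.centralizer ({g} : Set G)).index : ℂ) := by
      rw [centralChar, hk g hgQ, mul_div_assoc, div_self (BlocksCore.irr_one_ne_zero η), mul_one]
    rw [← h1]
    exact BlocksCore.sameBlock_of_mem (BlocksCore.isPBlock_blockOf φ)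
      (BlocksCore.mem_blockOf_self φ) hη g
  simpa using BlocksCore.memLocalIdeal_sub (key χ) (key ψ)

theorem mem_of_centralizer_le (hM : IsPModular p M) (Q : Subgroup G) [Q.Normal]
    (hQ : IsPGroup p Q) (hle : Subgroup.centralizer (Q : Set G) ≤ Q) {A : Set (IrrCharacter G)}
    (hA : IsPBlock M A) (χ : IrrCharacter G) : χ ∈ A := by
  obtain ⟨ψ, hψ⟩ := isPBlock_nonempty hA
  rw [isPBlock_eq_blockOf hA hψ, blockOf_eq_of_sameBlock
    (sameBlock_of_centralizer_le hM Q hQ hle ψ χ)]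
  exact mem_blockOf_self χ

namespace CycData

variable {D : Subgroup G} {c : Set (IrrCharacter (Subgroup.centralizer (D : Set G)))}
  {X : CycData p M (Set.univ : Set (IrrCharacter G)) D c} {R : Finset (X.loc →* ℂˣ)}
  {f : (X.loc →* ℂˣ) → IrrCharacter G} {δ : IrrCharacter G → ℤ} {ε : ℤ}

/-- In the model group the exceptional characters are the characters not trivial on the defect
group, unless there is one of them or the inertial index is one. -/
theorem Tree.exc_of_not_trivial (T : X.Tree R f δ ε) [D.Normal]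
    (hC : Subgroup.centralizer (D : Set G) = D) (hT : stabT D c = ⊤) (he1 : X.ei ≠ 1) :
    ∃ L : Set (IrrCharacter G), Nat.card L = X.ei ∧
      (∀ η : IrrCharacter G, (∃ x ∈ D, (η : G → ℂ) x ≠ (η : G → ℂ) 1) → η ∉ L) ∧
      (1 < R.card → L = Tree.nonExc X R f) := by
  have := finite_irr (G := G)
  have hHD : X.H = D := le_antisymm (fun g hg => by
    rw [← hC]
    exact (X.stab_inf_H (by rw [hT]; exact Subgroup.mem_top g)).mp hg) X.D_le_H
  have hnot : ∃ t : stabT D c, (t : G) ∉ Subgroup.centralizer (D : Set G) := by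
    by_contra h
    push Not at h
    exact he1 (Subgroup.relIndex_eq_one.mpr fun g hg => h ⟨g, hg⟩)
  have hTtop : ∀ g : G, g ∈ X.T := fun g => X.stabT_le (hT ▸ Subgroup.mem_top g)
  -- the quotient is cyclic of order `e`
  obtain ⟨t0, ht0⟩ := X.exists_gen
  haveI : IsCyclic (G ⧸ D) := ⟨⟨((t0 : G) : G ⧸ D), fun q => by
    obtain ⟨g, rfl⟩ := QuotientGroup.mk_surjective q
    obtain ⟨k, h, hh, e⟩ := ht0 ⟨g, hTtop g⟩
    refine Subgroup.mem_zpowers_iff.mpr ⟨k, ?_⟩
    have hh' : ((h : G) : G ⧸ D) = 1 := (QuotientGroup.eq_one_iff h).mpr (hHD ▸ hh)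
    rw [show (g : G) = (t0 : G) ^ k * h from e, QuotientGroup.mk_mul, hh', mul_one,
      QuotientGroup.mk_zpow]⟩⟩
  letI := IsCyclic.commGroup (α := G ⧸ D)
  let Λ : ((G ⧸ D) →* ℂˣ) → IrrCharacter G := fun l =>
    ⟨fun g => (l g : ℂ), CharCore.isIrrCharacter_hom (l.comp (QuotientGroup.mk' D))⟩
  have hΛ : Function.Injective Λ := fun a b h => MonoidHom.ext fun q => by
    obtain ⟨g, rfl⟩ := QuotientGroup.mk_surjective q
    exact Units.ext (congrFun (congrArg Subtype.val h) g)
  have hcardL : Nat.card (Set.range Λ) = X.ei := by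
    rw [Nat.card_range_of_injective hΛ,
      CommGroup.card_monoidHom_of_hasEnoughRootsOfUnity (G ⧸ D) ℂ, ei, hT, hC,
      Subgroup.relIndex_top_right]
    rfl
  have htriv : ∀ η : IrrCharacter G, η ∈ Set.range Λ → ∀ x ∈ D, (η : G → ℂ) x = (η : G → ℂ) 1 := by
    rintro _ ⟨l, rfl⟩ x hx
    show (l ((x : G) : G ⧸ D) : ℂ) = (l ((1 : G) : G ⧸ D) : ℂ)
    rw [(QuotientGroup.eq_one_iff x).mpr hx, QuotientGroup.mk_one]
  refine ⟨Set.range Λ, hcardL, fun η ⟨x, hx, hne⟩ h => hne (htriv η h x hx), fun hR => ?_⟩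
  -- the invariant member is the trivial character
  haveI hn : (D.subgroupOf X.H).Normal := Subgroup.normal_subgroupOf
  have htop : D.subgroupOf X.H = ⊤ := Subgroup.subgroupOf_eq_top.mpr hHD.le
  have hone : oneIrr (G := X.H) ∈ X.blk := mem_of_centralizer_le X.mod (D.subgroupOf X.H)
    (X.isPGroup.comap_of_injective _ (Subgroup.subtype_injective _))
    (htop.symm ▸ le_top) X.blk_isPBlock _
  obtain ⟨l1, hl1, -⟩ := X.nil.torsor X.χ0 X.χ0_mem _ hone
  obtain ⟨t, ht⟩ := hnot
  have hfix : X.conjT t (oneIrr (G := X.H)) = oneIrr (G := X.H) :=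
    Subtype.ext (funext fun h => by rw [X.conjT_apply t hone]; rfl)
  have hl11 : l1 = 1 := by
    by_contra hne
    refine ht (X.lconj_free t hne (X.nil.twist_injective X.χ0_mem ?_))
    show X.nil.twist (X.lconj t l1) X.χ0 = X.nil.twist l1 X.χ0
    rw [hl1, ← hfix, ← hl1, X.conjT_twist t l1 X.χ0_mem, X.χ0_fixed]
  rw [hl11, X.nil.twist_one X.χ0_mem] at hl1
  have hcoef : ∀ η : IrrCharacter G, η ∈ Set.range Λ → ∀ l ∈ R, (X.coef l η : ℂ) = -(η : G → ℂ) 1 := by
    intro η hη l hl
    have hres : (fun h : X.H => (η : G → ℂ) h) =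
        ((η : G → ℂ) 1) • ((oneIrr (G := X.H) : IrrCharacter X.H) : X.H → ℂ) := funext fun h => by
      show (η : G → ℂ) h = (η : G → ℂ) 1 * 1
      rw [mul_one, htriv η hη h (hHD.le h.2)]
    have hη1 : starRingEnd ℂ ((η : G → ℂ) 1) = (η : G → ℂ) 1 := by
      rw [irr_one_eq, map_natCast]
    have htw : classInner (X.nil.twist l X.χ0 : X.H → ℂ)
        ((oneIrr (G := X.H) : IrrCharacter X.H) : X.H → ℂ) = 0 :=
      CharCore.classInner_irr_of_ne fun h => T.reps.ne_one l hl
        (X.nil.twist_injective X.χ0_mem (h.trans (hl1.symm.trans (X.nil.twist_one X.χ0_mem).symm)))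
    rw [← X.coef_spec, vind, CharInd.classInner_indFun_left _ _ (irr_class η), hres, vfun,
      CharCore.classInner_sub_left, CharCore.classInner_smul_right, CharCore.classInner_smul_right,
      htw, hl1, CharCore.classInner_irr_self, hη1]
    ring
  have hsub : Set.range Λ ⊆ Tree.nonExc X R f := fun η hη => ⟨Set.mem_univ η, fun m hm h => by
    obtain ⟨l, hl, hlm⟩ : ∃ l ∈ R, l ≠ m := by
      obtain ⟨a, ha, b, hb, hab⟩ := Finset.one_lt_card.mp hR
      by_cases ham : a = m
      · exact ⟨b, hb, fun e => hab (ham.trans e.symm)⟩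
      · exact ⟨a, ha, ham⟩
    have h1 := (hcoef η hη l hl).trans (hcoef η hη m hm).symm
    rw [← h, T.coef_exc l hl m hm, T.coef_exc m hm m hm, if_neg hlm, if_pos rfl] at h1
    rcases T.sign with e | e <;> simp [e] at h1⟩
  refine Set.eq_of_subset_of_ncard_le hsub ?_ (Set.toFinite _)
  rw [← Nat.card_coe_set_eq, ← Nat.card_coe_set_eq, hcardL, T.card_nonExc]

end CycData

end Cfsg.Agent.BlkChar.CyclicDefect
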