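import Cfsg.Agent.BlkChar.CyclicDefect.Setup
import Cfsg.Agent.BlkChar.CentralizerDvd

/-!
# Divisibility of values by orders of centralizers
-/

set_option autoImplicit false
set_option linter.unusedSectionVars false

namespace Cfsg.Agent.BlkChar.CyclicDefect

open BlocksCore BlocksDefect BC85 BC85.Star
open scoped Classical ComplexConjugate

universe u

variable {p : ℕ} [Fact p.Prime] {M : Ideal AlgInt} [hP : M.IsPrime]

/-- A sum weighted by multiples of the orders of stabilizers is divisible by the order of the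
group. -/
theorem memLocalRing_orbitSum {Γ Ω : Type*} [Group Γ] [Finite Γ] [MulAction Γ Ω] [Fintype Ω]
    (F : Ω → ℂ) (hF : ∀ (γ : Γ) ω, F (γ • ω) = F ω)
    (hdiv : ∀ ω, MemLocalRing M (F ω / (Nat.card (MulAction.stabilizer Γ ω) : ℂ))) :
    MemLocalRing M ((∑ ω, F ω) / (Nat.card Γ : ℂ)) := by
  letI := Fintype.ofFinite Γ
  rw [Finset.sum_div, ← Finset.sum_fiberwise Finset.univ
    (fun ω => (Quotient.mk (MulAction.orbitRel Γ Ω) ω)) fun ω => F ω / (Nat.card Γ : ℂ)]
  refine memLocalRing_sum fun q _ => ?_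
  obtain ⟨ω, rfl⟩ := Quotient.exists_rep q
  have hset : Finset.univ.filter (fun ω' => (Quotient.mk (MulAction.orbitRel Γ Ω) ω') =
      Quotient.mk (MulAction.orbitRel Γ Ω) ω) = (MulAction.orbit Γ ω).toFinset := by
    ext ω'
    rw [Finset.mem_filter, Set.mem_toFinset]
    exact ⟨fun h => MulAction.orbitRel_apply.mp (Quotient.exact h.2),
      fun h => ⟨Finset.mem_univ _, Quotient.sound (MulAction.orbitRel_apply.mpr h)⟩⟩
  rw [hset, Finset.sum_eq_card_nsmul (b := F ω / (Nat.card Γ : ℂ)) fun ω' h => by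
    obtain ⟨γ, rfl⟩ := Set.mem_toFinset.mp h
    rw [hF], Set.toFinset_card, nsmul_eq_mul]
  have h := MulAction.card_orbit_mul_card_stabilizer_eq_card_group Γ ω
  rw [← Nat.card_eq_fintype_card, ← Nat.card_eq_fintype_card, ← Nat.card_eq_fintype_card] at h
  rw [← Nat.card_eq_fintype_card, ← h, Nat.cast_mul]
  have h1 : (Nat.card (MulAction.orbit Γ ω) : ℂ) ≠ 0 :=
    Nat.cast_ne_zero.mpr (fun h0 => by rw [h0, zero_mul] at h; exact Nat.card_pos.ne h)
  rw [mul_div_assoc', mul_comm (Nat.card (MulAction.orbit Γ ω) : ℂ) (F ω), mul_comm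
    (Nat.card (MulAction.orbit Γ ω) : ℂ) (Nat.card (MulAction.stabilizer Γ ω) : ℂ),
    mul_div_mul_right _ _ h1]
  exact hdiv ω

theorem memLocalRing_div_of_dvd {z : ℂ} {m n : ℕ} (hn : m ∣ n) (hn0 : n ≠ 0)
    (h : MemLocalRing M (z / (n : ℂ))) : MemLocalRing M (z / (m : ℂ)) := by
  obtain ⟨k, rfl⟩ := hn
  have hk : k ≠ 0 := fun h0 => hn0 (by rw [h0, mul_zero])
  rw [show z / (m : ℂ) = (k : ℂ) * (z / ((m * k : ℕ) : ℂ)) by
    push_cast
    rw [← mul_div_assoc, mul_comm (m : ℂ), mul_div_mul_left _ _ (Nat.cast_ne_zero.mpr hk)]]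
  exact (localRing M).mul_mem (memLocalRing_natCast k) h

variable {G : Type u} [Group G] [Fintype G]

/-- A projection of a class function divisible by the orders of the centralizers is divisible by
the order of the centralizer. -/
theorem proj_div_mem (hM : IsPModular p M) {a : BrauerPairIdx G} {v : G}
    (ha : a ∈ pairsAt M (Subgroup.zpowers v)) {F : G → ℂ} (hFc : IsClassFunction G F)
    (hF : ∀ g, MemLocalRing M (F g / (Nat.card (Subgroup.centralizer ({g} : Set G)) : ℂ))) {s : G}
    (hc : ∀ x : G, Commute x (v * s) → Commute x v) :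
    MemLocalRing M (proj a v F s /
      (Nat.card (Subgroup.centralizer ({v * s} : Set G)) : ℂ)) := by
  set Γ := Subgroup.centralizer ({v * s} : Set G)
  have hv : ∀ γ : Γ, Commute (γ : G) v := fun γ =>
    hc _ (Subgroup.mem_centralizer_singleton_iff.mp γ.2)
  have hs : ∀ γ : Γ, Commute (γ : G) s := fun γ => by
    have h := (hv γ).inv_right.mul_right (Subgroup.mem_centralizer_singleton_iff.mp γ.2 :
      Commute (γ : G) (v * s))
    rwa [inv_mul_cancel_left] at h
  letI : MulAction Γ G :=
    { smul := fun γ c => (γ : G) * c * (γ : G)⁻¹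
      one_smul := fun c => by show ((1 : Γ) : G) * c * ((1 : Γ) : G)⁻¹ = c; simp
      mul_smul := fun γ γ' c => by
        show ((γ * γ' : Γ) : G) * c * ((γ * γ' : Γ) : G)⁻¹ =
          (γ : G) * ((γ' : G) * c * (γ' : G)⁻¹) * (γ : G)⁻¹
        push_cast
        group }
  refine memLocalRing_orbitSum (Γ := Γ) (fun c : G => bp a c * F (v * c * s)) (fun γ c => ?_)
    fun c => ?_
  · show bp a ((γ : G) * c * (γ : G)⁻¹) * F (v * ((γ : G) * c * (γ : G)⁻¹) * s) = _
    congr 1
    · refine subgroupBlockCoeff_conj_of_mem a.2 ?_ c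
      rw [(mem_pairsAt.mp ha).1]
      exact Subgroup.mem_centralizer_iff.mpr fun q hq => by
        obtain ⟨k, rfl⟩ := Subgroup.mem_zpowers_iff.mp hq
        exact ((hv γ).zpow_right k).eq.symm
    · rw [← hFc (v * c * s) (γ : G)]
      congr 1
      calc v * ((γ : G) * c * (γ : G)⁻¹) * s = (v * γ) * c * ((γ : G)⁻¹ * s) := by group
        _ = (γ * v) * c * (s * (γ : G)⁻¹) := by rw [(hv γ).eq, ((hs γ).inv_left).eq]
        _ = _ := by group
  · rw [mul_div_assoc]
    refine (localRing M).mul_mem (bp_mem hM ha c) ?_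
    refine memLocalRing_div_of_dvd ?_ Nat.card_pos.ne' (hF (v * c * s))
    rw [← Subgroup.card_map_of_injective Γ.subtype_injective]
    refine Subgroup.card_dvd_of_le ?_
    rintro _ ⟨γ, hγ, rfl⟩
    have hγc : Commute (γ : G) c := mul_inv_eq_iff_eq_mul.mp (MulAction.mem_stabilizer_iff.mp hγ)
    exact Subgroup.mem_centralizer_singleton_iff.mpr (((hv γ).mul_right hγc).mul_right (hs γ))

/-- An induced function is divisible by the orders of the centralizers where the function is. -/
theorem indFun_div_mem (H : Subgroup G) {W : H → ℂ} (hW : IsClassFunction H W) {x : G}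
    (h : ∀ k : H, IsConj x (k : G) →
      MemLocalRing M (W k / (Nat.card (Subgroup.centralizer ({k} : Set H)) : ℂ))) :
    MemLocalRing M (indFun H W x / (Nat.card (Subgroup.centralizer ({x} : Set G)) : ℂ)) := by
  set Cx := Subgroup.centralizer ({x} : Set G)
  have hfib : ∀ y : G, IsConj x y →
      (Finset.univ.filter fun g : G => g⁻¹ * x * g = y).card = Nat.card Cx := by
    intro y hy
    obtain ⟨g0, hg0⟩ := isConj_iff.mp hy
    rw [Nat.card_eq_fintype_card, ← Finset.card_univ]
    symm
    refine Finset.card_bij (fun w _ => (w : G) * g0⁻¹) (fun w _ => ?_)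
      (fun a _ b _ e => Subtype.ext (mul_right_cancel e)) fun g hg => ?_
    · refine Finset.mem_filter.mpr ⟨Finset.mem_univ _, ?_⟩
      have h1 : x * (w : G) = w * x := (Subgroup.mem_centralizer_singleton_iff.mp w.2).symm
      calc ((w : G) * g0⁻¹)⁻¹ * x * ((w : G) * g0⁻¹) = g0 * ((w : G)⁻¹ * (x * w)) * g0⁻¹ := by group
        _ = y := by rw [h1, inv_mul_cancel_left, hg0]
    · have h2 := (Finset.mem_filter.mp hg).2
      refine ⟨⟨g * g0, Subgroup.mem_centralizer_singleton_iff.mpr ?_⟩, Finset.mem_univ _,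
        mul_inv_cancel_right g g0⟩
      calc g * g0 * x = g * (g0 * x * g0⁻¹) * g0 := by group
        _ = g * (g⁻¹ * x * g) * g0 := by rw [hg0, h2]
        _ = x * (g * g0) := by group
  have hsum : ∑ g : G, extendByZero H W (g⁻¹ * x * g) =
      (Nat.card Cx : ℂ) * ∑ k : H, (if IsConj x (k : G) then W k else 0) := by
    rw [← Finset.sum_fiberwise Finset.univ (fun g : G => g⁻¹ * x * g),
      ← Finset.sum_filter_add_sum_filter_not Finset.univ (fun y : G => y ∈ H),
      Finset.sum_eq_zero (s := Finset.univ.filter fun y : G => ¬ y ∈ H) fun y hy =>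
        Finset.sum_eq_zero fun g hg => by
          rw [(Finset.mem_filter.mp hg).2]
          exact CharInd.extendByZero_notMem _ (Finset.mem_filter.mp hy).2,
      add_zero, Finset.sum_subtype (p := fun y => y ∈ H) _ (fun y => by simp), Finset.mul_sum]
    refine Finset.sum_congr (by congr!) fun k _ => ?_
    rw [Finset.sum_congr rfl fun g hg => by rw [(Finset.mem_filter.mp hg).2],
      CharInd.extendByZero_coe, Finset.sum_const, nsmul_eq_mul]
    split_ifs with hk
    · rw [hfib _ hk]
    · rw [Finset.filter_eq_empty_iff.mpr fun g _ hg => hk (isConj_iff.mpr ⟨g⁻¹, by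
        rw [inv_inv]; exact hg⟩)]
      simp
  rw [CharInd.indFun_apply, hsum, mul_left_comm,
    mul_div_cancel_left₀ _ (Nat.cast_ne_zero.mpr Nat.card_pos.ne'), inv_mul_eq_div]
  letI : MulAction H H :=
    { smul := fun γ k => γ * k * γ⁻¹
      one_smul := fun k => by show (1 : H) * k * (1 : H)⁻¹ = k; simp
      mul_smul := fun γ γ' k => by
        show γ * γ' * k * (γ * γ')⁻¹ = γ * (γ' * k * γ'⁻¹) * γ⁻¹
        group }
  refine memLocalRing_orbitSum (Γ := H) _ (fun γ k => ?_) fun k => ?_
  · have hiff : IsConj x ((γ * k * γ⁻¹ : H) : G) ↔ IsConj x (k : G) := by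
      have h1 : IsConj (k : G) ((γ * k * γ⁻¹ : H) : G) := isConj_iff.mpr ⟨γ, by push_cast; rfl⟩
      exact ⟨fun h => h.trans h1.symm, fun h => h.trans h1⟩
    show (if IsConj x ((γ * k * γ⁻¹ : H) : G) then W (γ * k * γ⁻¹) else 0) = _
    rw [hW k γ]
    exact if_congr hiff rfl rfl
  · split_ifs with hk
    · have e : MulAction.stabilizer H k = Subgroup.centralizer ({k} : Set H) := by
        ext γ
        rw [MulAction.mem_stabilizer_iff, Subgroup.mem_centralizer_singleton_iff]
        exact mul_inv_eq_iff_eq_mul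
      rw [e]
      exact h k hk
    · rw [zero_div]
      exact (localRing M).zero_mem

/-- The values of an induced local class function are local. -/
theorem indFun_mem (H : Subgroup G) {W : H → ℂ} (hW : IsClassFunction H W)
    (h : ∀ k, MemLocalRing M (W k)) (x : G) : MemLocalRing M (indFun H W x) := by
  haveI := Fintype.ofFinite (G ⧸ H)
  rw [CharInd.indFun_apply_cosets hW Quotient.out (fun q => QuotientGroup.out_eq' q)]
  refine memLocalRing_sum fun q _ => ?_
  by_cases hm : q.out⁻¹ * x * q.out ∈ H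
  · rw [CharInd.extendByZero_mem _ hm]; exact h _
  · rw [CharInd.extendByZero_notMem _ hm]; exact (localRing M).zero_mem

end Cfsg.Agent.BlkChar.CyclicDefect
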