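import Cfsg.Agent.BlkChar.CyclicDefect.Sys
import Cfsg.Agent.Lib.BlocksCore.StableHom

/-!
# Irreducible representations receiving a non-projective map
-/

set_option autoImplicit false
set_option linter.unusedSectionVars false

namespace Cfsg.Agent.BlkChar.CyclicDefect

open scoped Classical
open Finset MonoidAlgebra BlocksCore

variable {K : Type*} [Field K] {G : Type*} [Group G] [Fintype G] {H T Dd : Subgroup G}

/-- Intertwiners commute with the group algebra of a subgroup. -/
theorem act_map {V W : Type*} [AddCommGroup V] [Module K V] [AddCommGroup W] [Module K W]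
    {ρ : Representation K G V} {ρ' : Representation K G W} (L : V →ₗ[K] W)
    (hL : ∀ g v, L (ρ g v) = ρ' g (L v)) (a : MonoidAlgebra K H) (v : V) :
    L (act H ρ a v) = act H ρ' a (L v) := by
  induction a using MonoidAlgebra.induction_on with
  | of h => rw [act_of, act_of, hL]
  | add a b ha hb => simp [ha, hb]
  | smul c a ha => simp [ha]

/-- Factorization of a linear functional through a linear map. -/
theorem exists_factor {W V S' : Type*} [AddCommGroup W] [Module K W] [AddCommGroup V] [Module K V]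
    [AddCommGroup S'] [Module K S'] (L : W →ₗ[K] V) (Φ : W →ₗ[K] S')
    (h : ∀ w, L w = 0 → Φ w = 0) : ∃ ψ : V →ₗ[K] S', ∀ w, ψ (L w) = Φ w := by
  obtain ⟨ψ, hψ⟩ := LinearMap.exists_extend
    (((LinearMap.ker L).liftQ Φ fun v hv => LinearMap.mem_ker.mpr (h v (LinearMap.mem_ker.mp hv))).comp
      L.quotKerEquivRange.symm.toLinearMap)
  refine ⟨ψ, fun v => ?_⟩
  have h1 := LinearMap.congr_fun hψ ⟨L v, LinearMap.mem_range_self L v⟩
  simp only [LinearMap.comp_apply, Submodule.subtype_apply] at h1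
  rw [h1]
  show Submodule.liftQ _ Φ _ (L.quotKerEquivRange.symm ⟨L v, _⟩) = _
  rw [show (⟨L v, LinearMap.mem_range_self L v⟩ : LinearMap.range L) =
    L.quotKerEquivRange (Submodule.Quotient.mk v) from Subtype.ext (by simp),
    LinearEquiv.symm_apply_apply]
  rfl

/-- The induced action on an invariant subspace. -/
noncomputable def subAct {V : Type*} [AddCommGroup V] [Module K V] (ρ : Representation K G V)
    (A : Submodule K V) (h : ∀ g, ∀ v ∈ A, ρ g v ∈ A) : Representation K G A where
  toFun g := (ρ g).restrict (h g)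
  map_one' := LinearMap.ext fun v => Subtype.ext (by simp [LinearMap.restrict_apply])
  map_mul' a b := LinearMap.ext fun v => Subtype.ext (by simp [LinearMap.restrict_apply])

/-- The induced action on a quotient by an invariant subspace. -/
noncomputable def quotAct {V : Type*} [AddCommGroup V] [Module K V] (ρ : Representation K G V)
    (A : Submodule K V) (h : ∀ g, ∀ v ∈ A, ρ g v ∈ A) : Representation K G (V ⧸ A) where
  toFun g := A.mapQ A (ρ g) (h g)
  map_one' := Submodule.linearMap_qext _ (LinearMap.ext fun v => by simp)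
  map_mul' a b := Submodule.linearMap_qext _ (LinearMap.ext fun v => by simp)

namespace Shape

variable {A : Type*} [Ring A] [Algebra K A] {ε π : A} {N n : ℕ} [NeZero n]
  {R : A →ₐ[K] Matrix (Fin n) (Fin n) K} {f : A} {U V : Fin n → A}
  (S : Shape ε π N n R f U V)

include S

theorem V_mul' (x : A) (a : Fin n) : V a * x = ∑ b, V a * x * U b * V b := by
  conv_lhs => rw [S.V_mul x a]
  rw [add_eq_left, mul_assoc, ← S.Vε, ← mul_assoc ε, S.comm x, mul_assoc x, mul_sub ε, mul_one,
    S.idem, sub_self, mul_zero, mul_zero]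

theorem R_VxU (x : A) (a b : Fin n) : R (V a * x * U b) 0 0 = R x a b := by
  rw [map_mul, map_mul, S.map_V, S.map_U, Matrix.single_mul_mul_single]
  simp

end Shape

theorem simpleHom_apply {n : ℕ} {H : Type*} [Group H] (R : MonoidAlgebra K H →ₐ[K] Matrix (Fin n) (Fin n) K)
    (a : MonoidAlgebra K H) (x : Fin n → K) :
    (Matrix.toLinAlgEquiv'.toAlgHom.comp R) a x = (R a).mulVec x := rfl

namespace Sys

variable {p : ℕ} [Fact p.Prime] [CharP K p] {z : H} {ε π w : MonoidAlgebra K H} {N q n : ℕ}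
  [NeZero n] {R : MonoidAlgebra K H →ₐ[K] Matrix (Fin n) (Fin n) K} {f : MonoidAlgebra K H}
  {U V' : Fin n → MonoidAlgebra K H} (Y : Sys p H T Dd z ε π w N q n R f U V')

include Y

theorem simple_coord (a : Fin n) (x : Fin n → K) : simpleHom R (V' a) x 0 = x a := by
  rw [simpleHom, simpleHom_apply, Y.core.shape.map_V, Matrix.single_mulVec]
  simp

variable {S : Representation K T (Fin n → K)} (hS : IsExt Y.HT R S)

include hS

/-- An equivariant map which is projective on an invariant subspace extends to a projective one. -/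
theorem exists_proj_ext {V : Type*} [AddCommGroup V] [Module K V] (ρ : Representation K G V)
    {φ : V →ₗ[K] Fin n → K} (hφ : EquivT ρ S φ) (A : Submodule K V)
    (hA : ∀ g, ∀ v ∈ A, ρ g v ∈ A) (hproj : ∀ v ∈ A, InKer ρ ε π N v → φ v = 0) :
    ∃ τ : V →ₗ[K] Fin n → K, EquivT ρ S τ ∧ (∀ v ∈ A, τ v = φ v) ∧
      ∀ v, InKer ρ ε π N v → τ v = 0 := by
  have hAct : ∀ (a : MonoidAlgebra K H), ∀ v ∈ A, act H ρ a v ∈ A := fun a v hv => by
    have h := act_map (H := H) (ρ := subAct ρ A hA) (ρ' := ρ) A.subtype (fun g u => rfl) a ⟨v, hv⟩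
    change _ = act H ρ a v at h
    rw [← h]
    exact Submodule.coe_mem _
  let L : A →ₗ[K] V := (act H ρ (π ^ (N - 1) * f)).comp A.subtype
  let Φ : A →ₗ[K] K := (LinearMap.proj (0 : Fin n)).comp (φ.comp ((act H ρ f).comp A.subtype))
  obtain ⟨ψ, hψ⟩ := exists_factor L Φ fun u hu => by
    have hker : InKer ρ ε π N (act H ρ f (u : V)) :=
      ⟨by rw [← Module.End.mul_apply, ← map_mul, Y.core.shape.εf],
        by rw [← Module.End.mul_apply, ← map_mul]; exact hu⟩
    show φ (act H ρ f (u : V)) 0 = 0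
    rw [hproj _ (hAct f _ u.2) hker, Pi.zero_apply]
  let TH : V →ₗ[K] Fin n → K :=
    LinearMap.pi fun a => ψ.comp (act H ρ (π ^ (N - 1) * V' a))
  have hTH : ∀ v a, TH v a = ψ (act H ρ (π ^ (N - 1) * V' a) v) := fun v a => rfl
  have hTHproj : ∀ v, InKer ρ ε π N v → TH v = 0 := fun v hv => funext fun a => by
    rw [hTH, Y.core.shape.pow_comm, map_mul, Module.End.mul_apply, hv.2, map_zero, map_zero,
      Pi.zero_apply]
  have hTHlin : ∀ (x : MonoidAlgebra K H) v, TH (act H ρ x v) = simpleHom R x (TH v) := by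
    intro x v
    funext a
    have key : π ^ (N - 1) * V' a * x = ∑ b, R x a b • (π ^ (N - 1) * V' b) := by
      rw [mul_assoc, Y.core.shape.V_mul' x a, Finset.mul_sum]
      refine Finset.sum_congr rfl fun b _ => ?_
      obtain ⟨c', hc'⟩ := Y.core.shape.corner_split (Y.core.shape.fcf x a b).1
        (Y.core.shape.fcf x a b).2
      rw [Y.core.shape.R_VxU] at hc'
      rw [hc', add_mul, mul_add, smul_mul_assoc, Y.core.shape.fV, mul_smul_comm, add_eq_left,
        ← mul_assoc, ← mul_assoc, ← pow_succ, Nat.sub_add_cancel Y.core.shape.pos,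
        Y.core.shape.piN, zero_mul, zero_mul]
    rw [hTH, ← Module.End.mul_apply, ← map_mul, key, map_sum, LinearMap.sum_apply, map_sum]
    simp only [map_smul, LinearMap.smul_apply, smul_eq_mul, ← hTH]
    rfl
  have hTHA : ∀ v ∈ A, TH v = φ v := by
    intro v hv
    funext a
    have h := hψ ⟨act H ρ (V' a) v, hAct _ v hv⟩
    simp only [L, Φ, LinearMap.comp_apply, Submodule.subtype_apply, LinearMap.proj_apply,
      ← Module.End.mul_apply, ← map_mul, mul_assoc, Y.core.shape.fV] at h
    rw [hTH, h, Y.apply_act ρ hS hφ, Y.simple_coord]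
  let F : V → G → (Fin n → K) := fun v g =>
    if hg : g ∈ T then S ⟨g, hg⟩ (TH (ρ g⁻¹ v)) else 0
  let τ : V →ₗ[K] Fin n → K := ((cosets H T).card : K)⁻¹ •
    { toFun := fun v => ∑ q ∈ cosets H T, F v q.out
      map_add' := fun u v => by
        rw [← Finset.sum_add_distrib]
        refine Finset.sum_congr rfl fun q hq => ?_
        simp only [F, dif_pos (mem_cosets.mp hq), map_add]
      map_smul' := fun c v => by
        rw [RingHom.id_apply, Finset.smul_sum]
        refine Finset.sum_congr rfl fun q hq => ?_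
        simp only [F, dif_pos (mem_cosets.mp hq), map_smul] }
  have hτ : ∀ v, τ v = ((cosets H T).card : K)⁻¹ • ∑ q ∈ cosets H T, F v q.out := fun v => rfl
  have hFinv : ∀ v, ∀ g ∈ T, ∀ h ∈ H, F v (g * h) = F v g := by
    intro v g hg h hh
    have hgh : g * h ∈ T := T.mul_mem hg (Y.HT hh)
    simp only [F, dif_pos hg, dif_pos hgh]
    rw [show (⟨g * h, hgh⟩ : T) = ⟨g, hg⟩ * ⟨((⟨h, hh⟩ : H) : G), Y.HT hh⟩ from rfl, map_mul,
      Module.End.mul_apply, hS ⟨h, hh⟩, ← hTHlin, act_of, ← Module.End.mul_apply, ← map_mul,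
      mul_inv_rev, mul_inv_cancel_left]
  refine ⟨τ, fun t v => ?_, fun v hv => ?_, fun v hv => ?_⟩
  · rw [hτ, hτ, map_smul]
    congr 1
    rw [← sum_cosets_mul Y.HT (F (ρ (t : G) v)) (hFinv _) t.2, map_sum]
    refine Finset.sum_congr rfl fun q hq => ?_
    have hq' := mem_cosets.mp hq
    simp only [F, dif_pos hq', dif_pos (T.mul_mem t.2 hq')]
    rw [show (⟨(t : G) * q.out, T.mul_mem t.2 hq'⟩ : T) = t * ⟨q.out, hq'⟩ from rfl, map_mul,
      Module.End.mul_apply, ← Module.End.mul_apply (ρ ((t : G) * q.out)⁻¹), ← map_mul,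
      mul_inv_rev, inv_mul_cancel_right]
  · rw [hτ, Finset.sum_eq_card_nsmul (b := φ v) fun q hq => ?_, ← Nat.cast_smul_eq_nsmul K,
      smul_smul, inv_mul_cancel₀ Y.card_cosets_ne_zero, one_smul]
    simp only [F, dif_pos (mem_cosets.mp hq)]
    rw [hTHA _ (hA _ _ hv), ← hφ, ← Module.End.mul_apply, ← map_mul, mul_inv_cancel, map_one,
      Module.End.one_apply]
  · rw [hτ, Finset.sum_eq_zero fun q hq => ?_, smul_zero]
    simp only [F, dif_pos (mem_cosets.mp hq)]
    rw [hTHproj _ (Y.inKer_smul ρ (T.inv_mem (mem_cosets.mp hq)) hv), map_zero]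

/-- Transport to coordinates. -/
theorem exists_fin_rep {V : Type*} [AddCommGroup V] [Module K V] [FiniteDimensional K V]
    (ρ : Representation K G V) (φ : V →ₗ[K] Fin n → K) (hφ : EquivT ρ S φ) {v : V}
    (hv : InKer ρ ε π N v) (hφv : φ v ≠ 0) :
    ∃ (ρ' : Representation K G (Fin (Module.finrank K V) → K))
      (φ' : (Fin (Module.finrank K V) → K) →ₗ[K] Fin n → K),
      EquivT ρ' S φ' ∧ ∃ v', InKer ρ' ε π N v' ∧ φ' v' ≠ 0 := by
  set b := (Module.finBasis K V).equivFun
  let ρ' : Representation K G (Fin (Module.finrank K V) → K) :=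
    (b.conjAlgEquiv K).toMonoidHom.comp ρ
  have hb : ∀ g u, b.toLinearMap (ρ g u) = ρ' g (b.toLinearMap u) := fun g u => by
    show _ = b (ρ g (b.symm (b u)))
    rw [LinearEquiv.symm_apply_apply]
    rfl
  refine ⟨ρ', φ.comp b.symm.toLinearMap, fun t u => ?_, b v, ⟨?_, ?_⟩, ?_⟩
  · obtain ⟨u, rfl⟩ := b.surjective u
    show φ (b.symm (ρ' (t : G) (b u))) = S t (φ (b.symm (b u)))
    rw [show ρ' (t : G) (b u) = b (ρ (t : G) u) from (hb _ u).symm, LinearEquiv.symm_apply_apply,
      LinearEquiv.symm_apply_apply, hφ]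
  · exact (act_map (H := H) b.toLinearMap hb ε v).symm.trans (congrArg b hv.1)
  · exact (act_map (H := H) b.toLinearMap hb (π ^ (N - 1)) v).symm.trans
      ((congrArg b hv.2).trans (map_zero b))
  · simpa using hφv

/-- An irreducible representation with an equivariant map which is not projective. -/
theorem exists_simple : ∃ (m : ℕ) (ρ : Representation K G (Fin m → K))
    (φ : (Fin m → K) →ₗ[K] Fin n → K),
    StableHom.IsIrr ρ ∧ EquivT ρ S φ ∧ ∃ v, InKer ρ ε π N v ∧ φ v ≠ 0 := by
  let P : ℕ → Prop := fun m => ∃ (ρ : Representation K G (Fin m → K))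
    (φ : (Fin m → K) →ₗ[K] Fin n → K), EquivT ρ S φ ∧ ∃ v, InKer ρ ε π N v ∧ φ v ≠ 0
  have hmain : ∀ (m' : ℕ), P m' → ∃ m, P m := fun m' h => ⟨m', h⟩
  have hex : ∃ m, P m := by
    let W : Submodule K (G → Fin n → K) :=
      { carrier := {u | ∀ (t : T) (g : G), u ((t : G) * g) = S t (u g)}
        add_mem' := fun {a b} ha hb t g => by simp [ha t g, hb t g]
        zero_mem' := fun t g => by simp
        smul_mem' := fun c a ha t g => by simp [ha t g] }
    let ρ : Representation K G W :=
      { toFun := fun x => LinearMap.restrict (LinearMap.funLeft K (Fin n → K) (· * x))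
          (p := W) (q := W) fun u hu t g => by
            simp only [LinearMap.funLeft_apply]
            rw [mul_assoc]
            exact hu t _
        map_one' := LinearMap.ext fun u => Subtype.ext (funext fun g => by
          simp [LinearMap.restrict_apply, LinearMap.funLeft_apply])
        map_mul' := fun x y => LinearMap.ext fun u => Subtype.ext (funext fun g => by
          simp [LinearMap.restrict_apply, LinearMap.funLeft_apply, mul_assoc]) }
    let s0 : Fin n → K := Pi.single 0 1
    let mk : (Fin n → K) → W := fun s => ⟨fun g => if hg : g ∈ T then S ⟨g, hg⟩ s else 0,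
      fun t g => by
        simp only
        by_cases hg : g ∈ T
        · rw [dif_pos hg, dif_pos (T.mul_mem t.2 hg), ← Module.End.mul_apply, ← map_mul]
          rfl
        · rw [dif_neg hg, dif_neg (fun h => hg ((Subgroup.mul_mem_cancel_left T t.2).mp h)),
            map_zero]⟩
    have hmk : ∀ a : MonoidAlgebra K H, act H ρ a (mk s0) = mk (simpleHom R a s0) := by
      intro a
      induction a using MonoidAlgebra.induction_on with
      | of h =>
        rw [act_of]
        refine Subtype.ext (funext fun g => ?_)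
        show (mk s0).1 (g * (h : G)) = (mk (simpleHom R (of K H h) s0)).1 g
        simp only [mk]
        by_cases hg : g ∈ T
        · rw [dif_pos hg, dif_pos (T.mul_mem hg (Y.HT h.2)), ← hS h, ← Module.End.mul_apply,
            ← map_mul]
          rfl
        · rw [dif_neg hg, dif_neg (fun h' => hg
            ((Subgroup.mul_mem_cancel_right T (Y.HT h.2)).mp h'))]
      | add a b ha hb =>
        refine Subtype.ext (funext fun g => ?_)
        simp only [map_add, LinearMap.add_apply, ha, hb, mk, Submodule.coe_add, Pi.add_apply]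
        by_cases hg : g ∈ T <;> simp [hg]
      | smul c a ha =>
        refine Subtype.ext (funext fun g => ?_)
        simp only [map_smul, LinearMap.smul_apply, ha, mk, SetLike.val_smul, Pi.smul_apply]
        by_cases hg : g ∈ T <;> simp [hg]
    let φ : W →ₗ[K] Fin n → K :=
      { toFun := fun u => u.1 1
        map_add' := fun u v => rfl
        map_smul' := fun c u => rfl }
    refine ⟨_, Y.exists_fin_rep hS ρ φ (fun t u => ?_) (v := mk s0) ⟨?_, ?_⟩ ?_⟩
    · show u.1 ((1 : G) * (t : G)) = S t (u.1 1)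
      rw [one_mul, ← u.2 t 1, mul_one]
    · rw [hmk, simpleHom, AlgHom.comp_apply, Y.core.shape.map_eps, map_one, Module.End.one_apply]
    · rw [hmk, simpleHom, AlgHom.comp_apply, map_pow, Y.core.shape.R_pi,
        zero_pow (by have := Y.core.two_le; omega), map_zero, LinearMap.zero_apply]
      refine Subtype.ext (funext fun g => ?_)
      simp only [mk]
      by_cases hg : g ∈ T <;> simp [hg]
    · show (if hg : (1 : G) ∈ T then S ⟨1, hg⟩ s0 else 0) ≠ 0
      rw [dif_pos T.one_mem, show (⟨1, T.one_mem⟩ : T) = 1 from rfl, map_one, Module.End.one_apply]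
      simp [s0]
  set m := Nat.find hex with hm
  obtain ⟨ρ, φ, hφ, v, hv, hφv⟩ := Nat.find_spec hex
  refine ⟨m, ρ, φ, fun A hA => ?_, hφ, v, hv, hφv⟩
  by_contra hne
  push Not at hne
  have hfd : Module.finrank K (Fin m → K) = m := Module.finrank_fin_fun K
  by_cases hp : ∀ u ∈ A, InKer ρ ε π N u → φ u = 0
  · obtain ⟨τ, hτ, hτA, hτker⟩ := Y.exists_proj_ext hS ρ hφ A hA hp
    have hlt : Module.finrank K ((Fin m → K) ⧸ A) < m := by
      have h1 := Submodule.finrank_quotient_add_finrank A
      have h2 : Module.finrank K A ≠ 0 := fun h => hne.1 (Submodule.finrank_eq_zero.mp h)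
      omega
    refine Nat.find_min hex hlt (Y.exists_fin_rep hS (quotAct ρ A hA)
      (A.liftQ (φ - τ) fun u hu => by simp [hτA u hu]) ?_ (v := A.mkQ v) ⟨?_, ?_⟩ ?_)
    · intro t u
      obtain ⟨u, rfl⟩ := A.mkQ_surjective u
      show (φ - τ) (ρ (t : G) u) = S t ((φ - τ) u)
      rw [LinearMap.sub_apply, LinearMap.sub_apply, map_sub, hφ, hτ]
    · rw [← act_map (H := H) (ρ := ρ) A.mkQ (fun g u => rfl), hv.1]
    · rw [← act_map (H := H) (ρ := ρ) A.mkQ (fun g u => rfl), hv.2, map_zero]
    · show (φ - τ) v ≠ 0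
      rwa [LinearMap.sub_apply, hτker v hv, sub_zero]
  · push Not at hp
    obtain ⟨u, hu, huk, hφu⟩ := hp
    have hlt : Module.finrank K A < m := by
      have h1 := Submodule.finrank_lt (lt_top_iff_ne_top.mpr hne.2).ne
      omega
    have hsub := fun a => act_map (H := H) (ρ := subAct ρ A hA) (ρ' := ρ) A.subtype
      (fun g w => rfl) a ⟨u, hu⟩
    refine Nat.find_min hex hlt (Y.exists_fin_rep hS (subAct ρ A hA) (φ.comp A.subtype)
      (fun t w => hφ t w.1) (v := ⟨u, hu⟩) ⟨Subtype.ext ?_, Subtype.ext ?_⟩ hφu)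
    · exact (hsub _).trans huk.1
    · exact (hsub _).trans huk.2

/-- A central element acting as one on the simple module fixes these representations. -/
theorem sum_smul_eq_one [IsAlgClosed K] {m : ℕ} (ρ : Representation K G (Fin m → K))
    (hirr : StableHom.IsIrr ρ) {φ : (Fin m → K) →ₗ[K] Fin n → K} (hφ : EquivT ρ S φ)
    {v : Fin m → K} (hv : InKer ρ ε π N v) (hφv : φ v ≠ 0) (c : G → K)
    (hc : ∀ g h, c (h * g * h⁻¹) = c g)
    (hone : simpleHom R (∑ h : H, c h • of K H h) = 1) : ∑ g, c g • ρ g = 1 := by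
  have hp : p.Prime := Fact.out
  let _ : MulAction H {g : G // g ∉ H} :=
    { smul := fun h g => ⟨(h : G) * g.1 * (h : G)⁻¹, fun h' => g.2 (by
        have := H.mul_mem (H.mul_mem (H.inv_mem h.2) h') h.2
        simpa [mul_assoc] using this)⟩
      one_smul := fun g => Subtype.ext (by
        show (1 : G) * g.1 * (1 : G)⁻¹ = g.1
        simp)
      mul_smul := fun a b g => Subtype.ext (by
        show (a : G) * b * g.1 * ((a : G) * b)⁻¹ = a * (b * g.1 * (b : G)⁻¹) * (a : G)⁻¹
        group) }
  have hfree : ∀ (ω : {g : G // g ∉ H}) (j : ℕ), 0 < j → j < p → z ^ j • ω ≠ ω := by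
    intro ω j hj hjp h
    refine ω.2 (Y.cent_z ω.1 ?_)
    have h1 : ((z ^ j : H) : G) * ω.1 * ((z ^ j : H) : G)⁻¹ = ω.1 := congrArg Subtype.val h
    rw [Subgroup.coe_pow, mul_inv_eq_iff_eq_mul] at h1
    have hzp : (z : G) ^ p = 1 := by rw [← Subgroup.coe_pow, Y.core.z_pow, Subgroup.coe_one]
    obtain ⟨k, hk⟩ := Nat.exists_mul_mod_eq_one_of_coprime
      ((hp.coprime_iff_not_dvd.mpr fun hd => (Nat.le_of_dvd hj hd).not_gt hjp).symm) hp.one_lt
    have h2 : ((z : G) ^ j) ^ k = z := by
      rw [← pow_mul, pow_eq_pow_mod _ hzp, hk.2, pow_one]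
    rw [← h2]
    exact (Commute.pow_left (show Commute ((z : G) ^ j) ω.1 from h1) k).symm
  set E := ∑ g, c g • ρ g with hE
  have hout : φ (∑ g : {g : G // g ∉ H}, (c g.1 • ρ g.1) v) = 0 :=
    Y.apply_free_sum ρ hS hφ hfree (fun g => c g.1 • ρ g.1) (fun h g => by
      show ρ (h : G) * (c g.1 • ρ g.1) = (c ((h : G) * g.1 * (h : G)⁻¹) •
        ρ ((h : G) * g.1 * (h : G)⁻¹)) * ρ (h : G)
      rw [hc, mul_smul_comm, smul_mul_assoc, ← map_mul, ← map_mul, inv_mul_cancel_right]) hv
  have hin : φ (∑ g : {g : G // g ∈ H}, (c g.1 • ρ g.1) v) = φ v := by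
    conv_rhs => rw [← Module.End.one_apply (R := K) (φ v), ← hone, ← Y.apply_act ρ hS hφ]
    congr 1
    rw [map_sum, LinearMap.sum_apply]
    refine Finset.sum_congr (by congr!) fun g _ => ?_
    rw [map_smul, act_of]
  have h1 : φ (E v) = φ v := by
    rw [hE, LinearMap.sum_apply, ← Fintype.sum_subtype_add_sum_subtype (· ∈ H), map_add]
    conv_rhs => rw [← add_zero (φ v), ← hin, ← hout]
  have hEc : ∀ x, ρ x * E = E * ρ x := fun x => by
    rw [hE, Finset.mul_sum, Finset.sum_mul]
    refine Fintype.sum_equiv (MulAut.conj x).toEquiv _ _ fun g => ?_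
    show ρ x * (c g • ρ g) = c (x * g * x⁻¹) • ρ (x * g * x⁻¹) * ρ x
    rw [hc, mul_smul_comm, smul_mul_assoc, ← map_mul, ← map_mul, inv_mul_cancel_right]
  haveI : Nontrivial (Fin m → K) := ⟨⟨v, 0, fun h => hφv (by rw [h, map_zero])⟩⟩
  obtain ⟨l, hl⟩ := Module.End.exists_eigenvalue E
  have hA := hirr (Module.End.eigenspace E l) fun g u hu => by
    rw [Module.End.mem_eigenspace_iff] at hu ⊢
    rw [← Module.End.mul_apply, ← hEc g, Module.End.mul_apply, hu, map_smul]
  have hEv : ∀ u, E u = l • u := fun u =>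
    Module.End.mem_eigenspace_iff.mp (hA.resolve_left hl ▸ Submodule.mem_top)
  have hl1 : l = 1 := by
    rw [hEv, map_smul] at h1
    have : (l - 1) • φ v = 0 := by rw [sub_smul, one_smul, h1, sub_self]
    exact sub_eq_zero.mp ((smul_eq_zero.mp this).resolve_right hφv)
  refine LinearMap.ext fun u => ?_
  rw [hEv, hl1, one_smul, Module.End.one_apply]

end Sys

end Cfsg.Agent.BlkChar.CyclicDefect
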