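import Cfsg.Agent.BlkChar.CyclicDefect.Unique
import Mathlib.FieldTheory.IsSepClosed
import Mathlib.RingTheory.RootsOfUnity.AlgebraicallyClosed

/-!
# Extensions of the simple module to the inertial group
-/

set_option autoImplicit false
set_option linter.unusedSectionVars false

namespace Cfsg.Agent.BlkChar.CyclicDefect

open scoped Classical
open Finset MonoidAlgebra BlocksCore

/-- A homomorphism on a cyclic extension from a compatible element. -/
theorem exists_hom_of_cyclic {X M : Type*} [Group X] [Group M] (N : Subgroup X) [N.Normal]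
    (r : N →* M) (x0 : X) (P : M) (m : ℕ) (hm : x0 ^ m ∈ N)
    (hdvd : ∀ k : ℤ, x0 ^ k ∈ N → (m : ℤ) ∣ k) (hP : P ^ m = r ⟨x0 ^ m, hm⟩)
    (hconj : ∀ h : N, P * r h = r ⟨x0 * h * x0⁻¹, Subgroup.Normal.conj_mem ‹_› _ h.2 x0⟩ * P)
    (hgen : ∀ x : X, ∃ k : ℤ, ∃ h : N, x = x0 ^ k * h) :
    ∃ S : X →* M, S x0 = P ∧ ∀ h : N, S h = r h := by
  have hz : ∀ (k : ℤ) (h : N), P ^ k * r h =
      r ⟨x0 ^ k * h * (x0 ^ k)⁻¹, Subgroup.Normal.conj_mem ‹_› _ h.2 _⟩ * P ^ k := by
    intro k
    induction k using Int.induction_on with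
    | zero => exact fun h => by simp
    | succ k ih =>
      intro h
      rw [zpow_add_one, mul_assoc, hconj, ← mul_assoc, ih, mul_assoc]
      congr 2
      exact Subtype.ext (by rw [zpow_add_one]; group)
    | pred k ih =>
      intro h
      rw [zpow_sub_one, mul_assoc]
      have e : P⁻¹ * r h = r ⟨x0⁻¹ * h * x0⁻¹⁻¹, Subgroup.Normal.conj_mem ‹_› _ h.2 _⟩ * P⁻¹ := by
        rw [eq_mul_inv_iff_mul_eq, mul_assoc, inv_mul_eq_iff_eq_mul, hconj]
        congr 2
        exact Subtype.ext (by group)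
      rw [e, ← mul_assoc, ih, mul_assoc]
      congr 2
      exact Subtype.ext (by rw [zpow_sub_one]; group)
  have hwd : ∀ (k k' : ℤ) (h h' : N), x0 ^ k * (h : X) = x0 ^ k' * h' →
      P ^ k * r h = P ^ k' * r h' := by
    intro k k' h h' e
    have e2 : x0 ^ (k - k') = (h' : X) * (h : X)⁻¹ := by
      rw [zpow_sub, eq_mul_inv_iff_mul_eq, mul_assoc, ← eq_inv_mul_iff_mul_eq]
      calc (x0 ^ k')⁻¹ * (h : X) = (x0 ^ k')⁻¹ * ((x0 ^ k)⁻¹ * (x0 ^ k * h)) := by group
        _ = _ := by rw [e]; group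
    obtain ⟨j, hj⟩ := hdvd (k - k') (e2 ▸ N.mul_mem h'.2 (N.inv_mem h.2))
    have e3 : P ^ (k - k') = r (h' * h⁻¹) := by
      rw [hj, zpow_mul, zpow_natCast, hP, ← map_zpow]
      congr 1
      refine Subtype.ext ?_
      rw [Subgroup.coe_zpow, Subgroup.coe_mul, Subgroup.coe_inv]
      show (x0 ^ m) ^ j = _
      rw [← e2, hj, zpow_mul, zpow_natCast]
    have e4 : P ^ k = P ^ k' * P ^ (k - k') := by rw [← zpow_add, add_sub_cancel]
    rw [e4, e3, mul_assoc, ← map_mul, inv_mul_cancel_right]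
  choose K H' hX using hgen
  refine ⟨MonoidHom.mk' (fun x => P ^ K x * r (H' x)) fun x y => ?_, ?_, fun h => ?_⟩
  · calc P ^ K (x * y) * r (H' (x * y))
        = P ^ (K x + K y) * r (⟨(x0 ^ (-K y)) * H' x * (x0 ^ (-K y))⁻¹,
            Subgroup.Normal.conj_mem ‹_› _ (H' x).2 _⟩ * H' y) := by
          refine hwd _ _ _ _ ?_
          rw [← hX, Subgroup.coe_mul]
          conv_lhs => rw [hX x, hX y]
          group
      _ = P ^ K x * r (H' x) * (P ^ K y * r (H' y)) := by
          rw [map_mul, zpow_add, mul_assoc (P ^ K x), ← mul_assoc (P ^ K y), hz]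
          simp only [← mul_assoc]
          congr 4
          exact Subtype.ext (by group)
  · show P ^ K x0 * r (H' x0) = P
    rw [hwd _ 1 _ 1 (by rw [← hX]; simp), zpow_one, map_one, mul_one]
  · show P ^ K (h : X) * r (H' h) = r h
    rw [hwd _ 0 _ h (by rw [← hX]; simp), zpow_zero, one_mul]

variable {K : Type*} [Field K] {G : Type*} [Group G] [Fintype G] {H T Dd : Subgroup G}

namespace Sys

variable {p : ℕ} [Fact p.Prime] [CharP K p] {z : H} {ε π w : MonoidAlgebra K H} {N q n : ℕ}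
  [NeZero n] {R : MonoidAlgebra K H →ₐ[K] Matrix (Fin n) (Fin n) K} {f : MonoidAlgebra K H}
  {U V' : Fin n → MonoidAlgebra K H} (Y : Sys p H T Dd z ε π w N q n R f U V')

include Y

theorem exists_scalar_of_commute (L : Module.End K (Fin n → K))
    (hL : ∀ x, L * simpleHom R x = simpleHom R x * L) : ∃ c : K, L = c • 1 := by
  obtain ⟨c, hc⟩ := Matrix.mem_range_scalar_of_commute_single (M := Matrix.toLinAlgEquiv'.symm L)
    fun i j _ => by
    obtain ⟨x, hx⟩ := Y.core.shape.surj (Matrix.single i j 1)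
    show Matrix.single i j 1 * _ = _ * Matrix.single i j 1
    apply Matrix.toLinAlgEquiv'.injective
    simp only [map_mul, AlgEquiv.apply_symm_apply]
    rw [← hx]
    exact (hL x).symm
  refine ⟨c, ?_⟩
  rw [← Matrix.toLinAlgEquiv'.apply_symm_apply L, ← hc, Matrix.scalar_apply,
    ← Matrix.smul_one_eq_diagonal, map_smul, map_one]

/-- The simple module is isomorphic to its conjugates. -/
theorem exists_intertwiner (g : Subgroup.normalizer (H : Set G)) (hg : (g : G) ∈ T) :
    ∃ P : (Module.End K (Fin n → K))ˣ,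
      ∀ x, (P : Module.End K (Fin n → K)) * simpleHom R x = simpleHom R (cj K H g x) * P := by
  have hS0 := Y.core.shape
  let τ : MonoidAlgebra K H →ₐ[K] Module.End K (Fin n → K) := (simpleHom R).comp (cj K H g)
  have hτε : τ ε = 1 := by
    simp only [τ, AlgHom.comp_apply, Y.eps_T g hg, simpleHom, hS0.map_eps, map_one]
  have hτπ : τ π = 0 := by
    obtain ⟨b, hb⟩ := Y.pi_T g hg
    simp only [τ, AlgHom.comp_apply, hb, map_mul]
    simp [simpleHom, hS0.R_pi]
  obtain ⟨v0, hv0, hv0n⟩ : ∃ v0, τ f v0 = v0 ∧ v0 ≠ 0 := by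
    obtain ⟨y, hy⟩ : ∃ y, τ f y ≠ 0 := by
      by_contra h
      push Not at h
      have hf0 : τ f = 0 := LinearMap.ext h
      have h1 : τ ε = 0 := by
        rw [← hS0.UV, map_sum]
        exact Finset.sum_eq_zero fun a _ => by rw [← hS0.Uf, map_mul, map_mul, hf0]; simp
      rw [hτε] at h1
      exact one_ne_zero (α := Module.End K (Fin n → K)) h1
    exact ⟨τ f y, by rw [← Module.End.mul_apply, ← map_mul, hS0.ff], hy⟩
  let P : Module.End K (Fin n → K) := Fintype.linearCombination K fun a => τ (U a) v0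
  have hP : ∀ u, P u = ∑ a, u a • τ (U a) v0 := fun u => rfl
  have hc : ∀ x a b, τ (V' b * x * U a) v0 = R x b a • v0 := fun x a b => by
    obtain ⟨c', hc'⟩ := hS0.corner_split (hS0.fcf x b a).1 (hS0.fcf x b a).2
    rw [hS0.R_VxU] at hc'
    rw [hc', map_add, map_smul, map_mul, hτπ, zero_mul, add_zero, LinearMap.smul_apply, hv0]
  have hinj : Function.Injective P := by
    rw [← LinearMap.ker_eq_bot, Submodule.eq_bot_iff]
    intro u hu
    funext b
    have h1 := congrArg (τ (V' b)) (LinearMap.mem_ker.mp hu)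
    rw [hP, map_sum, map_zero, Finset.sum_eq_single b] at h1
    · rw [map_smul, ← Module.End.mul_apply, ← map_mul, hS0.VU, if_pos rfl, hv0] at h1
      exact (smul_eq_zero.mp h1).resolve_right hv0n
    · intro a _ hab
      rw [map_smul, ← Module.End.mul_apply, ← map_mul, hS0.VU, if_neg (Ne.symm hab), map_zero,
        LinearMap.zero_apply, smul_zero]
    · simp
  refine ⟨((Module.End.isUnit_iff P).mpr ⟨hinj, LinearMap.injective_iff_surjective.mp hinj⟩).unit,
    fun x => LinearMap.ext fun u => ?_⟩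
  rw [IsUnit.unit_spec, Module.End.mul_apply, Module.End.mul_apply]
  show P (simpleHom R x u) = τ x (P u)
  rw [hP, hP, map_sum]
  have h2 : ∀ a, τ x (τ (U a) v0) = ∑ b, R x b a • τ (U b) v0 := fun a => by
    rw [← Module.End.mul_apply, ← map_mul, hS0.mul_U, map_sum, LinearMap.sum_apply]
    exact Finset.sum_congr rfl fun b _ => by rw [map_mul, Module.End.mul_apply, hc, map_smul]
  simp only [map_smul, h2, Finset.smul_sum]
  rw [Finset.sum_comm]
  refine Finset.sum_congr rfl fun b _ => ?_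
  rw [show simpleHom R x u b = ∑ a, R x b a * u a from rfl, Finset.sum_smul]
  exact Finset.sum_congr rfl fun a _ => by rw [smul_smul, mul_comm]

/-- As many extensions without intertwiners as the index. -/
theorem exists_exts [IsAlgClosed K] (t0 : T)
    (hgen : ∀ t : T, ∃ k : ℤ, ∃ h : G, h ∈ H ∧ (t : G) = (t0 : G) ^ k * h) :
    ∃ S : Fin (H.relIndex T) → Representation K T (Fin n → K), (∀ i, IsExt Y.HT R (S i)) ∧
      ∀ i j, i ≠ j → ∀ L : (Fin n → K) →ₗ[K] Fin n → K,
        (∀ t x, L (S i t x) = S j t (L x)) → L = 0 := by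
  haveI : (H.subgroupOf T).Normal := Subgroup.normal_subgroupOf_of_le_normalizer Y.TN
  set N' := H.subgroupOf T with hN'
  set m := orderOf (t0 : T ⧸ N') with hm
  have hgen' : ∀ t : T, ∃ k : ℤ, ∃ h : N', t = t0 ^ k * h := by
    intro t
    obtain ⟨k, h, hh, e⟩ := hgen t
    exact ⟨k, ⟨⟨h, Y.HT hh⟩, Subgroup.mem_subgroupOf.mpr hh⟩, Subtype.ext (by
      rw [Subgroup.coe_mul, Subgroup.coe_zpow]; exact e)⟩
  have hmcard : H.relIndex T = m := by
    rw [Subgroup.relIndex, Subgroup.index, hm]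
    symm
    refine orderOf_eq_card_of_forall_mem_zpowers fun x => ?_
    obtain ⟨t, rfl⟩ := QuotientGroup.mk_surjective x
    obtain ⟨k, h, rfl⟩ := hgen' t
    refine Subgroup.mem_zpowers_iff.mpr ⟨k, ?_⟩
    rw [QuotientGroup.mk_mul, QuotientGroup.mk_zpow, (QuotientGroup.eq_one_iff (h : T)).mpr h.2,
      mul_one]
  have hmmem : t0 ^ m ∈ N' := by
    rw [← QuotientGroup.eq_one_iff, QuotientGroup.mk_pow, pow_orderOf_eq_one]
  have hdvd : ∀ k : ℤ, t0 ^ k ∈ N' → (m : ℤ) ∣ k := fun k hk => by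
    rw [hm, orderOf_dvd_iff_zpow_eq_one, ← QuotientGroup.mk_zpow]
    exact (QuotientGroup.eq_one_iff _).mpr hk
  have hmK : (m : K) ≠ 0 := by
    rw [Ne, CharP.cast_eq_zero_iff K p, ← hmcard]
    exact Y.not_dvd
  have hmpos : 0 < m := orderOf_pos _
  let g0 : Subgroup.normalizer (H : Set G) := ⟨t0, Y.TN t0.2⟩
  obtain ⟨P0, hP0⟩ := Y.exists_intertwiner g0 t0.2
  let r : N' →* (Module.End K (Fin n → K))ˣ :=
    (((simpleHom R).toMonoidHom.comp (of K H)).comp
      { toFun := fun h : N' => (⟨((h : T) : G), Subgroup.mem_subgroupOf.mp h.2⟩ : H)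
        map_one' := rfl
        map_mul' := fun _ _ => rfl }).toHomUnits
  have hr : ∀ h : N', (r h : Module.End K (Fin n → K)) =
      simpleHom R (of K H ⟨((h : T) : G), Subgroup.mem_subgroupOf.mp h.2⟩) := fun h => rfl
  have hconj : ∀ h : N', P0 * r h =
      r ⟨t0 * h * t0⁻¹, Subgroup.Normal.conj_mem ‹_› _ h.2 t0⟩ * P0 := fun h => by
    refine Units.ext ?_
    rw [Units.val_mul, Units.val_mul, hr, hr, hP0, cj_of]
    rfl
  -- the power of the intertwiner
  obtain ⟨c, hc0, hc⟩ : ∃ c : K, c ≠ 0 ∧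
      ((P0 ^ m : (Module.End K (Fin n → K))ˣ) : Module.End K (Fin n → K)) =
        c • (r ⟨t0 ^ m, hmmem⟩ : Module.End K (Fin n → K)) := by
    have hk : ∀ (k : ℕ) (x : MonoidAlgebra K H),
        ((P0 ^ k : (Module.End K (Fin n → K))ˣ) : Module.End K (Fin n → K)) * simpleHom R x =
          simpleHom R (cj K H (g0 ^ k) x) * (P0 ^ k : (Module.End K (Fin n → K))ˣ) := by
      intro k
      induction k with
      | zero =>
        intro x
        have e : cj K H (1 : Subgroup.normalizer (H : Set G)) x = x := by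
          induction x using MonoidAlgebra.induction_on with
          | of h => rw [cj_of]; congr 1; exact Subtype.ext (by simp [nmap])
          | add a b ha hb => rw [map_add, ha, hb]
          | smul c a ha => rw [map_smul, ha]
        rw [pow_zero, pow_zero, e]; simp
      | succ k ih =>
        intro x
        have e : cj K H (g0 ^ (k + 1)) x = cj K H (g0 ^ k) (cj K H g0 x) := by
          induction x using MonoidAlgebra.induction_on with
          | of h =>
            rw [cj_of, cj_of, cj_of]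
            congr 1
            exact Subtype.ext (by simp [nmap, pow_succ, mul_assoc])
          | add a b ha hb => simp only [map_add, ha, hb]
          | smul c a ha => simp only [map_smul, ha]
        rw [pow_succ, Units.val_mul, mul_assoc, hP0, ← mul_assoc, ih, mul_assoc, ← e]
    set rm := r ⟨t0 ^ m, hmmem⟩ with hrm
    have hcom : ∀ x, ((rm⁻¹ * P0 ^ m : (Module.End K (Fin n → K))ˣ) : Module.End K (Fin n → K)) *
        simpleHom R x = simpleHom R x *
          ((rm⁻¹ * P0 ^ m : (Module.End K (Fin n → K))ˣ) : Module.End K (Fin n → K)) := by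
      intro x
      have e : (rm : Module.End K (Fin n → K)) * simpleHom R x =
          simpleHom R (cj K H (g0 ^ m) x) * rm := by
        induction x using MonoidAlgebra.induction_on with
        | of h =>
          rw [cj_of, hrm, hr, ← map_mul, ← map_mul, ← map_mul, ← map_mul]
          congr 2
          exact Subtype.ext (by simp [nmap, g0, mul_assoc])
        | add a b ha hb => simp only [map_add, mul_add, add_mul, ha, hb]
        | smul c a ha => simp only [map_smul, mul_smul_comm, smul_mul_assoc, ha]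
      rw [Units.val_mul, mul_assoc, hk, ← mul_assoc, ← mul_assoc]
      congr 1
      calc (↑rm⁻¹ : Module.End K (Fin n → K)) * simpleHom R (cj K H (g0 ^ m) x)
          = ↑rm⁻¹ * (simpleHom R (cj K H (g0 ^ m) x) * rm) * ↑rm⁻¹ := by
            rw [mul_assoc, mul_assoc, Units.mul_inv, mul_one]
        _ = simpleHom R x * ↑rm⁻¹ := by rw [← e, ← mul_assoc, Units.inv_mul, one_mul]
    obtain ⟨c, hc⟩ := Y.exists_scalar_of_commute _ hcom
    refine ⟨c, fun h0 => ?_, ?_⟩
    · rw [h0, zero_smul] at hc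
      exact (Units.ne_zero _) hc
    · have h1 := congrArg ((rm : Module.End K (Fin n → K)) * ·) hc
      simp only [Units.val_mul, ← mul_assoc, Units.mul_inv, one_mul, mul_smul_comm, mul_one] at h1
      exact h1
  obtain ⟨lam, hlam⟩ := IsAlgClosed.exists_pow_nat_eq c⁻¹ hmpos
  have hlam0 : lam ≠ 0 := by
    rintro rfl
    rw [zero_pow hmpos.ne'] at hlam
    exact inv_ne_zero hc0 hlam.symm
  haveI : NeZero (m : K) := ⟨hmK⟩
  obtain ⟨ζ, hζ⟩ := HasEnoughRootsOfUnity.exists_primitiveRoot K m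
  have hζ0 : ζ ≠ 0 := hζ.ne_zero hmpos.ne'
  let sc : ℕ → (Module.End K (Fin n → K))ˣ := fun i =>
    Units.map (algebraMap K (Module.End K (Fin n → K))).toMonoidHom
      (Units.mk0 (ζ ^ i * lam) (mul_ne_zero (pow_ne_zero _ hζ0) hlam0))
  have hsc : ∀ i, (sc i : Module.End K (Fin n → K)) = (ζ ^ i * lam) • 1 := fun i =>
    Algebra.algebraMap_eq_smul_one _
  have hext : ∀ i, ∃ S : T →* (Module.End K (Fin n → K))ˣ,
      S t0 = sc i * P0 ∧ ∀ h : N', S h = r h := by
    intro i
    refine exists_hom_of_cyclic N' r t0 (sc i * P0) m hmmem hdvd ?_ ?_ hgen'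
    · refine Units.ext ?_
      rw [Units.val_pow_eq_pow_val, Units.val_mul, hsc, smul_mul_assoc, one_mul, smul_pow,
        ← Units.val_pow_eq_pow_val, hc, smul_smul, mul_pow, hlam, ← pow_mul, mul_comm i m, pow_mul,
        hζ.pow_eq_one, one_pow, one_mul, inv_mul_cancel₀ hc0, one_smul]
    · intro h
      refine Units.ext ?_
      have h1 := congrArg (fun u : (Module.End K (Fin n → K))ˣ => (u : Module.End K (Fin n → K)))
        (hconj h)
      simp only [Units.val_mul] at h1 ⊢
      rw [hsc, smul_mul_assoc, one_mul, smul_mul_assoc, mul_smul_comm, h1]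
  choose S hSt0 hSh using hext
  refine ⟨fun i => (Units.coeHom _).comp (S i), fun i h => ?_, fun i j hij L hL => ?_⟩
  · exact congrArg (fun u : (Module.End K (Fin n → K))ˣ => (u : Module.End K (Fin n → K)))
      (hSh i ⟨⟨(h : G), Y.HT h.2⟩, Subgroup.mem_subgroupOf.mpr h.2⟩)
  have hcom : ∀ x, L * simpleHom R x = simpleHom R x * L := by
    intro x
    induction x using MonoidAlgebra.induction_on with
    | of h =>
      refine LinearMap.ext fun u => ?_
      have h1 := hL ⟨(h : G), Y.HT h.2⟩ u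
      simp only [MonoidHom.coe_comp, Function.comp_apply, Units.coeHom_apply] at h1
      rw [show S i ⟨(h : G), Y.HT h.2⟩ = r ⟨⟨(h : G), Y.HT h.2⟩, Subgroup.mem_subgroupOf.mpr h.2⟩
        from hSh i ⟨_, Subgroup.mem_subgroupOf.mpr h.2⟩,
        show S j ⟨(h : G), Y.HT h.2⟩ = r ⟨⟨(h : G), Y.HT h.2⟩, Subgroup.mem_subgroupOf.mpr h.2⟩
        from hSh j ⟨_, Subgroup.mem_subgroupOf.mpr h.2⟩] at h1
      exact h1
    | add a b ha hb => simp only [map_add, mul_add, add_mul, ha, hb]
    | smul c a ha => simp only [map_smul, mul_smul_comm, smul_mul_assoc, ha]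
  obtain ⟨a, ha⟩ := Y.exists_scalar_of_commute L hcom
  suffices a = 0 by rw [ha, this, zero_smul]
  by_contra ha0
  obtain ⟨u, hu⟩ := exists_ne (0 : Fin n → K)
  have h1 := hL t0 u
  simp only [MonoidHom.coe_comp, Function.comp_apply, Units.coeHom_apply, hSt0, Units.val_mul,
    hsc, ha, Module.End.mul_apply, LinearMap.smul_apply, Module.End.one_apply, map_smul] at h1
  have hne : (P0 : Module.End K (Fin n → K)) u ≠ 0 := fun h => hu (by
    have h2 := congrArg (↑P0⁻¹ : Module.End K (Fin n → K)) h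
    rwa [← Module.End.mul_apply, Units.inv_mul, Module.End.one_apply, map_zero] at h2)
  rw [smul_smul, smul_smul, ← sub_eq_zero, ← sub_smul, smul_eq_zero] at h1
  have h2 := h1.resolve_right hne
  rw [sub_eq_zero] at h2
  have h3 : ζ ^ (i : ℕ) = ζ ^ (j : ℕ) := by
    apply mul_left_cancel₀ ha0
    apply mul_right_cancel₀ hlam0
    linear_combination h2
  exact hij (Fin.ext (hζ.pow_inj (hmcard ▸ i.2) (hmcard ▸ j.2) h3))

/-- As many irreducible representations fixed by the central element as the index. -/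
theorem exists_family [IsAlgClosed K] (t0 : T)
    (hgen : ∀ t : T, ∃ k : ℤ, ∃ h : G, h ∈ H ∧ (t : G) = (t0 : G) ^ k * h) (c : G → K)
    (hc : ∀ g h, c (h * g * h⁻¹) = c g)
    (hone : simpleHom R (∑ h : H, c h • of K H h) = 1) :
    ∃ (m : Fin (H.relIndex T) → ℕ) (ρ : ∀ i, Representation K G (Fin (m i) → K)),
      (∀ i, StableHom.IsIrr (ρ i)) ∧ (∀ i, Nontrivial (Fin (m i) → K)) ∧
      (∀ i j, i ≠ j → ∀ L : (Fin (m i) → K) →ₗ[K] (Fin (m j) → K),
        (∀ g v, L (ρ i g v) = ρ j g (L v)) → L = 0) ∧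
      ∀ i, ∑ g, c g • ρ i g = 1 := by
  obtain ⟨S, hS, hne⟩ := Y.exists_exts t0 hgen
  choose m ρ φ hirr hφ v hv hφv using fun i => Y.exists_simple (hS i)
  refine ⟨m, ρ, hirr, fun i => ⟨⟨v i, 0, fun h => hφv i (by rw [h, map_zero])⟩⟩, fun i j hij L hL => ?_,
    fun i => Y.sum_smul_eq_one (hS i) (ρ i) (hirr i) (hφ i) (hv i) (hφv i) c hc hone⟩
  rcases hirr i (LinearMap.ker L) fun g u hu => by
      rw [LinearMap.mem_ker] at hu ⊢
      rw [hL, hu, map_zero] with hk | hk
  swap
  · exact LinearMap.ker_eq_top.mp hk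
  rcases hirr j (LinearMap.range L) fun g u hu => by
      obtain ⟨w, rfl⟩ := hu
      exact ⟨ρ i g w, hL g w⟩ with hr | hr
  · exact LinearMap.range_eq_bot.mp hr
  exfalso
  obtain ⟨u, hu⟩ := LinearMap.range_eq_top.mp hr (v j)
  have hinj := LinearMap.ker_eq_bot.mp hk
  refine Y.false_of_two (ρ i) (hS i) (hS j) (hφ i) (ψ := (φ j).comp L)
    (fun t w => by rw [LinearMap.comp_apply, hL, hφ j]; rfl) (hirr i) (hne i j hij)
    (hne j i (Ne.symm hij)) ⟨v i, hv i, hφv i⟩ ⟨u, ⟨hinj ?_, hinj ?_⟩, ?_⟩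
  · rw [act_map (H := H) L hL, hu]
    exact (hv j).1
  · rw [act_map (H := H) L hL, hu, map_zero]
    exact (hv j).2
  · rw [LinearMap.comp_apply, hu]
    exact hφv j

end Sys

end Cfsg.Agent.BlkChar.CyclicDefect
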