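import Cfsg.Agent.BlkChar.CyclicDefect.Shape0

/-!
# Modules on which the subgroup of order `p` acts freely
-/

set_option autoImplicit false
set_option linter.unusedSectionVars false

namespace Cfsg.Agent.BlkChar.CyclicDefect

open scoped Classical
open Finset

variable {K : Type*} [Field K]

/-- The geometric sum of length `p` in characteristic `p`. -/
theorem geom_eq_pow {R : Type*} [Ring R] [Algebra K R] {p : ℕ} [Fact p.Prime] [CharP K p] (a : R) :
    ∑ j ∈ range p, a ^ j = (a - 1) ^ (p - 1) := by
  have e2 : (∑ i ∈ range p, (Polynomial.X : Polynomial K) ^ i) =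
      (Polynomial.X - 1) ^ (p - 1) := by
    refine mul_right_cancel₀ (b := (Polynomial.X : Polynomial K) - 1) ?_ ?_
    · simpa using Polynomial.X_sub_C_ne_zero (1 : K)
    · rw [geom_sum_mul, ← pow_succ, Nat.sub_add_cancel (Fact.out : p.Prime).one_le, sub_pow_char,
        one_pow]
  have e3 := congrArg (Polynomial.aeval a) e2
  simpa using e3

/-- A vector killed by the sum of the powers is in the image of `a - 1`, given a relative trace
equal to one. -/
theorem exists_sub_eq {V : Type*} [AddCommGroup V] [Module K V] (a μ : Module.End K V) (n : ℕ)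
    (han : a ^ n = 1) (hμ : ∑ j ∈ range n, a ^ j * μ * a ^ (n - j) = 1) {v : V}
    (hv : ∑ j ∈ range n, (a ^ j) v = 0) : ∃ x, a x - x = v := by
  refine ⟨∑ j ∈ range n, (∑ i ∈ range j, a ^ i) (μ ((a ^ (n - j)) v)), ?_⟩
  have h0 : ∑ j ∈ range n, (a ^ (n - j)) v = 0 := by
    rw [← Finset.sum_range_reflect (fun j => (a ^ (n - j)) v)]
    have h1 : ∀ j ∈ range n, (a ^ (n - (n - 1 - j))) v = a ((a ^ j) v) := fun j hj => by
      have := Finset.mem_range.mp hj
      rw [show n - (n - 1 - j) = j + 1 by omega, pow_succ', Module.End.mul_apply]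
    rw [Finset.sum_congr rfl h1, ← map_sum, hv, map_zero]
  have h2 : ∀ j, ∀ u, a ((∑ i ∈ range j, a ^ i) u) - (∑ i ∈ range j, a ^ i) u = (a ^ j) u - u := by
    intro j u
    have h := congrArg (fun T : Module.End K V => T u) (mul_geom_sum a j)
    simpa using h
  rw [map_sum, ← Finset.sum_sub_distrib, Finset.sum_congr rfl fun j _ => h2 j _,
    Finset.sum_sub_distrib, ← map_sum, h0, map_zero, sub_zero]
  have h3 := congrArg (fun T : Module.End K V => T v) hμ
  simpa [Module.End.mul_apply] using h3

section Perm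

variable {H : Type*} [Group H] {V : Type*} [AddCommGroup V] [Module K V] (ρ : Representation K H V)
  (Ω : Type*) [MulAction H Ω]

/-- The functions on a set with the twisted action. -/
def funRep : Representation K H (Ω → V) where
  toFun h :=
    { toFun := fun y ω => ρ h (y (h⁻¹ • ω))
      map_add' := fun y y' => funext fun ω => by simp
      map_smul' := fun c y => funext fun ω => by simp }
  map_one' := LinearMap.ext fun y => funext fun ω => by simp
  map_mul' h k := LinearMap.ext fun y => funext fun ω => by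
    simp [mul_smul, Module.End.mul_apply]

theorem funRep_apply (h : H) (y : Ω → V) (ω : Ω) : funRep ρ Ω h y ω = ρ h (y (h⁻¹ • ω)) := rfl

/-- A free action of the powers of `z` gives a relative trace equal to one. -/
theorem funRep_higman {p : ℕ} {z : H} (hp : 0 < p) (hzp : z ^ p = 1)
    (hfree : ∀ (ω : Ω) (j : ℕ), 0 < j → j < p → z ^ j • ω ≠ ω) :
    ∃ μ : Module.End K (Ω → V),
      ∑ j ∈ range p, funRep ρ Ω z ^ j * μ * funRep ρ Ω z ^ (p - j) = 1 := by
  let rep : Ω → Ω := fun ω =>
    (Quotient.mk (MulAction.orbitRel (Subgroup.zpowers z) Ω) ω).out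
  have hrep : ∀ ω, ∃ j < p, z ^ j • rep ω = ω := by
    intro ω
    obtain ⟨⟨u, hu⟩, hu'⟩ : ω ∈ MulAction.orbit (Subgroup.zpowers z) (rep ω) :=
      (MulAction.orbitRel (Subgroup.zpowers z) Ω).symm
        (Quotient.mk_out (s := MulAction.orbitRel (Subgroup.zpowers z) Ω) ω)
    obtain ⟨j, hj⟩ := (Submonoid.mem_powers_iff u z).mp
      ((IsOfFinOrder.mem_powers_iff_mem_zpowers
        (isOfFinOrder_iff_pow_eq_one.mpr ⟨p, hp, hzp⟩)).mpr hu)
    refine ⟨j % p, Nat.mod_lt _ hp, ?_⟩
    rw [← pow_eq_pow_mod j hzp, hj]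
    exact hu'
  have hrep2 : ∀ ω (j : ℕ), rep ((z ^ j)⁻¹ • ω) = rep ω := fun ω j => by
    refine congrArg Quotient.out (Quotient.sound
      (show (z ^ j)⁻¹ • ω ∈ MulAction.orbit (Subgroup.zpowers z) ω from
        ⟨⟨(z ^ j)⁻¹, Subgroup.inv_mem _ (Subgroup.pow_mem _ (Subgroup.mem_zpowers z) j)⟩, rfl⟩))
  let μ : Module.End K (Ω → V) :=
    { toFun := fun y ω => if ω = rep ω then y ω else 0
      map_add' := fun y y' => funext fun ω => by simp only [Pi.add_apply]; split_ifs <;> simp
      map_smul' := fun c y => funext fun ω => by simp only [Pi.smul_apply, RingHom.id_apply]; split_ifs <;> simp }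
  refine ⟨μ, LinearMap.ext fun y => funext fun ω => ?_⟩
  obtain ⟨j0, hj0, hω⟩ := hrep ω
  rw [LinearMap.sum_apply, Finset.sum_apply, Finset.sum_eq_single j0]
  · have e1 : (z ^ j0)⁻¹ • ω = rep ω := inv_smul_eq_iff.mpr hω.symm
    simp only [Module.End.mul_apply, ← map_pow, funRep_apply, Module.End.one_apply]
    show ρ (z ^ j0) (if (z ^ j0)⁻¹ • ω = rep ((z ^ j0)⁻¹ • ω) then _ else 0) = y ω
    rw [hrep2, if_pos e1, funRep_apply, ← Module.End.mul_apply, ← map_mul, ← mul_smul,
      ← mul_inv_rev, ← pow_add, Nat.add_sub_cancel' hj0.le, hzp, inv_one, one_smul, map_one,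
      Module.End.one_apply]
  · intro j hj hne
    have hjp := Finset.mem_range.mp hj
    simp only [Module.End.mul_apply, ← map_pow, funRep_apply]
    show ρ (z ^ j) (if (z ^ j)⁻¹ • ω = rep ((z ^ j)⁻¹ • ω) then _ else 0) = 0
    rw [hrep2, if_neg, map_zero]
    intro h
    have e2 : z ^ j • rep ω = z ^ j0 • rep ω := (inv_smul_eq_iff.mp h).symm.trans hω.symm
    rcases lt_or_gt_of_ne hne with h' | h'
    · refine hfree (rep ω) (j0 - j) (by omega) (by omega) ?_
      have h3 := e2.symm
      rw [← Nat.add_sub_cancel' h'.le, pow_add, mul_smul] at h3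
      exact MulAction.injective (z ^ j) h3
    · refine hfree (rep ω) (j - j0) (by omega) (by omega) ?_
      have h3 := e2
      rw [← Nat.add_sub_cancel' h'.le, pow_add, mul_smul] at h3
      exact MulAction.injective (z ^ j0) h3
  · exact fun h => absurd (Finset.mem_range.mpr hj0) h

/-- A family of operators gives a map to the functions, equivariant for the group algebra. -/
theorem funRep_theta (O : Ω → Module.End K V) (hO : ∀ h ω, ρ h * O ω = O (h • ω) * ρ h)
    (a : MonoidAlgebra K H) (w : V) :
    (funRep ρ Ω).asAlgebraHom a (fun ω => O ω w) = fun ω => O ω (ρ.asAlgebraHom a w) := by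
  induction a using MonoidAlgebra.induction_on with
  | of h =>
    rw [Representation.asAlgebraHom_of, Representation.asAlgebraHom_of]
    funext ω
    rw [funRep_apply]
    have e := congrArg (fun T : Module.End K V => T w) (hO h (h⁻¹ • ω))
    simpa [smul_inv_smul] using e
  | add a b ha hb =>
    rw [map_add, map_add, LinearMap.add_apply, ha, hb]
    funext ω
    simp
  | smul c a ha =>
    rw [map_smul, map_smul, LinearMap.smul_apply, ha]
    funext ω
    simp

/-- Summation over the set commutes with the group algebra. -/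
theorem funRep_sum [Fintype Ω] (a : MonoidAlgebra K H) (y : Ω → V) :
    ∑ ω, (funRep ρ Ω).asAlgebraHom a y ω = ρ.asAlgebraHom a (∑ ω, y ω) := by
  induction a using MonoidAlgebra.induction_on with
  | of h =>
    rw [Representation.asAlgebraHom_of, Representation.asAlgebraHom_of, map_sum]
    exact Fintype.sum_equiv (MulAction.toPerm h⁻¹) _ _ fun ω => rfl
  | add a b ha hb => simp [map_add, Finset.sum_add_distrib, ha, hb]
  | smul c a ha => simp [map_smul, ← Finset.smul_sum, ha]

end Perm

end Cfsg.Agent.BlkChar.CyclicDefect
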