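import Cfsg.Agent.BlkChar.CyclicDefect.Values
import Cfsg.Agent.BlkChar.CyclicDefect.Props
import Cfsg.Prelude.Def_BlockLocal

/-!
# Perfect isometries from matching induced differences
-/

set_option autoImplicit false
set_option linter.unusedSectionVars false
set_option linter.style.haveILetI false

namespace Cfsg.Agent.BlkChar.CyclicDefect

open BlocksCore BlocksDefect BC85 BC85.Star
open scoped Classical ComplexConjugate

universe u v

variable {G : Type u} [Group G] [Fintype G] {p : ℕ} [Fact p.Prime] {M : Ideal AlgInt}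
  [hP : M.IsPrime] {B : Set (IrrCharacter G)} {D : Subgroup G}
  {c : Set (IrrCharacter (Subgroup.centralizer (D : Set G)))} (X : CycData p M B D c)
  {F : Type v} [Group F] [Fintype F] {B' : Set (IrrCharacter F)} {D' : Subgroup F}
  {c' : Set (IrrCharacter (Subgroup.centralizer (D' : Set F)))} (Y : CycData p M B' D' c')
  (ι : X.loc ≃* Y.loc)

theorem CycData.vind_eq_sum_block [Fintype B] (l : X.loc →* ℂˣ) (g : G) :
    X.vind l g = ∑ χ ∈ B.toFinset, (X.coef l χ : ℂ) * (χ : G → ℂ) g := by
  have := finite_irr (G := G)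
  letI := Fintype.ofFinite (IrrCharacter G)
  rw [X.vind_eq_sum]
  refine (Finset.sum_subset (Finset.subset_univ _) fun χ _ hχ => ?_).symm
  have h1 := (X.coef_spec l χ).symm.trans
    (X.classInner_vind_of_notMem l fun h => hχ (Set.mem_toFinset.mpr h))
  rw [show X.coef l χ = 0 by exact_mod_cast h1, Int.cast_zero, zero_mul]

/-- A signed bijection carrying the coefficients of the induced differences into each other. -/
structure Matches (I : IrrCharacter G → IrrCharacter F) (s : IrrCharacter G → ℤ) : Prop where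
  bij : Set.BijOn I B B'
  sign : ∀ η ∈ B, s η = 1 ∨ s η = -1
  coef : ∀ l : Y.loc →* ℂˣ, l ≠ 1 → ∀ η ∈ B,
    Y.coef l (I η) = s η * X.coef (pull X Y ι l) η

variable {X Y ι} {I : IrrCharacter G → IrrCharacter F} {s : IrrCharacter G → ℤ}

namespace Matches

variable (A : Matches X Y ι I s)
include A

theorem sign_mul {η : IrrCharacter G} (hη : η ∈ B) : (s η : ℂ) * s η = 1 := by
  rcases A.sign η hη with h | h <;> simp [h]

/-- The kernel at a singular element of the second group. -/
theorem kernel_left [Fintype (Y.loc →* ℂˣ)] {x : F} (hx : p ∣ orderOf x) (y : G) :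
    (Y.ei : ℂ) * signedBijectionKernel B I s x y =
      ∑ l : Y.loc →* ℂˣ, X.tw (pull X Y ι l) y * Y.tw l x := by
  haveI := finite_irr (G := G)
  haveI := finite_irr (G := F)
  letI := Fintype.ofFinite B
  obtain ⟨R, hR⟩ := Y.exists_reps
  have h1 : signedBijectionKernel B I s x y =
      ∑ l ∈ R, Y.tw l x * X.vind (pull X Y ι l) y := by
    rw [signedBijectionKernel, finsum_mem_eq_toFinset_sum,
      Finset.sum_congr rfl fun η hη => by
        rw [Y.apply_singular hR hx (A.bij.mapsTo (Set.mem_toFinset.mp hη)), Finset.mul_sum,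
          Finset.sum_mul],
      Finset.sum_comm]
    refine Finset.sum_congr rfl fun l hl => ?_
    rw [X.vind_eq_sum_block, Finset.mul_sum]
    refine Finset.sum_congr rfl fun η hη => ?_
    rw [A.coef l (hR.ne_one l hl) η (Set.mem_toFinset.mp hη)]
    push_cast
    have := A.sign_mul (Set.mem_toFinset.mp hη)
    linear_combination ((X.coef (pull X Y ι l) η : ℂ) * Y.tw l x * (η : G → ℂ) y) * this
  have hinv : ∀ t l, X.vind (pull X Y ι (Y.lconj t l)) y = X.vind (pull X Y ι l) y := by
    intro t l
    by_cases hl : l = 1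
    · subst hl
      rw [show Y.lconj t 1 = 1 from MonoidHom.ext fun _ => rfl]
    rw [X.vind_eq_sum_block, X.vind_eq_sum_block]
    refine Finset.sum_congr rfl fun η hη => ?_
    have hη' := Set.mem_toFinset.mp hη
    have e1 := A.coef (Y.lconj t l) (Y.lconj_ne_one t hl) η hη'
    rw [Y.coef_lconj, A.coef l hl η hη'] at e1
    rw [mul_left_cancel₀ (fun h0 => by rcases A.sign η hη' with h | h <;> omega) e1]
  have h2 := Y.sum_reps hR (fun l => Y.tw l x * X.vind (pull X Y ι l) y) fun t l => by
    rw [hinv, Y.tw_lconj]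
  have h0 : X.vind (pull X Y ι (1 : Y.loc →* ℂˣ)) y = 0 := by
    rw [pull_one, X.vind_eq, sub_self]; rfl
  rw [h0, mul_zero, zero_add] at h2
  rw [h1, ← h2]
  simp only [X.vind_eq, Pi.sub_apply, mul_sub, Finset.sum_sub_distrib, ← Finset.sum_mul,
    Y.sum_tw hx, zero_mul, sub_zero]
  exact Finset.sum_congr rfl fun l _ => mul_comm _ _

/-- The kernel at a singular element of the first group. -/
theorem kernel_right [Fintype (X.loc →* ℂˣ)] (x : F) {y : G} (hy : p ∣ orderOf y) :
    (X.ei : ℂ) * signedBijectionKernel B I s x y =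
      ∑ m : X.loc →* ℂˣ, Y.tw (pull Y X ι.symm m) x * X.tw m y := by
  haveI := finite_irr (G := G)
  haveI := finite_irr (G := F)
  letI := Fintype.ofFinite B
  letI := Fintype.ofFinite B'
  obtain ⟨R, hR⟩ := X.exists_reps
  have hne : ∀ m : X.loc →* ℂˣ, m ≠ 1 → pull Y X ι.symm m ≠ 1 := fun m hm h => hm (by
    rw [← pull_pull X Y ι m, h, pull_one])
  have hcoef : ∀ m : X.loc →* ℂˣ, m ≠ 1 → ∀ η ∈ B,
      (Y.coef (pull Y X ι.symm m) (I η) : ℂ) = s η * X.coef m η := by
    intro m hm η hη
    rw [A.coef _ (hne m hm) η hη, pull_pull]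
    push_cast
    rfl
  have hvind : ∀ m : X.loc →* ℂˣ, m ≠ 1 → Y.vind (pull Y X ι.symm m) x =
      ∑ η ∈ B.toFinset, (s η : ℂ) * X.coef m η * (I η : F → ℂ) x := by
    intro m hm
    rw [Y.vind_eq_sum_block]
    symm
    refine Finset.sum_bij (fun η _ => I η)
      (fun η hη => Set.mem_toFinset.mpr (A.bij.mapsTo (Set.mem_toFinset.mp hη)))
      (fun a ha b hb e => A.bij.injOn (Set.mem_toFinset.mp ha) (Set.mem_toFinset.mp hb) e)
      (fun χ hχ => ?_) fun η hη => by rw [hcoef m hm η (Set.mem_toFinset.mp hη)]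
    obtain ⟨η, hη, e⟩ := A.bij.surjOn (Set.mem_toFinset.mp hχ)
    exact ⟨η, Set.mem_toFinset.mpr hη, e⟩
  have h1 : signedBijectionKernel B I s x y =
      ∑ m ∈ R, X.tw m y * Y.vind (pull Y X ι.symm m) x := by
    rw [signedBijectionKernel, finsum_mem_eq_toFinset_sum,
      Finset.sum_congr rfl fun η hη => by
        rw [X.apply_singular hR hy (Set.mem_toFinset.mp hη), Finset.mul_sum],
      Finset.sum_comm]
    refine Finset.sum_congr rfl fun m hm => ?_
    rw [hvind m (hR.ne_one m hm), Finset.mul_sum]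
    exact Finset.sum_congr rfl fun η _ => by ring
  have hinv : ∀ t m, Y.vind (pull Y X ι.symm (X.lconj t m)) x =
      Y.vind (pull Y X ι.symm m) x := by
    intro t m
    by_cases hm : m = 1
    · subst hm
      rw [show X.lconj t 1 = 1 from MonoidHom.ext fun _ => rfl]
    rw [hvind _ (X.lconj_ne_one t hm), hvind m hm]
    exact Finset.sum_congr rfl fun η _ => by rw [X.coef_lconj]
  have h2 := X.sum_reps hR (fun m => X.tw m y * Y.vind (pull Y X ι.symm m) x) fun t m => by
    rw [hinv, X.tw_lconj]
  have h0 : Y.vind (pull Y X ι.symm (1 : X.loc →* ℂˣ)) x = 0 := by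
    rw [pull_one, Y.vind_eq, sub_self]; rfl
  rw [h0, mul_zero, zero_add] at h2
  rw [h1, ← h2]
  simp only [Y.vind_eq, Pi.sub_apply, mul_sub, Finset.sum_sub_distrib, ← Finset.sum_mul,
    X.sum_tw hy, zero_mul, sub_zero]
  exact Finset.sum_congr rfl fun m _ => mul_comm _ _

theorem isPerfectIsometry : IsPerfectIsometry p M B B' I s := by
  haveI := finite_irr (G := G)
  haveI := finite_irr (G := F)
  letI := Fintype.ofFinite B
  haveI := X.nil.cyc
  haveI := Y.nil.cyc
  haveI := finite_lin (P := X.loc)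
  haveI := finite_lin (P := Y.loc)
  letI := Fintype.ofFinite (X.loc →* ℂˣ)
  letI := Fintype.ofFinite (Y.loc →* ℂˣ)
  have heX : (X.ei : ℂ) ≠ 0 := Nat.cast_ne_zero.mpr X.ei_pos.ne'
  have heY : (Y.ei : ℂ) ≠ 0 := Nat.cast_ne_zero.mpr Y.ei_pos.ne'
  have hmix1 : ∀ x y, p ∣ orderOf x → ¬ p ∣ orderOf y → signedBijectionKernel B I s x y = 0 := by
    intro x y hx hy
    refine (mul_eq_zero.mp ?_).resolve_left heY
    rw [A.kernel_left hx y, Finset.sum_congr rfl fun l _ => by rw [X.tw_regular _ hy],
      ← Finset.mul_sum, Y.sum_tw hx, mul_zero]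
  have hmix2 : ∀ x y, ¬ p ∣ orderOf x → p ∣ orderOf y → signedBijectionKernel B I s x y = 0 := by
    intro x y hx hy
    refine (mul_eq_zero.mp ?_).resolve_left heX
    rw [A.kernel_right x hy, Finset.sum_congr rfl fun l _ => by rw [Y.tw_regular _ hx],
      ← Finset.mul_sum, X.sum_tw hy, mul_zero]
  refine ⟨A.bij, A.sign, fun x y => ?_⟩
  by_cases hx : p ∣ orderOf x <;> by_cases hy : p ∣ orderOf y
  · refine ⟨?_, ?_, Or.inl (iff_of_false (not_not.mpr hx) (not_not.mpr hy))⟩
    · have h := (localRing M).mul_mem (memLocalRing_natCast_inv Y.mod Y.not_dvd_ei)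
        (pairing_div_mem X Y ι hx y)
      rwa [← A.kernel_left hx y, mul_div_assoc, inv_mul_cancel_left₀ heY] at h
    · have h := (localRing M).mul_mem (memLocalRing_natCast_inv X.mod X.not_dvd_ei)
        (pairing_div_mem Y X ι.symm hy x)
      rwa [← A.kernel_right x hy, mul_div_assoc, inv_mul_cancel_left₀ heX] at h
  · have h := hmix1 x y hx hy
    exact ⟨by rw [h, zero_div]; exact (localRing M).zero_mem,
      by rw [h, zero_div]; exact (localRing M).zero_mem, Or.inr h⟩
  · have h := hmix2 x y hx hy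
    exact ⟨by rw [h, zero_div]; exact (localRing M).zero_mem,
      by rw [h, zero_div]; exact (localRing M).zero_mem, Or.inr h⟩
  · refine ⟨?_, ?_, Or.inl (iff_of_true hx hy)⟩
    · rw [signedBijectionKernel, finsum_mem_eq_toFinset_sum,
        Finset.sum_congr rfl (g := fun η => ((s η : ℂ) * (η : G → ℂ) y) * (I η : F → ℂ) x)
        fun η _ => by ring]
      refine CentralizerDvd.memLocalRing_div_centralizer X.mod B.toFinset I _ (fun η _ => ?_)
        (fun z hz => ?_) hx
      · exact (localRing M).mul_mem (memLocalRing_intCast _)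
          (memLocalRing_of_isIntegral (isIntegral_irr η y))
      · rw [← hmix1 z y hz hy, signedBijectionKernel, finsum_mem_eq_toFinset_sum]
        exact Finset.sum_congr rfl fun η _ => by ring
    · rw [signedBijectionKernel, finsum_mem_eq_toFinset_sum]
      refine CentralizerDvd.memLocalRing_div_centralizer X.mod B.toFinset id
        (fun η => (s η : ℂ) * (I η : F → ℂ) x) (fun η _ => ?_) (fun z hz => ?_) hy
      · exact (localRing M).mul_mem (memLocalRing_intCast _)
          (memLocalRing_of_isIntegral (isIntegral_irr (I η) x))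
      · rw [← hmix2 x z hx hz, signedBijectionKernel, finsum_mem_eq_toFinset_sum]
        rfl

end Matches

end Cfsg.Agent.BlkChar.CyclicDefect
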