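import Cfsg.Agent.BlkChar.CyclicDefect.Setup

/-!
# The generalized characters induced from the centralizer of the subgroup of order `p`

For a non-trivial linear character `l` of the defect group the difference of the twist by `l` and
the invariant member of the local block induces to a generalized character in the block, and
these have Gram matrix `δ + e`.
-/

set_option autoImplicit false
set_option linter.unusedSectionVars false

namespace Cfsg.Agent.BlkChar.CyclicDefect

open BlocksCore BlocksDefect BC85 BC85.Star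
open scoped Classical ComplexConjugate

universe u

variable {G : Type u} [Group G] [Fintype G] {p : ℕ} [Fact p.Prime] {M : Ideal AlgInt}
  [hP : M.IsPrime]

omit hP in
theorem pp_coe {H : Subgroup G} (x : H) : pp p (x : G) = ((pp p x : H) : G) := by
  obtain ⟨hc, hreg⟩ := regular_inv_pp_mul (p := p) x
  obtain ⟨k, hk⟩ := (pp_spec (p := p) x).choose_spec.2.2.1
  conv_lhs => rw [← mul_inv_cancel_left (pp p x) x, Subgroup.coe_mul]
  exact pp_mul ⟨k, by rw [Subgroup.orderOf_coe, hk]⟩ (by rwa [Subgroup.orderOf_coe])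
    (hc.map H.subtype)

/-- A member of a block vanishes off the sections of the maximal pair. -/
theorem exists_conj_of_ne_zero {B : Set (IrrCharacter G)} {P : Subgroup G}
    {e : Set (IrrCharacter (Subgroup.centralizer (P : Set G)))} (hM : IsPModular p M)
    (hmax : IsMaximalBrauerPair p M B P e) {χ : IrrCharacter G} (hχ : χ ∈ B) {g : G}
    (hg : (χ : G → ℂ) g ≠ 0) : ∃ x : G, x * pp p g * x⁻¹ ∈ P := by
  obtain ⟨hcomm, hreg⟩ := regular_inv_pp_mul (p := p) g
  have hord : ∃ n : ℕ, orderOf (pp p g) = p ^ n := (pp_spec (p := p) g).choose_spec.2.2.1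
  by_contra hno
  push Not at hno
  have h := sum_proj (M := M) hM (pp p g) (χ : G → ℂ) ((pp p g)⁻¹ * g)
  rw [mul_inv_cancel_left] at h
  refine hg (h.symm.trans (Finset.sum_eq_zero fun a ha => ?_))
  refine proj_eq_zero_of_not_pairOf hM hmax.1.2.1 hχ hord ha (fun hB => ?_)
    (s := ⟨_, Subgroup.mem_centralizer_singleton_iff.mpr hcomm.eq.symm⟩)
    (by rwa [Subgroup.orderOf_mk])
  obtain ⟨x, -, hx⟩ := exists_conj_mem hM hmax (mem_pairsAt.mp ha).1 hB
  exact hno x hx

variable {B : Set (IrrCharacter G)} {D : Subgroup G}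
  {c : Set (IrrCharacter (Subgroup.centralizer (D : Set G)))}

namespace CycData

variable (X : CycData p M B D c)
include X

/-- The invariant member of the local block. -/
noncomputable def χ0 : IrrCharacter X.H := X.exists_fixed.choose

theorem χ0_mem : X.χ0 ∈ X.blk := X.exists_fixed.choose_spec.1

theorem χ0_fixed (t : stabT D c) : X.conjT t X.χ0 = X.χ0 := X.exists_fixed.choose_spec.2 t

/-- The difference of a twist and the invariant member. -/
noncomputable def vfun (l : X.loc →* ℂˣ) : X.H → ℂ :=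
  (X.nil.twist l X.χ0 : X.H → ℂ) - (X.χ0 : X.H → ℂ)

theorem vfun_apply (l : X.loc →* ℂˣ) (x : X.H) :
    X.vfun l x = (X.nil.twist l X.χ0 : X.H → ℂ) x - (X.χ0 : X.H → ℂ) x := rfl

theorem vfun_gen (l : X.loc →* ℂˣ) : IsGeneralizedCharacter X.H (X.vfun l) :=
  CharCore.isGeneralized_sub (CharCore.irr_isGeneralized _) (CharCore.irr_isGeneralized _)

theorem vfun_class (l : X.loc →* ℂˣ) : IsClassFunction X.H (X.vfun l) :=
  CharCore.IsGeneralizedCharacter.isClassFunction (X.vfun_gen l)

theorem vfun_regular (l : X.loc →* ℂˣ) {x : X.H} (hx : ¬ p ∣ orderOf x) : X.vfun l x = 0 := by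
  rw [vfun_apply, X.nil.twist_regular l X.χ0_mem hx, sub_self]

/-- Where the difference is not zero, the `p`-part is conjugate into the defect group. -/
theorem vfun_support {l : X.loc →* ℂˣ} {x : X.H} (hx : X.vfun l x ≠ 0) :
    ∃ y : X.H, ((y * pp p x * y⁻¹ : X.H) : G) ∈ D ∧ pp p x ≠ 1 := by
  have hsing : pp p x ≠ 1 := fun h => by
    obtain ⟨-, hreg⟩ := regular_inv_pp_mul (p := p) x
    rw [h, inv_one, one_mul] at hreg
    exact hx (X.vfun_regular l hreg)
  have : (X.nil.twist l X.χ0 : X.H → ℂ) x ≠ 0 ∨ (X.χ0 : X.H → ℂ) x ≠ 0 := by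
    by_contra h
    push Not at h
    exact hx (by rw [vfun_apply, h.1, h.2, sub_zero])
  rcases this with h | h
  · obtain ⟨y, hy⟩ := exists_conj_of_ne_zero X.mod X.nil.max (X.nil.twist_mem l X.χ0_mem) h
    exact ⟨y, hy, hsing⟩
  · obtain ⟨y, hy⟩ := exists_conj_of_ne_zero X.mod X.nil.max X.χ0_mem h
    exact ⟨y, hy, hsing⟩

/-- The induced difference. -/
noncomputable def vind (l : X.loc →* ℂˣ) : G → ℂ := indFun X.H (X.vfun l)

theorem vind_gen (l : X.loc →* ℂˣ) : IsGeneralizedCharacter G (X.vind l) :=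
  CharInd.isGeneralizedCharacter_indFun X.H (X.vfun_gen l)

theorem vind_regular (l : X.loc →* ℂˣ) {g : G} (hg : ¬ p ∣ orderOf g) : X.vind l g = 0 := by
  rw [vind, CharInd.indFun_apply, Finset.sum_eq_zero, mul_zero]
  intro x _
  by_cases hm : x⁻¹ * g * x ∈ X.H
  · rw [CharInd.extendByZero_mem _ hm]
    refine X.vfun_regular l ?_
    rwa [Subgroup.orderOf_mk, show x⁻¹ * g * x = MulAut.conj x⁻¹ g by simp, MulEquiv.orderOf_eq]
  · exact CharInd.extendByZero_notMem _ hm

theorem mem_normalizer_of_support {l m : X.loc →* ℂˣ} {h : X.H} (hh : X.vfun l h ≠ 0) {x : G}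
    (hx : extendByZero X.H (X.vfun m) (x⁻¹ * h * x) ≠ 0) :
    x ∈ Subgroup.normalizer (Subgroup.zpowers X.zel : Set G) := by
  by_cases hm : x⁻¹ * h * x ∈ X.H
  swap
  · exact absurd (CharInd.extendByZero_notMem _ hm) hx
  rw [CharInd.extendByZero_mem _ hm] at hx
  obtain ⟨y, hy, hy1⟩ := X.vfun_support hh
  obtain ⟨w, hw, hw1⟩ := X.vfun_support hx
  rw [Subgroup.coe_mul, Subgroup.coe_mul, ← pp_coe, Subgroup.coe_inv] at hy hw
  have hu1 : pp p (h : G) ≠ 1 := fun h1 => hy1 (Subtype.ext (by rw [← pp_coe]; exact h1))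
  have e : pp p (x⁻¹ * h * x) = x⁻¹ * pp p (h : G) * x := by
    have h3 := pp_conj (p := p) (h : G) x⁻¹
    rwa [inv_inv] at h3
  change (w : G) * pp p (x⁻¹ * h * x) * (w : G)⁻¹ ∈ D at hw
  rw [e] at hw
  -- the subgroup of order `p` of the two `p`-parts
  have key : ∀ (g u : G), g * u * g⁻¹ ∈ D → g * u * g⁻¹ ≠ 1 →
      (Subgroup.zpowers X.zel) ≤ (Subgroup.zpowers u).map (MulAut.conj g).toMonoidHom := by
    intro g u hD h1
    rw [map_conj_zpowers]
    exact X.zel_le_zpowers hD h1
  set u := pp p (h : G) with hu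
  have hne : ∀ g : G, g * u * g⁻¹ ≠ 1 := fun g h1 => hu1 (by
    rw [← mul_left_cancel_iff (a := g), mul_one]; exact mul_inv_eq_one.mp h1)
  set Z := Subgroup.zpowers X.zel
  have hfix : ∀ k : X.H, Z.map (MulAut.conj (k : G)).toMonoidHom = Z := fun k =>
    map_conj_of_mem_normalizer (BlocksCore.centralizer_le_normalizer' _ k.2)
  have hcancel : ∀ g : G, ∀ K : Subgroup G,
      (K.map (MulAut.conj g).toMonoidHom).map (MulAut.conj g⁻¹).toMonoidHom = K := fun g K => by
    rw [BC85.map_conj_map_conj, inv_mul_cancel]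
    ext q
    simp [Subgroup.mem_map]
  have h1 : Z ≤ Subgroup.zpowers u := by
    have h := Subgroup.map_mono (f := (MulAut.conj (y : G)⁻¹).toMonoidHom) (key (y : G) u hy (hne _))
    rw [hcancel] at h
    have e2 := hfix y⁻¹
    rw [Subgroup.coe_inv] at e2
    rwa [e2] at h
  have h2 : Z.map (MulAut.conj ((w : G) * x⁻¹)⁻¹).toMonoidHom ≤ Subgroup.zpowers u := by
    have hD : (w : G) * x⁻¹ * u * ((w : G) * x⁻¹)⁻¹ ∈ D := by
      rwa [show (w : G) * x⁻¹ * u * ((w : G) * x⁻¹)⁻¹ = w * (x⁻¹ * u * x) * (w : G)⁻¹ by group]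
    have h := Subgroup.map_mono (f := (MulAut.conj ((w : G) * x⁻¹)⁻¹).toMonoidHom)
      (key _ u hD (hne _))
    rwa [hcancel] at h
  have hcard : ∀ g : G, Nat.card (Z.map (MulAut.conj g).toMonoidHom) = Nat.card Z :=
    fun g => natCard_map_conj Z g
  have heq : Z.map (MulAut.conj ((w : G) * x⁻¹)⁻¹).toMonoidHom = Z :=
    eq_of_card_eq_of_le_cyclic (P := Subgroup.zpowers u) (Subgroup.isCyclic_zpowers u) h2 h1
      (hcard _)
  rw [mul_inv_rev, inv_inv, ← BC85.map_conj_map_conj] at heq
  have e2 := hfix w⁻¹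
  rw [Subgroup.coe_inv] at e2
  rw [e2] at heq
  refine Subgroup.mem_normalizer_iff.mpr fun q => ?_
  conv_rhs => rw [← heq, mem_map_conj_iff]
  simp [mul_assoc]

/-- Conjugation by an element of the normalizer outside the stabilizer moves the block. -/
theorem classInner_conj_eq_zero {x : G}
    (hx : x ∈ Subgroup.normalizer (Subgroup.zpowers X.zel : Set G))
    (hxT : x ∉ stabT (Subgroup.zpowers X.zel) X.blk) {χ ψ : IrrCharacter X.H} (hχ : χ ∈ X.blk)
    (hψ : ψ ∈ X.blk) :
    classInner (χ : X.H → ℂ) (fun h : X.H => extendByZero X.H (ψ : X.H → ℂ) (x⁻¹ * h * x)) = 0 := by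
  have hN : ∀ y : G, x⁻¹ * y * x ∈ X.H ↔ y ∈ X.H := fun y => by
    have := BlocksCore.conj_mem_centralizer_iff (x := y) (Subgroup.inv_mem _ hx)
    rwa [inv_inv] at this
  let σ : X.H ≃* X.H :=
    { toFun := fun h => ⟨x⁻¹ * h * x, (hN _).mpr h.2⟩
      invFun := fun h => ⟨x * h * x⁻¹, (BlocksCore.conj_mem_centralizer_iff hx).mpr h.2⟩
      left_inv := fun h => Subtype.ext (by simp [mul_assoc])
      right_inv := fun h => Subtype.ext (by simp [mul_assoc])
      map_mul' := fun a b => Subtype.ext (by simp [mul_assoc]) }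
  have e : (fun h : X.H => extendByZero X.H (ψ : X.H → ℂ) (x⁻¹ * h * x)) =
      (pullIrr σ ψ : X.H → ℂ) := by
    funext h
    rw [CharInd.extendByZero_mem _ ((hN _).mpr h.2), pullIrr_apply]
    rfl
  rw [e]
  refine CharCore.classInner_irr_of_ne fun hne => hxT ?_
  have hb : pullIrr σ '' X.blk = X.blk :=
    isPBlock_eq_of_mem (isPBlock_image_pullIrr σ X.blk_isPBlock) X.blk_isPBlock ⟨ψ, hψ, hne.symm⟩ hχ
  refine mem_stabT_iff.mpr ⟨hx, normalizer_le_normalizer_centralizer _ hx,
    fun η hη => ⟨pullIrr σ η, hb ▸ ⟨η, hη, rfl⟩, fun k k' hk => ?_⟩⟩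
  change η.1 (σ k') = η.1 k
  refine congrArg η.1 (Subtype.ext ?_)
  show x⁻¹ * (k' : G) * x = k
  rw [hk]
  group

/-- A sum over the stabilizer of the local block as a sum over the inertial group. -/
theorem sum_stab (φ : G → ℂ) (hφ : ∀ x, ∀ k ∈ X.H, φ (x * k) = φ x) :
    (Nat.card (Subgroup.centralizer (D : Set G)) : ℂ) *
      ∑ x ∈ Finset.univ.filter (fun x => x ∈ stabT (Subgroup.zpowers X.zel) X.blk), φ x =
    (Nat.card X.H : ℂ) * ∑ t : stabT D c, φ t := by
  set T' := stabT (Subgroup.zpowers X.zel) X.blk with hT'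
  have hHT : X.H ≤ T' := le_sup_right.trans (le_stabT (Subgroup.zpowers X.zel) X.blk)
  have hsplit : ∀ x ∈ T', ∃ t : stabT D c, ∃ k : X.H, (t : G) * k = x := by
    intro x hx
    obtain ⟨y, hy, k, hk, rfl⟩ := conj_mul_of_abelian X.mod X.max X.abelian X.blk_le hx
    exact ⟨⟨y, hy⟩, ⟨k, hk⟩, rfl⟩
  have hfib : ∀ x ∈ T', ((Finset.univ : Finset (stabT D c × X.H)).filter
      fun tk => (tk.1 : G) * tk.2 = x).card = Nat.card (Subgroup.centralizer (D : Set G)) := by
    intro x hx
    obtain ⟨t0, k0, h0⟩ := hsplit x hx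
    have hCT : Subgroup.centralizer (D : Set G) ≤ stabT D c := le_sup_right.trans (le_stabT D c)
    rw [Nat.card_eq_fintype_card, ← Finset.card_univ]
    symm
    refine Finset.card_bij (fun w _ => (t0 * ⟨(w : G), hCT w.2⟩,
      (⟨(w : G), X.centralizer_le_H w.2⟩ : X.H)⁻¹ * k0)) (fun w _ => ?_) (fun a _ b _ h => ?_) ?_
    · simp only [Finset.mem_filter, Finset.mem_univ, true_and]
      rw [← h0]
      push_cast
      group
    · exact Subtype.ext (congrArg (fun z : stabT D c => (z : G)) (mul_left_cancel (Prod.ext_iff.mp h).1))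
    · rintro ⟨t, k⟩ htk
      simp only [Finset.mem_filter, Finset.mem_univ, true_and] at htk
      have e : (t0 : G)⁻¹ * t = (k0 : G) * (k : G)⁻¹ := by
        rw [← h0] at htk
        calc (t0 : G)⁻¹ * t = (t0 : G)⁻¹ * ((t : G) * k) * (k : G)⁻¹ := by group
          _ = _ := by rw [htk]; group
      have hmem : (t0 : G)⁻¹ * t ∈ Subgroup.centralizer (D : Set G) := by
        refine X.free ((stabT D c).mul_mem ((stabT D c).inv_mem t0.2) t.2) X.zel_mem
          (fun h => (Fact.out : p.Prime).one_lt.ne (by rw [← X.orderOf_zel, h, orderOf_one])) ?_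
        rw [e]
        exact mul_inv_eq_iff_eq_mul.mpr (Subgroup.mem_centralizer_iff.mp
          (X.H.mul_mem k0.2 (X.H.inv_mem k.2)) X.zel (Subgroup.mem_zpowers _)).symm
      refine ⟨⟨_, hmem⟩, Finset.mem_univ _, Prod.ext (Subtype.ext ?_) (Subtype.ext ?_)⟩
      · push_cast
        group
      · push_cast
        rw [e]
        group
  have h1 : ∑ tk : stabT D c × X.H, φ ((tk.1 : G) * tk.2) =
      (Nat.card X.H : ℂ) * ∑ t : stabT D c, φ t := by
    rw [Fintype.sum_prod_type, Finset.mul_sum]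
    refine Finset.sum_congr rfl fun t _ => ?_
    rw [Finset.sum_congr rfl fun (k : X.H) _ => hφ (t : G) k k.2, Finset.sum_const, Finset.card_univ,
      Nat.card_eq_fintype_card, nsmul_eq_mul]
  rw [← h1, Finset.mul_sum, ← Finset.sum_fiberwise_of_maps_to
    (t := Finset.univ.filter (fun x => x ∈ T')) (g := fun tk : stabT D c × X.H => (tk.1 : G) * tk.2)
    fun tk _ => Finset.mem_filter.mpr
      ⟨Finset.mem_univ _, T'.mul_mem (X.stabT_le tk.1.2) (hHT tk.2.2)⟩]
  refine Finset.sum_congr rfl fun x hx => ?_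
  rw [Finset.sum_congr rfl fun tk htk => by rw [(Finset.mem_filter.mp htk).2], Finset.sum_const,
    hfib x (Finset.mem_filter.mp hx).2, nsmul_eq_mul]

/-- The inner product of two induced differences. -/
theorem classInner_vind (l m : X.loc →* ℂˣ) (hl : l ≠ 1) (hm : m ≠ 1) :
    (Nat.card (Subgroup.centralizer (D : Set G)) : ℂ) * classInner (X.vind l) (X.vind m) =
      ((Finset.univ.filter fun t : stabT D c => X.lconj t m = l).card : ℂ) +
        Nat.card (stabT D c) := by
  rw [vind, CharInd.classInner_indFun_left _ _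
    (CharCore.IsGeneralizedCharacter.isClassFunction (X.vind_gen m))]
  set φ : G → ℂ := fun x =>
    classInner (X.vfun l) (fun h : X.H => extendByZero X.H (X.vfun m) (x⁻¹ * h * x)) with hφ
  have hH : (Nat.card X.H : ℂ) ≠ 0 := Nat.cast_ne_zero.mpr Nat.card_pos.ne'
  have h1 : classInner (X.vfun l) (fun h : X.H => X.vind m h) =
      (Nat.card X.H : ℂ)⁻¹ * ∑ x : G, φ x := by
    simp only [hφ, vind, CharInd.indFun_apply, classInner, map_mul, map_inv₀, map_natCast, map_sum,
      Finset.mul_sum]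
    rw [Finset.sum_comm]
    exact Finset.sum_congr rfl fun x _ => Finset.sum_congr rfl fun h _ => by ring
  -- only the stabilizer of the local block counts
  have h2 : ∑ x : G, φ x =
      ∑ x ∈ Finset.univ.filter (fun x => x ∈ stabT (Subgroup.zpowers X.zel) X.blk), φ x := by
    refine (Finset.sum_subset (Finset.subset_univ _) fun x _ hx => ?_).symm
    simp only [Finset.mem_filter, Finset.mem_univ, true_and] at hx
    by_cases hN : x ∈ Subgroup.normalizer (Subgroup.zpowers X.zel : Set G)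
    · simp only [hφ]
      rw [show (fun h : X.H => extendByZero X.H (X.vfun m) (x⁻¹ * h * x)) =
          (fun h : X.H => extendByZero X.H (X.nil.twist m X.χ0 : X.H → ℂ) (x⁻¹ * h * x)) -
            fun h : X.H => extendByZero X.H (X.χ0 : X.H → ℂ) (x⁻¹ * h * x) from funext fun h => by
        have hh : x⁻¹ * (h : G) * x ∈ X.H := by
          have := (BlocksCore.conj_mem_centralizer_iff (x := (h : G)) (Subgroup.inv_mem _ hN)).mpr h.2
          rwa [inv_inv] at this
        simp only [Pi.sub_apply, CharInd.extendByZero_mem _ hh, vfun_apply]]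
      rw [vfun, CharCore.classInner_sub_left, CharCore.classInner_sub_right,
        CharCore.classInner_sub_right]
      simp only [X.classInner_conj_eq_zero hN hx (X.nil.twist_mem _ X.χ0_mem) X.χ0_mem,
        X.classInner_conj_eq_zero hN hx (X.nil.twist_mem _ X.χ0_mem) (X.nil.twist_mem _ X.χ0_mem),
        X.classInner_conj_eq_zero hN hx X.χ0_mem X.χ0_mem,
        X.classInner_conj_eq_zero hN hx X.χ0_mem (X.nil.twist_mem _ X.χ0_mem), sub_self]
    · simp only [hφ, classInner]
      refine mul_eq_zero_of_right _ (Finset.sum_eq_zero fun h _ => ?_)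
      by_contra hne
      obtain ⟨ha, hb⟩ := mul_ne_zero_iff.mp hne
      exact hN (X.mem_normalizer_of_support ha fun h0 => hb (by rw [h0, map_zero]))
  have hinv : ∀ x, ∀ k ∈ X.H, φ (x * k) = φ x := by
    intro x k hk
    simp only [hφ]
    congr 1
    funext h
    have := CharInd.extendByZero_conj_mem (X.vfun_class m) ⟨k, hk⟩⁻¹ (x⁻¹ * h * x)
    push_cast at this
    rw [inv_inv] at this
    rw [← this]
    congr 1
    group
  have h3 : ∀ t : stabT D c, φ t = (if X.lconj t m = l then 1 else 0) + 1 := by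
    intro t
    have e : (fun h : X.H => extendByZero X.H (X.vfun m) ((t : G)⁻¹ * h * t)) =
        (X.nil.twist (X.lconj t m) X.χ0 : X.H → ℂ) - (X.χ0 : X.H → ℂ) := by
      funext h
      rw [CharInd.extendByZero_mem _ (X.conj_mem_H t.2 h.2), vfun_apply, Pi.sub_apply,
        ← X.conjT_apply t (X.nil.twist_mem m X.χ0_mem), ← X.conjT_apply t X.χ0_mem,
        X.conjT_twist t m X.χ0_mem, X.χ0_fixed]
    have hm' : X.lconj t m ≠ 1 := by
      intro h1
      apply hm
      have h := congrArg (X.lconj t⁻¹) h1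
      rw [X.lconj_mul, inv_mul_cancel, X.lconj_of_mem 1 (one_mem _)] at h
      rw [h]
      exact MonoidHom.ext fun x => rfl
    show classInner (X.vfun l) (fun h : X.H => extendByZero X.H (X.vfun m) ((t : G)⁻¹ * h * t)) = _
    rw [e, vfun, CharCore.classInner_sub_left, CharCore.classInner_sub_right,
      CharCore.classInner_sub_right]
    have hone : ((X.χ0 : IrrCharacter X.H) : X.H → ℂ) = (X.nil.twist 1 X.χ0 : X.H → ℂ) := by
      rw [X.nil.twist_one X.χ0_mem]
    rw [hone]
    simp only [X.nil.classInner_twist X.χ0_mem, if_neg hl, if_neg (Ne.symm hm'), if_true]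
    by_cases hlm : X.lconj t m = l
    · simp [hlm]
    · simp [hlm, Ne.symm hlm]
  calc (Nat.card (Subgroup.centralizer (D : Set G)) : ℂ) *
        classInner (X.vfun l) (fun h : X.H => X.vind m h)
      = (Nat.card X.H : ℂ)⁻¹ * ((Nat.card (Subgroup.centralizer (D : Set G)) : ℂ) *
          ∑ x : G, φ x) := by rw [h1]; ring
    _ = ∑ t : stabT D c, φ t := by
        rw [h2, X.sum_stab φ hinv, inv_mul_cancel_left₀ hH]
    _ = _ := by
        rw [Finset.sum_congr rfl fun t _ => h3 t, Finset.sum_add_distrib, Finset.sum_boole]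
        simp [Nat.card_eq_fintype_card]

/-- A function on the centralizer with no weight at the identity pairs to zero with the restriction
of a character of another block. -/
theorem starMul_res {χ : IrrCharacter G} (hχ : χ ∉ B) (θ θ' : X.loc → ℂ) (h1 : θ 1 = θ' 1) :
    starMul p M X.loc X.cloc θ (fun h : X.H => (χ : G → ℂ) h) =
      starMul p M X.loc X.cloc θ' (fun h : X.H => (χ : G → ℂ) h) := by
  funext g
  simp only [starMul, starFun_def]
  refine Finset.sum_congr rfl fun a ha => ?_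
  obtain ⟨hcomm, hreg⟩ := regular_inv_pp_mul (p := p) g
  have hord : ∃ n : ℕ, orderOf (pp p g) = p ^ n := (pp_spec (p := p) g).choose_spec.2.2.1
  by_cases hB : IsBrauerPairOf p M X.blk a.1 a.2
  · obtain ⟨x, hx, hxv⟩ := exists_conj_mem X.mod X.nil.max (mem_pairsAt.mp ha).1 hB
    rw [etaOf_eq (X.nil.stable θ) (mem_pairsAt.mp ha).1 hx hxv,
      etaOf_eq (X.nil.stable θ') (mem_pairsAt.mp ha).1 hx hxv]
    by_cases hv : pp p g = 1
    · have e : (⟨x * pp p g * x⁻¹, hxv⟩ : X.loc) = 1 := Subtype.ext (by simp [hv])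
      rw [e, h1]
    suffices proj a (pp p g) (fun h : X.H => (χ : G → ℂ) h) ((pp p g)⁻¹ * g) = 0 by
      rw [this, mul_zero, mul_zero]
    rw [← proj_conjPair x a (pp p g) (F' := fun h : X.H => (χ : G → ℂ) h) (fun h => by
      have := irr_class χ (h : G) (x⁻¹ : X.H)
      push_cast at this
      rw [inv_inv] at this
      exact this.symm)]
    set v := x * pp p g * x⁻¹ with hvdef
    have hv1 : v ≠ 1 := fun h => hv (by
      rw [← mul_left_cancel_iff (a := x), mul_one]; exact mul_inv_eq_one.mp h)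
    have hfst : (conjPair x a).1 = Subgroup.zpowers v := by
      rw [conjPair_fst, (mem_pairsAt.mp ha).1, map_conj_zpowers]
    have hblk := (subpairLE_isBrauerPair (Q := (conjPair x a).1) (f := (conjPair x a).2) hx
      X.nil.max.1.1).2
    obtain ⟨b, hb, hlift⟩ := exists_exactLift X.mod (conjPair x a) (by
      rw [hfst, MonoidHom.map_zpowers]
      exact X.centralizer_zpowers_le_H hxv (fun h => hv1 (Subtype.ext h))) hblk
    have hb1 : b.1 = Subgroup.zpowers (v : G) := by
      rw [hlift.2, hfst, MonoidHom.map_zpowers]; rfl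
    rw [← proj_lift hlift]
    have hble := hlift.subpairLE X.mod hx _ X.cloc_lift
    have hbB : IsBrauerPairOf p M B b.1 b.2 :=
      (subpairLE_pairOf_iff X.mod hble B).mp X.max.1
    refine proj_eq_zero_of_not_pairOf X.mod (isPBlock_blockOf χ) (mem_blockOf_self χ) ?_
      (mem_pairsAt.mpr ⟨hb1, hb⟩) (fun hb' => hχ ?_)
      (s := ⟨((x * ((pp p g)⁻¹ * g) * x⁻¹ : X.H) : G), Subgroup.mem_centralizer_singleton_iff.mpr ?_⟩) ?_
    · obtain ⟨n, hn⟩ := hord
      exact ⟨n, by rw [Subgroup.orderOf_coe, hvdef, ← MulAut.conj_apply, MulEquiv.orderOf_eq, hn]⟩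
    · obtain ⟨B₀, -, huniq⟩ := existsUnique_block_of_pair X.mod hbB.1
      rw [huniq B hbB, ← huniq _ hb']
      exact mem_blockOf_self χ
    · exact congrArg Subtype.val (hcomm.map (MulAut.conj x).toMonoidHom).eq.symm
    · rw [Subgroup.orderOf_mk, Subgroup.orderOf_coe, ← MulAut.conj_apply, MulEquiv.orderOf_eq]
      exact hreg
  · rw [etaOf_eq_zero X.mod X.nil.max hB, etaOf_eq_zero X.mod X.nil.max hB]

theorem classInner_vind_of_notMem (l : X.loc →* ℂˣ) {χ : IrrCharacter G} (hχ : χ ∉ B) :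
    classInner (X.vind l) (χ : G → ℂ) = 0 := by
  have hres : IsClassFunction X.H (fun h : X.H => (χ : G → ℂ) h) := fun a b =>
    irr_class χ (a : G) (b : G)
  rw [vind, CharInd.classInner_indFun_left _ _ (irr_class χ), vfun, CharCore.classInner_sub_left,
    X.nil.twist_coe l X.χ0_mem]
  conv_lhs => arg 2; rw [← starMul_one X.mod X.nil.max X.χ0_mem]
  rw [classInner_starMul X.mod _ (irr_class X.χ0) hres,
    classInner_starMul X.mod _ (irr_class X.χ0) hres,
    X.starMul_res hχ (fun x => conj (lf l x)) (fun _ => conj (1 : ℂ)) (by simp [lf]), sub_self]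

/-- A combination of members of the block orthogonal to the induced differences vanishes on the
singular elements. -/
theorem eq_zero_of_orth {ι : Type*} (s : Finset ι) (k : ι → ℂ) (ψ : ι → IrrCharacter G)
    (hψ : ∀ i ∈ s, ψ i ∈ B)
    (horth : ∀ l : X.loc →* ℂˣ, l ≠ 1 →
      classInner (fun g => ∑ i ∈ s, k i * (ψ i : G → ℂ) g) (X.vind l) = 0)
    {g : G} (hg : p ∣ orderOf g) : ∑ i ∈ s, k i * (ψ i : G → ℂ) g = 0 := by
  set F : G → ℂ := fun g => ∑ i ∈ s, k i * (ψ i : G → ℂ) g with hF
  have hFc : IsClassFunction G F := fun a b => by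
    simp only [hF]
    exact Finset.sum_congr rfl fun i _ => by rw [irr_class (ψ i)]
  refine eq_zero_of_proj X.mod X.max hFc (fun v a hv ha hnot w hc hw =>
    proj_eq_zero_of_span X.mod X.max.1.2.1 s k ψ hψ hv ha hnot hc hw) ?_ hg
  intro v hv hv1 a ha hle w hc hw
  obtain ⟨vH, rfl⟩ : ∃ vH : X.H, (vH : G) = v := ⟨⟨v, X.D_le_H hv⟩, rfl⟩
  have hwH : w ∈ X.H := X.centralizer_zpowers_le_H hv hv1 (by
    rw [centralizer_zpowers]
    exact Subgroup.mem_centralizer_singleton_iff.mpr hc.eq.symm)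
  obtain ⟨wH, rfl⟩ : ∃ wH : X.H, (wH : G) = w := ⟨⟨w, hwH⟩, rfl⟩
  obtain ⟨a', ha', hlift, hmem, hle'⟩ :=
    X.exists_local hv (fun h => hv1 (by rw [h]; rfl)) ha hle
  rw [proj_lift hlift]
  have hres : IsClassFunction X.H (fun x : X.H => F x) := fun x y => hFc (x : G) (y : G)
  have hc' : Commute vH wH := Subtype.ext hc
  have hw' : ¬ p ∣ orderOf wH := by rwa [Subgroup.orderOf_coe] at hw
  have hordv : ∃ n : ℕ, orderOf vH = p ^ n := by
    obtain ⟨n, hn⟩ := IsPGroup.iff_orderOf.mp X.isPGroup ⟨(vH : G), hv⟩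
    exact ⟨n, by rw [← Subgroup.orderOf_coe, ← hn, Subgroup.orderOf_mk]⟩
  have := finite_irr (G := X.H)
  letI := Fintype.ofFinite (IrrCharacter X.H)
  haveI := X.nil.cyc
  haveI := finite_lin (P := X.loc)
  letI := Fintype.ofFinite (X.loc →* ℂˣ)
  set m := classInner (fun x : X.H => F x) (X.χ0 : X.H → ℂ) with hm
  have hcoef : ∀ l : X.loc →* ℂˣ,
      classInner (fun x : X.H => F x) (X.nil.twist l X.χ0 : X.H → ℂ) = m := by
    intro l
    by_cases hl : l = 1
    · rw [hl, X.nil.twist_one X.χ0_mem]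
    · have h := horth l hl
      rw [vind, CharInd.classInner_indFun_right _ _ hFc, vfun, CharCore.classInner_sub_right,
        sub_eq_zero] at h
      exact h
  rw [show (fun x : X.H => F x) = fun x => ∑ η : IrrCharacter X.H,
    classInner (fun x : X.H => F x) (η : X.H → ℂ) * (η : X.H → ℂ) x from by
      funext x
      have h := congrFun (CharCore.eq_sum_classInner hres) x
      simp only [Finset.sum_apply, Pi.smul_apply, smul_eq_mul] at h
      refine h.trans (Finset.sum_congr (by congr!) fun η _ => by congr!), proj_sum]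
  have hout : ∀ η : IrrCharacter X.H, η ∉ X.blk → proj a' vH (η : X.H → ℂ) wH = 0 := by
    intro η hη
    have hB' : IsBrauerPairOf p M X.blk a'.1 a'.2 :=
      (subpairLE_pairOf_iff X.mod hle' X.blk).mp X.nil.max.1
    refine proj_eq_zero_of_not_pairOf X.mod (isPBlock_blockOf η) (mem_blockOf_self η) hordv hmem
      (fun h => hη ?_) (s := ⟨wH, Subgroup.mem_centralizer_singleton_iff.mpr hc'.eq.symm⟩)
      (by rwa [Subgroup.orderOf_mk])
    obtain ⟨B₀, -, huniq⟩ := existsUnique_block_of_pair X.mod hB'.1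
    rw [huniq _ hB', ← huniq _ h]
    exact mem_blockOf_self η
  rw [← Finset.sum_subset (Finset.subset_univ X.blk.toFinset)
    (fun η _ hη => by rw [hout η (fun h => hη (Set.mem_toFinset.mpr h)), mul_zero])]
  rw [← Finset.sum_bij (fun (l : X.loc →* ℂˣ) (_ : l ∈ (Finset.univ : Finset _)) =>
      X.nil.twist l X.χ0) (fun l _ => Set.mem_toFinset.mpr (X.nil.twist_mem l X.χ0_mem))
      (fun l _ l' _ h => X.nil.twist_injective X.χ0_mem h)
      (fun η hη => by
        obtain ⟨l, hl, -⟩ := X.nil.torsor X.χ0 X.χ0_mem η (Set.mem_toFinset.mp hη)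
        exact ⟨l, Finset.mem_univ _, hl⟩) (fun l _ => rfl)]
  simp only [hcoef, ← Finset.mul_sum]
  refine mul_eq_zero_of_right _ ?_
  rw [Finset.sum_congr rfl fun l _ => by
    rw [X.nil.twist_coe l X.χ0_mem, proj_starMul X.mod X.nil.max (X.nil.stable _)
      (irr_class X.χ0) hordv hmem (Subgroup.mem_centralizer_singleton_iff.mpr hc'.eq.symm) hw',
      etaOf_eq (X.nil.stable _) ha' (x := 1) (by rw [conjPair_one]; exact hle')
        (by rw [inv_one, one_mul, mul_one]; exact hv)], ← Finset.sum_mul, sum_lf X.nil.cyc,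
    if_neg, zero_mul]
  intro h
  have := congrArg (fun z : X.loc => ((z : X.H) : G)) h
  exact hv1 (by simpa using this)

end CycData

end Cfsg.Agent.BlkChar.CyclicDefect
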