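import Cfsg.Agent.Lib.ModRep.Integral
import Cfsg.Agent.Lib.BlocksCore.CyclicRank
import Cfsg.Agent.Lib.BlocksCore.CyclicReps
import Cfsg.Agent.BlockAlg8.Residue
import Cfsg.Agent.BlockAlg8.Algebra

/-!
# Traces of modular representations in a block
-/

set_option autoImplicit false
set_option linter.unusedSectionVars false

namespace Cfsg.Agent.BlkChar.CyclicDefect

open BlocksCore BlocksDefect
open scoped Classical ComplexConjugate
local notation "𝕜" => BlocksDefect.Res

universe u v

variable {G : Type u} [Group G] [Fintype G] {p : ℕ} [Fact p.Prime] {M : Ideal AlgInt}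
  [hP : M.IsPrime]

/-- The trace of a representation fixed by the idempotent of the block is a combination of the
reduced members. -/
theorem trace_mem_span (hM : IsPModular p M) {B : Set (IrrCharacter G)} (hB : IsPBlock M B)
    [Fintype B] {V : Type v} [AddCommGroup V] [Module (𝕜 M) V] [FiniteDimensional (𝕜 M) V]
    (ρ : Representation (𝕜 M) G V) (hfix : ∑ g, red M (blockCoeff B g) • ρ g = 1) :
    ∃ A : B → 𝕜 M, ∀ x, LinearMap.trace (𝕜 M) V (ρ x) =
      ∑ θ : B, A θ * red M (((θ : IrrCharacter G) : G → ℂ) x) := by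
  have := charP_res (M := M) hM
  have := finite_irr (G := G)
  letI := Fintype.ofFinite (IrrCharacter G)
  set τ : G → 𝕜 M := fun g => LinearMap.trace (𝕜 M) V (ρ g) with hτ
  have hε := isIntClassFun_blockCoeff hM hB
  obtain ⟨A, hA⟩ := CyclicRank.exists_expansion (RingHom.id (𝕜 M)) hM τ
    (fun g h => by
      show LinearMap.trace (𝕜 M) V (ρ (h * g * h⁻¹)) = _
      rw [map_mul, LinearMap.trace_mul_comm, ← map_mul, inv_mul_cancel_left])
    (fun hxy hx => CyclicRank.trace_eq_regular ρ hxy hx)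
  simp only [CyclicRank.R, RingHom.id_apply] at hA
  refine ⟨fun θ => A θ.1, fun x => ?_⟩
  have hproj : ∀ θ : IrrCharacter G, ∑ g, red M (blockCoeff B g) * red M ((θ : G → ℂ) (g * x)) =
      if θ ∈ B then red M ((θ : G → ℂ) x) else 0 := by
    intro θ
    rw [Finset.sum_congr rfl fun g _ =>
        (red_mul (hε.2 g) (CyclicRank.memLocalRing_irr θ (g * x))).symm,
      ← red_sum _ fun g => (localRing M).mul_mem (hε.2 g) (CyclicRank.memLocalRing_irr θ (g * x)),
      sum_classFun_mul_translate θ hε.1, omega_blockCoeff]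
    split_ifs with hθ
    · rw [Set.indicator_of_mem hθ, Pi.one_apply, one_mul]
    · rw [Set.indicator_of_notMem hθ, zero_mul, red_eq_zero memLocalIdeal_zero]
  calc τ x = LinearMap.trace (𝕜 M) V ((∑ g, red M (blockCoeff B g) • ρ g) * ρ x) := by
        rw [hfix, one_mul]
    _ = ∑ g, red M (blockCoeff B g) * τ (g * x) := by
      rw [Finset.sum_mul, map_sum]
      exact Finset.sum_congr rfl fun g _ => by
        rw [smul_mul_assoc, map_smul, ← map_mul, smul_eq_mul]
    _ = ∑ θ : IrrCharacter G, A θ * (if θ ∈ B then red M ((θ : G → ℂ) x) else 0) := by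
      simp only [← hproj, hA, Finset.mul_sum]
      rw [Finset.sum_comm]
      exact Finset.sum_congr rfl fun θ _ => Finset.sum_congr rfl fun g _ => mul_left_comm _ _ _
    _ = _ := by
      simp only [mul_ite, mul_zero]
      rw [← Finset.sum_filter]
      exact Finset.sum_subtype _ (fun θ => by simp) _

/-- Representations without intertwiners fixed by the idempotent are no more than the rank of the
block. -/
theorem card_le_blockRank (hM : IsPModular p M) {B : Set (IrrCharacter G)} (hB : IsPBlock M B)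
    {ι : Type*} [Fintype ι] {n : ι → ℕ} (ρ : ∀ i, Representation (𝕜 M) G (Fin (n i) → 𝕜 M))
    (hirr : ∀ i, StableHom.IsIrr (ρ i)) (hnt : ∀ i, Nontrivial (Fin (n i) → 𝕜 M))
    (hint : ∀ i j, i ≠ j → ∀ φ : (Fin (n i) → 𝕜 M) →ₗ[𝕜 M] (Fin (n j) → 𝕜 M),
      (∀ g v, φ (ρ i g v) = ρ j g (φ v)) → φ = 0)
    (hfix : ∀ i, ∑ g, red M (blockCoeff B g) • ρ i g = 1) :
    Fintype.card ι ≤ blockRank p B := by
  have := isMaximal hM
  have := charP_res (M := M) hM
  have := finite_irr (G := G)
  letI := Fintype.ofFinite (IrrCharacter G)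
  letI := Fintype.ofFinite B
  set τ : ι → G → 𝕜 M := fun i g => LinearMap.trace (𝕜 M) _ (ρ i g) with hτ
  have hli : LinearIndependent (𝕜 M) τ := Fintype.linearIndependent_iff.mpr fun a ha i =>
    congrFun (CyclicReps.traces_independent ρ hirr hnt hint a fun g => by
      simpa [hτ] using congrFun ha g) i
  let rf : G → G := ModRep.regFactor p
  let v : B → G → ℂ := fun θ g => ((θ : IrrCharacter G) : G → ℂ) (rf g)
  set S := Submodule.span (𝕜 M) (Set.range fun (θ : B) g => red M (v θ g)) with hS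
  have hred : ∀ (θ : IrrCharacter G) g,
      red M ((θ : G → ℂ) (rf g)) = red M ((θ : G → ℂ) g) := by
    intro θ g
    obtain ⟨x, y, rfl, hxy, ⟨k, hx⟩, hy⟩ := exists_pPart (p := p) hM.1 g
    have h := CyclicRank.R_irr_regular (RingHom.id (𝕜 M)) hM θ hxy hx hy
    simp only [CyclicRank.R, RingHom.id_apply] at h
    rw [h, show rf (x * y) = y from ModRep.regFactor_eq hM.1 rfl hxy ⟨k, hx⟩ hy]
  have hmem : ∀ i, τ i ∈ S := by
    intro i
    obtain ⟨A, hA⟩ := trace_mem_span hM hB (ρ i) (hfix i)
    rw [show τ i = ∑ θ : B, A θ • fun g => red M (v θ g) from funext fun g => by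
      simp only [Finset.sum_apply, Pi.smul_apply, smul_eq_mul, v, hred]
      exact hA g]
    exact Submodule.sum_mem _ fun θ _ => Submodule.smul_mem _ _ (Submodule.subset_span ⟨θ, rfl⟩)
  have h1 : Fintype.card ι ≤ Module.finrank (𝕜 M) S :=
    (LinearIndependent.of_comp S.subtype (v := fun i => (⟨τ i, hmem i⟩ : S))
      hli).fintype_card_le_finrank
  refine h1.trans ?_
  let L : (G → ℂ) →ₗ[ℂ] (G → ℂ) := LinearMap.funLeft ℂ ℂ rf
  set W := Submodule.span ℂ ((fun χ : IrrCharacter G => pRegularPart p (χ : G → ℂ)) '' B)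
  have hv : ∀ θ : B, v θ ∈ W.map L := fun θ =>
    ⟨pRegularPart p ((θ : IrrCharacter G) : G → ℂ), Submodule.subset_span ⟨θ, θ.2, rfl⟩,
      funext fun g => by
      obtain ⟨x, y, rfl, hxy, ⟨k, hx⟩, hy⟩ := exists_pPart (p := p) hM.1 g
      simp only [L, LinearMap.funLeft_apply, v]
      rw [show rf (x * y) = y from ModRep.regFactor_eq hM.1 rfl hxy ⟨k, hx⟩ hy]
      exact ModRep.pRegularPart_of_not_dvd _ hy⟩
  exact (BlockAlg8.finrank_span_red_le v (fun θ g => CyclicRank.memLocalRing_irr _ _) (W.map L)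
    hv).trans (Submodule.finrank_map_le L W)

/-- A representation with the trace of a constant multiple of a member of a block of rank one has at
least the degree of the member. -/
theorem le_of_trace (hM : IsPModular p M) {B : Set (IrrCharacter G)} (hB : IsPBlock M B)
    {χ₀ : IrrCharacter G} (hχ₀ : χ₀ ∈ B)
    (hreg : ∀ χ ∈ B, ∀ s : G, ¬ p ∣ orderOf s →
      ((χ : IrrCharacter G) : G → ℂ) s = (χ₀ : G → ℂ) s)
    {n : ℕ} (R : G →* Matrix (Fin n) (Fin n) (𝕜 M)) {a : 𝕜 M} (ha : a ≠ 0)
    (htr : ∀ s : G, ¬ p ∣ orderOf s → (R s).trace = a * red M ((χ₀ : G → ℂ) s)) :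
    charDegree (χ₀ : G → ℂ) ≤ n := by
  have := isMaximal hM
  obtain ⟨Bv, hBv⟩ := ModRep.exists_isPlace M
  obtain ⟨D, rfl⟩ := ModRep.exists_brauerData_of_place (G := G) hM hBv
  have := hBv.charP hM
  have := finite_irr (G := G)
  letI := Fintype.ofFinite (IrrCharacter G)
  have hp : p.Prime := Fact.out
  have h1 : ¬ p ∣ orderOf (1 : G) := by rw [orderOf_one]; exact hp.not_dvd_one
  -- the Brauer character of the block
  have hone : ∀ i, D.blk i = B → ∃ N : ℤ, D.φ i = (N : ℂ) • pRegularPart p (χ₀ : G → ℂ) := by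
    intro i hi
    obtain ⟨m, hm, hφ⟩ := D.exists_int_dual hM i
    refine ⟨∑ χ, m χ, ?_⟩
    rw [hφ, Int.cast_sum, Finset.sum_smul]
    refine Finset.sum_congr rfl fun χ _ => ?_
    by_cases hχ : χ ∈ D.blk i
    · funext s
      by_cases hs : p ∣ orderOf s
      · simp [ModRep.pRegularPart_of_dvd _ hs]
      · simp [ModRep.pRegularPart_of_not_dvd _ hs, hreg χ (hi ▸ hχ) s hs]
    · simp [hm χ hχ]
  obtain ⟨i, hdi⟩ : ∃ i, D.dec χ₀ i ≠ 0 := by
    by_contra h
    push Not at h
    have h2 := congrFun (D.regularPart_eq χ₀) 1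
    simp only [h, Nat.cast_zero, zero_smul, Finset.sum_const_zero, Pi.zero_apply,
      ModRep.pRegularPart_of_not_dvd _ h1] at h2
    exact irr_one_ne_zero χ₀ h2
  have hi : D.blk i = B := isPBlock_eq_of_mem (D.blk_isPBlock i) hB (D.mem_blk χ₀ i hdi) hχ₀
  obtain ⟨N, hN⟩ := hone i hi
  have hN0 : N ≠ 0 := fun h0 => D.deg_pos i |>.ne' (by
    have h2 := congrFun hN 1
    rw [D.apply_one, h0] at h2
    simpa using h2)
  have hoth : ∀ j, j ≠ i → D.dec χ₀ j = 0 := by
    intro j hj
    by_contra hdj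
    obtain ⟨N', hN'⟩ := hone j (isPBlock_eq_of_mem (D.blk_isPBlock j) hB (D.mem_blk χ₀ j hdj) hχ₀)
    have h2 := Fintype.linearIndependent_iff.mp D.linearIndependent
      (fun k => if k = j then (N : ℂ) else if k = i then -(N' : ℂ) else 0) (by
        rw [Fintype.sum_eq_add j i hj (fun k hk => by simp [hk.1, hk.2])]
        simp [hj.symm, hN, hN', smul_smul, mul_comm]) j
    simp [hN0] at h2
  have hdeg : charDegree (χ₀ : G → ℂ) = D.dec χ₀ i * D.deg i ∧
      (D.deg i : ℤ) = N * charDegree (χ₀ : G → ℂ) := by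
    have h2 := congrFun (D.regularPart_eq χ₀) 1
    rw [Finset.sum_eq_single i (fun j _ hj => by simp [hoth j hj])
      (fun h => absurd (Finset.mem_univ i) h), ModRep.pRegularPart_of_not_dvd _ h1, irr_one_eq] at h2
    simp only [Pi.smul_apply, D.apply_one, smul_eq_mul] at h2
    have h3 := congrFun hN 1
    rw [D.apply_one, Pi.smul_apply, ModRep.pRegularPart_of_not_dvd _ h1, irr_one_eq, smul_eq_mul]
      at h3
    exact ⟨by exact_mod_cast h2, by exact_mod_cast h3⟩
  have hφ0 : D.φ i = pRegularPart p (χ₀ : G → ℂ) := by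
    have h2 : N = 1 := by
      obtain ⟨h3, h4⟩ := hdeg
      rw [h3] at h4
      push_cast at h4
      have h5 : (D.deg i : ℤ) * (N * D.dec χ₀ i) = (D.deg i : ℤ) * 1 := by linear_combination -h4
      have h6 := mul_left_cancel₀ (Int.natCast_ne_zero.mpr (D.deg_pos i).ne') h5
      exact Int.eq_one_of_mul_eq_one_right (Int.natCast_nonneg _) (by rwa [mul_comm] at h6)
        |> fun h7 => by
          rw [h7] at h6
          simpa using h6
    rw [hN, h2, Int.cast_one, one_smul]
  -- the representation over the residue field of the place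
  let R' : G →* Matrix (Fin n) (Fin n) (ModRep.Kf D.place) :=
    (RingHom.mapMatrix hBv.iota).toMonoidHom.comp R
  obtain ⟨m, hm⟩ := D.combination n (ModRep.matRep R')
  have hkey : ∀ s, ∑ j, ((m j : 𝕜 M) - if j = i then a else 0) * red M (D.φ j s) = 0 := by
    intro s
    by_cases hs : p ∣ orderOf s
    · exact Finset.sum_eq_zero fun j _ => by
        rw [D.apply_singular j s hs, red_eq_zero memLocalIdeal_zero, mul_zero]
    refine hBv.iota.injective ?_
    obtain ⟨z, hz, hzr⟩ := ModRep.residue_bchar hp (ModRep.matRep R') hs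
    have hint : MemLocalRing M (∑ j, (m j : ℂ) * D.φ j s) := memLocalRing_sum fun j _ =>
      (localRing M).mul_mem (memLocalRing_natCast _) (D.memLocalRing j s)
    have hz' : (z : ℂ) = ∑ j, (m j : ℂ) * D.φ j s := by rw [hz, hm]; simp
    have e1 : IsLocalRing.residue D.place z = hBv.iota (red M (∑ j, (m j : ℂ) * D.φ j s)) := by
      rw [hBv.iota_red hint]
      exact congrArg _ (Subtype.ext hz')
    rw [hzr] at e1
    have e2 : LinearMap.trace (ModRep.Kf D.place) _ (ModRep.matRep R' s) =
        hBv.iota ((R s).trace) := by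
      rw [ModRep.matRep_apply, Matrix.trace_toLin'_eq, AddMonoidHom.map_trace]
      rfl
    rw [e2, htr s hs, red_sum _ fun j => (localRing M).mul_mem (memLocalRing_natCast _)
      (D.memLocalRing j s), Finset.sum_congr rfl fun j _ => by
        rw [red_mul (memLocalRing_natCast _) (D.memLocalRing j s), red_natCast]] at e1
    simp only [sub_mul, Finset.sum_sub_distrib, ite_mul, zero_mul, Finset.sum_ite_eq',
      Finset.mem_univ, if_true, map_sub, map_zero]
    rw [hφ0, ModRep.pRegularPart_of_not_dvd _ hs, ← e1, sub_self]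
  have hmi : (m i : 𝕜 M) = a := by
    have h2 := Fintype.linearIndependent_iff.mp D.red_linearIndependent _ (funext fun s => by
      simpa using hkey s) i
    simpa [sub_eq_zero] using h2
  have hmpos : 1 ≤ m i := Nat.one_le_iff_ne_zero.mpr fun h0 => ha (by rw [← hmi, h0, Nat.cast_zero])
  have hn : (n : ℂ) = ∑ j, (m j : ℂ) * (D.deg j : ℂ) := by
    have h2 := congrFun hm 1
    rw [ModRep.bchar_one hp] at h2
    simpa [D.apply_one, Module.finrank_fintype_fun_eq_card] using h2
  have hn' : n = ∑ j, m j * D.deg j := by exact_mod_cast hn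
  have hle : charDegree (χ₀ : G → ℂ) ≤ D.deg i := by
    have h2 := congrFun hφ0 1
    rw [D.apply_one, ModRep.pRegularPart_of_not_dvd _ h1, irr_one_eq] at h2
    exact le_of_eq (Nat.cast_injective h2).symm
  calc charDegree (χ₀ : G → ℂ) ≤ D.deg i := hle
    _ ≤ m i * D.deg i := Nat.le_mul_of_pos_left _ hmpos
    _ ≤ ∑ j, m j * D.deg j :=
        Finset.single_le_sum (f := fun j => m j * D.deg j) (fun j _ => Nat.zero_le _)
          (Finset.mem_univ i)
    _ = n := hn'.symm

end Cfsg.Agent.BlkChar.CyclicDefect
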