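import Cfsg.Agent.BlkChar.CyclicDefect.Unique
import Cfsg.Agent.Lib.BlocksDefect.Basic

/-!
# Relative traces onto combinations of class sums
-/

set_option autoImplicit false
set_option linter.unusedSectionVars false

namespace Cfsg.Agent.BlkChar.CyclicDefect

open scoped Classical
open Finset MonoidAlgebra BlocksCore BlocksDefect

variable {K : Type*} [Field K] {G : Type*} [Group G] [Fintype G] {p : ℕ} [Fact p.Prime] [CharP K p]

/-- A class function supported on classes with centralizers having Sylow subgroups conjugate into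
`D` is a trace from `D`. -/
theorem exists_relTrace (D : Subgroup G) [Fintype (G ⧸ D)] (a : G → K)
    (ha : ∀ g h, a (h * g * h⁻¹) = a g)
    (hsup : ∀ g, a g ≠ 0 → ∃ x : G, ∃ Q : Subgroup G, Q ≤ D ∧
      Q ≤ Subgroup.centralizer ({x * g * x⁻¹} : Set G) ∧
      ¬ p ∣ Q.relIndex (Subgroup.centralizer ({x * g * x⁻¹} : Set G))) :
    ∃ x : MonoidAlgebra K G, (∀ d ∈ D, of K G d * x = x * of K G d) ∧
      ∑ g, a g • of K G g = ∑ r : G ⧸ D, of K G r.out * x * of K G r.out⁻¹ := by
  have hfinC : Finite (ConjClasses G) := Quotient.finite _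
  letI := Fintype.ofFinite (ConjClasses G)
  have key : ∀ C : ConjClasses G, ∃ x : MonoidAlgebra K G,
      (∀ d ∈ D, of K G d * x = x * of K G d) ∧
      a C.out • (∑ g ∈ Finset.univ.filter (fun g => ConjClasses.mk g = C), of K G g) =
        ∑ r : G ⧸ D, of K G r.out * x * of K G r.out⁻¹ := by
    intro C
    by_cases hC : a C.out = 0
    · exact ⟨0, fun d _ => by simp, by simp [hC]⟩
    obtain ⟨x0, Q, hQD, hQC, hdiv⟩ := hsup _ hC
    set k := x0 * C.out * x0⁻¹ with hk
    set Ck := Subgroup.centralizer ({k} : Set G)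
    haveI := Fintype.ofFinite (G ⧸ Ck)
    haveI := Fintype.ofFinite (G ⧸ Q)
    haveI := Fintype.ofFinite (Ck ⧸ Q.subgroupOf Ck)
    haveI := Fintype.ofFinite (D ⧸ Q.subgroupOf D)
    have hm : ((Q.relIndex Ck : ℕ) : K) ≠ 0 := by rwa [Ne, CharP.cast_eq_zero_iff K p]
    let P : G → MonoidAlgebra K G := fun g => of K G (g * k * g⁻¹)
    have hPQ : ∀ g, ∀ q ∈ Ck, P (g * q) = P g := fun g q hq => by
      show of K G _ = of K G _
      congr 1
      calc g * q * k * (g * q)⁻¹ = g * (q * k) * q⁻¹ * g⁻¹ := by group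
        _ = _ := by rw [Subgroup.mem_centralizer_singleton_iff.mp hq]; group
    set y : MonoidAlgebra K G := ∑ s : D ⧸ Q.subgroupOf D, P (s.out : G) with hy
    have hfix : ∀ d ∈ D, of K G d * y = y * of K G d := by
      intro d hd
      rw [hy, Finset.mul_sum, Finset.sum_mul]
      refine Fintype.sum_equiv (MulAction.toPerm (⟨d, hd⟩ : D)) _ _ fun s => ?_
      have e : (((⟨d, hd⟩ : D) * s.out : D) : D ⧸ Q.subgroupOf D) = ((⟨d, hd⟩ : D) • s) := by
        conv_rhs => rw [← QuotientGroup.out_eq' s]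
        rfl
      have h1 := out_inv_mul (H := Q.subgroupOf D) ((⟨d, hd⟩ : D) * s.out)
      rw [e] at h1
      rw [MulAction.toPerm_apply]
      have h2 := hPQ (((⟨d, hd⟩ : D) • s).out : G) _ (hQC (Subgroup.mem_subgroupOf.mp h1))
      rw [Subgroup.coe_mul, Subgroup.coe_inv, Subgroup.coe_mul, mul_inv_cancel_left] at h2
      rw [← h2]
      show of K G d * of K G _ = of K G _ * of K G d
      rw [← map_mul, ← map_mul]
      congr 1
      group
    refine ⟨(a C.out * ((Q.relIndex Ck : ℕ) : K)⁻¹) • y, fun d hd => ?_, ?_⟩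
    · rw [mul_smul_comm, smul_mul_assoc, hfix d hd]
    simp only [mul_smul_comm, smul_mul_assoc, ← Finset.smul_sum]
    have e1 : ∑ r : G ⧸ D, of K G r.out * y * of K G r.out⁻¹ = ∑ r : G ⧸ Q, P r.out := by
      rw [sum_tower (H := D) hQD P (fun g q hq => hPQ g q (hQC hq))]
      refine Finset.sum_congr rfl fun r _ => ?_
      rw [hy, Finset.mul_sum, Finset.sum_mul]
      refine Finset.sum_congr rfl fun s _ => ?_
      show of K G _ * of K G _ * of K G _ = of K G _
      rw [← map_mul, ← map_mul]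
      congr 1
      group
    have e2 : ∑ r : G ⧸ Q, P r.out = ((Q.relIndex Ck : ℕ) : K) • ∑ t : G ⧸ Ck, P t.out := by
      rw [sum_tower (H := Ck) hQC P (fun g q hq => hPQ g q (hQC hq)), Finset.smul_sum]
      refine Finset.sum_congr rfl fun r _ => ?_
      rw [Finset.sum_eq_card_nsmul (b := P r.out) fun s _ => hPQ _ _ s.out.2, Finset.card_univ,
        ← Nat.cast_smul_eq_nsmul K, ← Nat.card_eq_fintype_card]
      rfl
    have e3 : ∑ t : G ⧸ Ck, P t.out =
        ∑ g ∈ Finset.univ.filter (fun g => ConjClasses.mk g = C), of K G g := by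
      have hkC : ConjClasses.mk k = C := by
        exact (ConjClasses.mk_eq_mk_iff_isConj.mpr (isConj_iff.mpr ⟨x0⁻¹, by rw [hk]; group⟩)).trans
          (Quotient.out_eq C)
      refine Finset.sum_bij (fun t _ => t.out * k * t.out⁻¹) (fun t _ => ?_) (fun t _ t' _ h => ?_)
        (fun g hg => ?_) (fun t _ => rfl)
      · refine Finset.mem_filter.mpr ⟨Finset.mem_univ _, ?_⟩
        rw [← hkC]
        exact ConjClasses.mk_eq_mk_iff_isConj.mpr (isConj_iff.mpr ⟨t.out⁻¹, by group⟩)
      · rw [← QuotientGroup.out_eq' t, ← QuotientGroup.out_eq' t', QuotientGroup.eq]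
        refine Subgroup.mem_centralizer_singleton_iff.mpr ?_
        calc t.out⁻¹ * t'.out * k = t.out⁻¹ * (t'.out * k * t'.out⁻¹) * t'.out := by group
          _ = k * (t.out⁻¹ * t'.out) := by rw [← h]; group
      · have h1 := (Finset.mem_filter.mp hg).2.trans hkC.symm
        obtain ⟨c, hc⟩ := isConj_iff.mp (ConjClasses.mk_eq_mk_iff_isConj.mp h1).symm
        refine ⟨(c : G ⧸ Ck), Finset.mem_univ _, ?_⟩
        have h2 := out_inv_mul (H := Ck) c
        have h3 := Subgroup.mem_centralizer_singleton_iff.mp h2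
        calc (c : G ⧸ Ck).out * k * (c : G ⧸ Ck).out⁻¹
            = (c : G ⧸ Ck).out * (k * ((c : G ⧸ Ck).out⁻¹ * c)) * c⁻¹ := by group
          _ = c * k * c⁻¹ := by rw [← h3]; group
          _ = g := hc
    rw [e1, e2, e3, smul_smul, mul_assoc, inv_mul_cancel₀ hm, mul_one]
  choose x hx1 hx2 using key
  refine ⟨∑ C, x C, fun d hd => ?_, ?_⟩
  · rw [Finset.mul_sum, Finset.sum_mul]
    exact Finset.sum_congr rfl fun C _ => hx1 C d hd
  · simp only [Finset.mul_sum, Finset.sum_mul]
    rw [Finset.sum_comm, ← Finset.sum_congr rfl fun C _ => hx2 C,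
      ← Finset.sum_fiberwise_of_maps_to (t := (Finset.univ : Finset (ConjClasses G)))
        (g := ConjClasses.mk) fun g _ => Finset.mem_univ _]
    refine Finset.sum_congr rfl fun C _ => ?_
    rw [Finset.smul_sum]
    refine Finset.sum_congr rfl fun g hg => ?_
    congr 1
    have h1 : ConjClasses.mk g = ConjClasses.mk C.out :=
      (Finset.mem_filter.mp hg).2.trans (Quotient.out_eq C).symm
    obtain ⟨c, hc⟩ := isConj_iff.mp (ConjClasses.mk_eq_mk_iff_isConj.mp h1)
    rw [← hc, ha]

end Cfsg.Agent.BlkChar.CyclicDefect
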