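import Cfsg.Agent.BlkChar.CyclicDefect.Setup
import Cfsg.Agent.BlkChar.CyclicDefect.Ext
import Cfsg.Agent.BlkChar.CyclicDefect.RelTrace
import Cfsg.Agent.BlkChar.CyclicDefect.Modular

/-!
# As many simple modules in a block with cyclic defect group as the inertial index
-/

set_option autoImplicit false
set_option linter.unusedSectionVars false

namespace Cfsg.Agent.BlkChar.CyclicDefect

open BlocksCore BlocksDefect BC85
open scoped Classical
open Finset MonoidAlgebra
local notation "𝕜" => BlocksDefect.Res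

universe u

section Alg

variable {K : Type*} [Field K] {G : Type*} [Group G] [Fintype G] {H : Subgroup G}

theorem nmap_mul (g g' : Subgroup.normalizer (H : Set G)) (h : H) :
    nmap H g (nmap H g' h) = nmap H (g * g') h := by
  refine Subtype.ext ?_
  show (g : G) * ((g' : G) * h * (g' : G)⁻¹) * (g : G)⁻¹ = (g : G) * g' * h * ((g : G) * g')⁻¹
  group

theorem nmap_one (h : H) : nmap H 1 h = h := Subtype.ext (by simp [nmap])

/-- Conjugation by an element of the normalizer as an isomorphism. -/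
noncomputable def nEquiv (H : Subgroup G) (g : Subgroup.normalizer (H : Set G)) : H ≃* H :=
  MonoidHom.toMulEquiv (nmap H g) (nmap H g⁻¹)
    (MonoidHom.ext fun h => by
      rw [MonoidHom.comp_apply, nmap_mul, inv_mul_cancel, nmap_one]; rfl)
    (MonoidHom.ext fun h => by
      rw [MonoidHom.comp_apply, nmap_mul, mul_inv_cancel, nmap_one]; rfl)

theorem nEquiv_apply (g : Subgroup.normalizer (H : Set G)) (h : H) : nEquiv H g h = nmap H g h :=
  rfl

theorem cj_cancel (g : Subgroup.normalizer (H : Set G)) (a : MonoidAlgebra K H) :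
    cj K H g (cj K H g⁻¹ a) = a := by
  induction a using MonoidAlgebra.induction_on with
  | of h => rw [cj_of, cj_of, nmap_mul, mul_inv_cancel, nmap_one]
  | add a b ha hb => rw [map_add, map_add, ha, hb]
  | smul c a ha => rw [map_smul, map_smul, ha]

variable {A : Type*} [Ring A] [Algebra K A] {ε π : A} {N n : ℕ} [NeZero n]
  {R : A →ₐ[K] Matrix (Fin n) (Fin n) K} {f : A} {U V : Fin n → A}

/-- A central element goes to a scalar. -/
theorem Shape.exists_scalar (S : Shape ε π N n R f U V) {d : A} (hd : ∀ a, d * a = a * d) :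
    ∃ s : K, R d = s • 1 := by
  obtain ⟨c, hc⟩ := Matrix.mem_range_scalar_of_commute_single (M := R d) fun i j _ => by
    obtain ⟨a, ha⟩ := S.surj (Matrix.single i j 1)
    show Matrix.single i j 1 * R d = R d * Matrix.single i j 1
    rw [← ha, ← map_mul, ← map_mul, hd a]
  exact ⟨c, by rw [← hc, Matrix.smul_one_eq_diagonal]; rfl⟩

/-- An automorphism fixing the idempotent preserves the kernel of the simple module. -/
theorem Shape.exists_map_pi (S : Shape ε π N n R f U V) (φ : A →ₐ[K] A)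
    (hφ : Function.Surjective φ) (hε : φ ε = ε) : ∃ b, φ π = π * b := by
  refine S.exists_of_R_eq_zero ?_ ?_
  · rw [← hε, ← map_mul, S.piEps]
  obtain ⟨s, hs⟩ := S.exists_scalar (d := φ π) fun a => by
    obtain ⟨a', rfl⟩ := hφ a
    rw [← map_mul, ← map_mul, S.piComm]
  have h1 : R (φ π) ^ N = 0 := by rw [← map_pow, ← map_pow, S.piN, map_zero, map_zero]
  rw [hs, smul_pow, one_pow] at h1
  have h2 := congrFun (congrFun h1 0) 0
  simp at h2
  rw [hs, h2.1, zero_smul]

theorem centralizer_singleton_conj (y g : G) :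
    (Subgroup.centralizer ({g} : Set G)).map (MulAut.conj y).toMonoidHom =
      Subgroup.centralizer ({y * g * y⁻¹} : Set G) := by
  ext x
  rw [mem_map_conj_iff, Subgroup.mem_centralizer_singleton_iff,
    Subgroup.mem_centralizer_singleton_iff]
  constructor
  · intro h
    calc x * (y * g * y⁻¹) = y * ((y⁻¹ * x * y) * g) * y⁻¹ := by group
      _ = y * (g * (y⁻¹ * x * y)) * y⁻¹ := by rw [h]
      _ = y * g * y⁻¹ * x := by group
  · intro h
    calc y⁻¹ * x * y * g = y⁻¹ * (x * (y * g * y⁻¹)) * y := by group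
      _ = y⁻¹ * (y * g * y⁻¹ * x) * y := by rw [h]
      _ = g * (y⁻¹ * x * y) := by group

theorem exists_sylowCent (p : ℕ) [Fact p.Prime] (g : G) :
    ∃ Q : Subgroup G, IsPGroup p Q ∧ Q ≤ Subgroup.centralizer ({g} : Set G) ∧
      ¬ p ∣ Q.relIndex (Subgroup.centralizer ({g} : Set G)) := by
  obtain ⟨P⟩ : Nonempty (Sylow p (Subgroup.centralizer ({g} : Set G))) := inferInstance
  refine ⟨(P : Subgroup _).map (Subgroup.centralizer ({g} : Set G)).subtype, P.2.map _,
    Subgroup.map_subtype_le _, ?_⟩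
  rw [Subgroup.relIndex, Subgroup.subgroupOf,
    Subgroup.comap_map_eq_self_of_injective (Subgroup.subtype_injective _)]
  exact P.not_dvd_index

end Alg

variable {G : Type u} [Group G] [Fintype G] {p : ℕ} [Fact p.Prime] {M : Ideal AlgInt}
  [hP : M.IsPrime]

theorem cj_toAlg {H : Subgroup G} (g : Subgroup.normalizer (H : Set G)) (a : H → ℂ) :
    cj (𝕜 M) H g (toAlg M a) = toAlg M (fun h => a (nmap H g⁻¹ h)) := by
  rw [toAlg, toAlg, map_sum]
  refine Fintype.sum_equiv (nEquiv H g).toEquiv _ _ fun h => ?_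
  rw [map_smul, cj_of, show ((nEquiv H g).toEquiv h) = nmap H g h from rfl, nmap_mul,
    inv_mul_cancel, nmap_one]

namespace CycData

variable {B : Set (IrrCharacter G)} {D : Subgroup G}
  {c : Set (IrrCharacter (Subgroup.centralizer (D : Set G)))} (X : CycData p M B D c)
include X

theorem blockB : IsPBlock M B := ((isBrauerPairOf_iff X.mod).mp X.blk_pairOf).2.1

/-- The element of order `p` in its centralizer. -/
noncomputable def zH : X.H := ⟨X.zel, X.D_le_H X.zel_mem⟩

theorem orderOf_zH : orderOf X.zH = p := by rw [zH, Subgroup.orderOf_mk, X.orderOf_zel]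

theorem zH_central (h : X.H) : Commute X.zH h :=
  Subtype.ext (Subgroup.mem_centralizer_iff.mp h.2 _ (Subgroup.mem_zpowers _))

/-- The stabilizer of the block of the centralizer. -/
noncomputable def T : Subgroup G := stabT (Subgroup.zpowers X.zel) X.blk

theorem H_le_T : X.H ≤ X.T := le_sup_right.trans (le_stabT _ _)

theorem T_le_normalizer : X.T ≤ Subgroup.normalizer (X.H : Set G) :=
  (inf_le_left : X.T ≤ _).trans (normalizer_le_normalizer_centralizer _)

theorem stab_inf_H {x : G} (hx : x ∈ stabT D c) :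
    x ∈ X.H ↔ x ∈ Subgroup.centralizer (D : Set G) := by
  refine ⟨fun h => X.free hx X.zel_mem (fun h1 => ?_) ?_, fun h => X.centralizer_le_H h⟩
  · exact (Fact.out : p.Prime).one_lt.ne (by rw [← X.orderOf_zel, h1, orderOf_one])
  · exact mul_inv_eq_iff_eq_mul.mpr
      (Subgroup.mem_centralizer_iff.mp h X.zel (Subgroup.mem_zpowers _)).symm

theorem exists_T_decomp {x : G} (hx : x ∈ X.T) : ∃ y ∈ stabT D c, ∃ h ∈ X.H, x = y * h :=
  conj_mul_of_abelian X.mod X.max X.abelian X.blk_le hx

/-- The inertial index. -/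
noncomputable def ei (_ : CycData p M B D c) : ℕ := (Subgroup.centralizer (D : Set G)).relIndex (stabT D c)

theorem relIndex_eq : X.H.relIndex X.T = X.ei := by
  haveI : (X.H.subgroupOf X.T).Normal :=
    Subgroup.normal_subgroupOf_of_le_normalizer X.T_le_normalizer
  let φ : stabT D c →* X.T ⧸ X.H.subgroupOf X.T :=
    (QuotientGroup.mk' _).comp (Subgroup.inclusion X.stabT_le)
  have hker : φ.ker = (Subgroup.centralizer (D : Set G)).subgroupOf (stabT D c) := by
    ext x
    rw [MonoidHom.mem_ker, Subgroup.mem_subgroupOf, ← X.stab_inf_H x.2]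
    exact (QuotientGroup.eq_one_iff _).trans Subgroup.mem_subgroupOf
  have hsurj : φ.range = ⊤ := by
    rw [MonoidHom.range_eq_top]
    intro q
    obtain ⟨t, rfl⟩ := QuotientGroup.mk_surjective q
    obtain ⟨y, hy, h, hh, e⟩ := X.exists_T_decomp t.2
    refine ⟨⟨y, hy⟩, QuotientGroup.eq.mpr (Subgroup.mem_subgroupOf.mpr ?_)⟩
    show y⁻¹ * (t : G) ∈ X.H
    rw [e, inv_mul_cancel_left]
    exact hh
  rw [ei, Subgroup.relIndex, Subgroup.relIndex, ← hker, Subgroup.index_ker, hsurj,
    Subgroup.card_top]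
  rfl

theorem ei_dvd : X.ei ∣ p - 1 := by
  have : ((Subgroup.centralizer (D : Set G)).subgroupOf (stabT D c)).Normal :=
    Subgroup.normal_subgroupOf_of_le_normalizer
      ((inf_le_left : stabT D c ≤ _).trans (normalizer_le_normalizer_centralizer D))
  exact (cyclic_inertia X.mod X.max X.cyc X.ne_bot).2

theorem ei_pos : 0 < X.ei :=
  Nat.pos_of_ne_zero fun h => by
    have h1 := X.ei_dvd
    rw [h, zero_dvd_iff] at h1
    have := (Fact.out : p.Prime).two_le
    omega

theorem not_dvd_ei : ¬ p ∣ X.ei := fun h => by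
  have h1 := (Nat.le_of_dvd X.ei_pos h).trans
    (Nat.le_of_dvd (Nat.sub_pos_of_lt (Fact.out : p.Prime).one_lt) X.ei_dvd)
  have := (Fact.out : p.Prime).two_le
  omega

theorem exists_gen : ∃ t0 : X.T, ∀ t : X.T,
    ∃ k : ℤ, ∃ h : G, h ∈ X.H ∧ (t : G) = (t0 : G) ^ k * h := by
  have : ((Subgroup.centralizer (D : Set G)).subgroupOf (stabT D c)).Normal :=
    Subgroup.normal_subgroupOf_of_le_normalizer
      ((inf_le_left : stabT D c ≤ _).trans (normalizer_le_normalizer_centralizer D))
  have := (cyclic_inertia X.mod X.max X.cyc X.ne_bot).1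
  obtain ⟨q, hq⟩ := IsCyclic.exists_generator
    (α := stabT D c ⧸ (Subgroup.centralizer (D : Set G)).subgroupOf (stabT D c))
  obtain ⟨s, rfl⟩ := QuotientGroup.mk_surjective q
  refine ⟨⟨s, X.stabT_le s.2⟩, fun t => ?_⟩
  obtain ⟨y, hy, h, hh, e⟩ := X.exists_T_decomp t.2
  obtain ⟨k, hk⟩ := Subgroup.mem_zpowers_iff.mp (hq ((⟨y, hy⟩ : stabT D c) : stabT D c ⧸ _))
  rw [← QuotientGroup.mk_zpow, QuotientGroup.eq, Subgroup.mem_subgroupOf, Subgroup.coe_mul,
    Subgroup.coe_inv, Subgroup.coe_zpow] at hk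
  refine ⟨k, ((s : G) ^ k)⁻¹ * y * h, X.H.mul_mem (X.centralizer_le_H hk) hh, ?_⟩
  rw [e, mul_assoc, mul_inv_cancel_left]

theorem blockCoeff_T {g : Subgroup.normalizer (X.H : Set G)} (hg : (g : G) ∈ X.T) (h : X.H) :
    blockCoeff X.blk (nmap X.H g h) = blockCoeff X.blk h := by
  exact (bp_apply_coe (Subgroup.zpowers X.zel) X.blk (nmap X.H g h)).symm.trans
    ((hg.2 (h : G)).trans (bp_apply_coe (Subgroup.zpowers X.zel) X.blk h))

theorem eps_T (g : Subgroup.normalizer (X.H : Set G)) (hg : (g : G) ∈ X.T) :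
    cj (𝕜 M) X.H g (X.nil.yel 1) = X.nil.yel 1 := by
  rw [X.nil.yel_one, cj_toAlg]
  exact congrArg (toAlg M) (funext fun h => X.blockCoeff_T (g := g⁻¹) (X.T.inv_mem hg) h)

/-- A power of the element of order `p` generates the same subgroup. -/
theorem zpowers_conj_of_mem {g : G} {j : ℕ} (hj : 0 < j) (hjp : j < p)
    (h : g⁻¹ * X.zel ^ j * g ∈ D) :
    Subgroup.zpowers (g⁻¹ * X.zel ^ j * g) = Subgroup.zpowers X.zel := by
  refine eq_of_card_eq_of_le_cyclic X.cyc (Subgroup.zpowers_le.mpr h) X.zpowers_zel_le ?_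
  rw [Nat.card_zpowers, Nat.card_zpowers, X.orderOf_zel,
    show g⁻¹ * X.zel ^ j * g = MulAut.conj g⁻¹ (X.zel ^ j) by simp, MulEquiv.orderOf_eq,
    orderOf_pow' _ hj.ne', X.orderOf_zel,
    Nat.Coprime.gcd_eq_one (((Fact.out : p.Prime).coprime_iff_not_dvd.mpr fun h =>
      (Nat.le_of_dvd hj h).not_gt hjp)), Nat.div_one]

theorem mem_normalizer_of_conj_mem {g : G} {j : ℕ} (hj : 0 < j) (hjp : j < p)
    (h : g⁻¹ * X.zel ^ j * g ∈ D) :
    g ∈ Subgroup.normalizer ((Subgroup.zpowers X.zel : Subgroup G) : Set G) := by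
  rw [← inv_inv g]
  refine Subgroup.inv_mem _ (Subgroup.mem_normalizer_iff.mpr fun x => ?_)
  have h0 : Subgroup.zpowers (X.zel ^ j) = Subgroup.zpowers X.zel := by
    have := X.zpowers_conj_of_mem (g := 1) hj hjp (by simpa using pow_mem X.zel_mem j)
    simpa using this
  have h1 : (Subgroup.zpowers X.zel).map (MulAut.conj g⁻¹).toMonoidHom =
      Subgroup.zpowers X.zel := by
    conv_lhs => rw [← h0, MonoidHom.map_zpowers]
    simpa using X.zpowers_conj_of_mem hj hjp h
  conv_rhs => rw [← h1, mem_map_conj_iff]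
  simp [mul_assoc]

theorem outside (g : G) (hg : g ∉ X.T) :
    (∀ j, 0 < j → j < p → g⁻¹ * (X.zH : G) ^ j * g ∉ D) ∨
      ∃ h : g ∈ Subgroup.normalizer (X.H : Set G),
        X.nil.yel 1 * cj (𝕜 M) X.H ⟨g, h⟩ (X.nil.yel 1) = 0 := by
  by_cases hfree : ∀ j, 0 < j → j < p → g⁻¹ * (X.zH : G) ^ j * g ∉ D
  · exact Or.inl hfree
  push Not at hfree
  obtain ⟨j, hj, hjp, hD⟩ := hfree
  have hgN := X.mem_normalizer_of_conj_mem hj hjp hD
  have hgH : g ∈ Subgroup.normalizer (X.H : Set G) := normalizer_le_normalizer_centralizer _ hgN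
  refine Or.inr ⟨hgH, ?_⟩
  set σ := nEquiv X.H (⟨g, hgH⟩ : Subgroup.normalizer (X.H : Set G))⁻¹
  have hblk' : IsPBlock M (pullIrr σ '' X.blk) := isPBlock_image_pullIrr σ X.blk_isPBlock
  have hne : X.blk ≠ pullIrr σ '' X.blk := fun heq => hg ⟨hgN, fun y => by
    have hi : ∀ h : X.H, blockCoeff X.blk (σ h) = blockCoeff X.blk h := fun h =>
      ((congrFun (blockCoeff_image_pullIrr σ X.blk) h).symm).trans (by rw [← heq])
    by_cases hy : y ∈ X.H
    · have hy' : g * y * g⁻¹ ∈ X.H := (Subgroup.mem_normalizer_iff.mp hgH y).mp hy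
      show bp ⟨_, X.blk⟩ ((⟨g * y * g⁻¹, hy'⟩ : X.H) : G) = bp ⟨_, X.blk⟩ ((⟨y, hy⟩ : X.H) : G)
      refine (bp_apply_coe _ X.blk _).trans (Eq.trans ?_ (bp_apply_coe _ X.blk _).symm)
      refine (hi ⟨g * y * g⁻¹, hy'⟩).symm.trans (congrArg (blockCoeff X.blk) (Subtype.ext ?_))
      simp [σ, nEquiv_apply, nmap, mul_assoc]
    · rw [bp_of_notMem _ X.blk hy, bp_of_notMem _ X.blk]
      exact fun h => hy ((Subgroup.mem_normalizer_iff.mp hgH y).mpr h)⟩
  have hdisj : X.blk ∩ pullIrr σ '' X.blk = ∅ := by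
    refine Set.eq_empty_of_forall_notMem fun χ hχ => hne ?_
    exact isPBlock_eq_of_mem X.blk_isPBlock hblk' hχ.1 hχ.2
  have e : (fun h => blockCoeff X.blk (nmap X.H (⟨g, hgH⟩ : Subgroup.normalizer (X.H : Set G))⁻¹ h))
      = blockCoeff (pullIrr σ '' X.blk) := (blockCoeff_image_pullIrr σ X.blk).symm
  rw [X.nil.yel_one, cj_toAlg, e,
    ← toAlg_conv (isIntClassFun_blockCoeff X.mod X.blk_isPBlock).2
      (isIntClassFun_blockCoeff X.mod hblk').2, conv_blockCoeff, hdisj, blockCoeff_empty, toAlg]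
  exact Finset.sum_eq_zero fun x _ => by
    rw [Pi.zero_apply, red_eq_zero memLocalIdeal_zero, zero_smul]

theorem eps_trace [Fintype (X.H ⧸ D.subgroupOf X.H)] :
    ∃ x : MonoidAlgebra (𝕜 M) X.H,
      (∀ d : X.H, (d : G) ∈ D → of (𝕜 M) X.H d * x = x * of (𝕜 M) X.H d) ∧
        X.nil.yel 1 = ∑ r : X.H ⧸ D.subgroupOf X.H,
          of (𝕜 M) X.H r.out * x * of (𝕜 M) X.H r.out⁻¹ := by
  have := isMaximal X.mod
  have := BlocksDefect.charP_res (M := M) X.mod
  have hint := isIntClassFun_blockCoeff X.mod X.blk_isPBlock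
  obtain ⟨x, hx, hsum⟩ := exists_relTrace (K := 𝕜 M) (p := p) (D.subgroupOf X.H)
    (fun h => red M (blockCoeff X.blk h)) (fun g h => congrArg (red M) (hint.1 g h)) fun g hg => by
      obtain ⟨Q, hQp, hQC, hQdiv⟩ := exists_sylowCent p g
      obtain ⟨y, hy⟩ := subConj_defectGroup_of_coeff X.mod X.blk_isPBlock X.nil.defect hQp
        (h := g) (Subgroup.mem_centralizer_iff.mpr fun q hq =>
          Subgroup.mem_centralizer_singleton_iff.mp (hQC hq))
        fun h => hg (red_eq_zero h)
      refine ⟨y, Q.map (MulAut.conj y).toMonoidHom, hy, ?_, ?_⟩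
      · rw [← centralizer_singleton_conj]
        exact Subgroup.map_mono hQC
      · rw [← centralizer_singleton_conj,
          Subgroup.relIndex_map_map_of_injective _ _ (MulAut.conj y).injective]
        exact hQdiv
  exact ⟨x, fun d hd => hx d hd, by rw [X.nil.yel_one, toAlg, hsum]⟩

/-- The simple module of the centralizer is fixed by the block idempotent of the group. -/
theorem simpleHom_one {n : ℕ} [NeZero n]
    {R : MonoidAlgebra (𝕜 M) X.H →ₐ[𝕜 M] Matrix (Fin n) (Fin n) (𝕜 M)}
    {f : MonoidAlgebra (𝕜 M) X.H} {U V : Fin n → MonoidAlgebra (𝕜 M) X.H}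
    (S : Shape (X.nil.yel 1) X.nil.piEl (Nat.card X.loc) n R f U V) {a : 𝕜 M} (ha : a ≠ 0)
    (htr : ∀ g : X.H, (R (of (𝕜 M) X.H g)).trace = a * red M ((X.nil.base : X.H → ℂ) g)) :
    simpleHom R (∑ h : X.H, red M (blockCoeff B (h : G)) • of (𝕜 M) X.H h) = 1 := by
  have := isMaximal X.mod
  have hint := isIntClassFun_blockCoeff X.mod X.blockB
  let β : X.H → ℂ := fun h => blockCoeff B (h : G)
  have hβ : IsClassFunction X.H β := fun g h => hint.1 (g : G) (h : G)
  obtain ⟨s, hs⟩ := S.exists_scalar (d := toAlg M β) (BlockAlg8.toAlg_mul_comm hβ)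
  obtain ⟨χ, hχ⟩ := isPBlock_nonempty X.blockB
  have hω : MemLocalIdeal M (omega (X.nil.base : X.H → ℂ) β - 1) := by
    have h := pairOf_rel X.mod X.blk_pairOf (ξ := X.nil.base) X.nil.base_mem hχ hint
    rw [omega_blockCoeff, Set.indicator_of_mem hχ, Pi.one_apply] at h
    exact h
  have hω' : MemLocalRing M (omega (X.nil.base : X.H → ℂ) β) := by
    rw [← sub_add_cancel (omega (X.nil.base : X.H → ℂ) β) 1]
    exact (localRing M).add_mem (memLocalRing_of_memLocalIdeal hω) (localRing M).one_mem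
  have hx : ∀ x : X.H, (R (toAlg M β * of (𝕜 M) X.H x)).trace =
      a * red M ((X.nil.base : X.H → ℂ) x) := by
    intro x
    have hm : ∀ h : X.H, MemLocalRing M (β h * (X.nil.base : X.H → ℂ) (h * x)) := fun h =>
      (localRing M).mul_mem (hint.2 _) (CyclicRank.memLocalRing_irr X.nil.base _)
    rw [toAlg, Finset.sum_mul, map_sum, Matrix.trace_sum]
    calc ∑ h : X.H, (R (red M (β h) • of (𝕜 M) X.H h * of (𝕜 M) X.H x)).trace
        = a * ∑ h : X.H, red M (β h * (X.nil.base : X.H → ℂ) (h * x)) := by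
          rw [Finset.mul_sum]
          refine Finset.sum_congr rfl fun h _ => ?_
          rw [smul_mul_assoc, map_smul, Matrix.trace_smul, ← map_mul, htr, smul_eq_mul,
            red_mul (hint.2 _) (CyclicRank.memLocalRing_irr X.nil.base _)]
          ring
      _ = _ := by
        rw [← red_sum _ hm, sum_classFun_mul_translate _ hβ,
          red_mul hω' (CyclicRank.memLocalRing_irr X.nil.base _),
          show red M (omega (X.nil.base : X.H → ℂ) β) = red M 1 from
            (red_eq_iff hω' (localRing M).one_mem).mpr hω,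
          show red M 1 = (1 : 𝕜 M) by rw [← Nat.cast_one, red_natCast, Nat.cast_one], one_mul]
  have hs1 : s = 1 := by
    by_contra hne
    have h0 : ∀ z : MonoidAlgebra (𝕜 M) X.H, (R z).trace = 0 := by
      intro z
      induction z using MonoidAlgebra.induction_on with
      | of x =>
        have h := hx x
        rw [map_mul, hs, smul_mul_assoc, one_mul, Matrix.trace_smul, ← htr, smul_eq_mul] at h
        exact (mul_eq_zero.mp (show (s - 1) * (R (of (𝕜 M) X.H x)).trace = 0 by
          rw [sub_mul, h, one_mul, sub_self])).resolve_left (sub_ne_zero.mpr hne)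
      | add u w hu hw => rw [map_add, Matrix.trace_add, hu, hw, add_zero]
      | smul t u hu => rw [map_smul, Matrix.trace_smul, hu, smul_zero]
    have h := h0 (U 0)
    rw [S.map_U, Matrix.trace_single_eq_same] at h
    exact one_ne_zero h
  rw [show (∑ h : X.H, red M (blockCoeff B (h : G)) • of (𝕜 M) X.H h) = toAlg M β from rfl,
    simpleHom, AlgHom.comp_apply, hs, hs1, one_smul, map_one]

/-- The number of simple modules of the block is at least the inertial index. -/
theorem ei_le_blockRank : X.ei ≤ blockRank p B := by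
  have := isMaximal X.mod
  have := BlocksDefect.charP_res (M := M) X.mod
  obtain ⟨n, _, R, f, U, V, a, hS, ha, htr⟩ := X.nil.exists_shape
  obtain ⟨q, w, hcore, hRz⟩ := exists_core X.orderOf_zH X.zH_central hS
  have Y : Sys p X.H X.T D X.zH (X.nil.yel 1) X.nil.piEl w (Nat.card X.loc) q n R f U V :=
    { core := hcore
      map_z := hRz
      HT := X.H_le_T
      TN := X.T_le_normalizer
      eps_T := X.eps_T
      pi_T := fun g hg => hS.exists_map_pi (cj (𝕜 M) X.H g)
        (fun b => ⟨cj (𝕜 M) X.H g⁻¹ b, cj_cancel g b⟩) (X.eps_T g hg)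
      not_dvd := X.relIndex_eq ▸ X.not_dvd_ei
      cent_z := fun g hg => Subgroup.mem_centralizer_iff.mpr fun q hq => by
        obtain ⟨k, rfl⟩ := Subgroup.mem_zpowers_iff.mp hq
        exact ((show Commute g X.zel from hg).zpow_right k).eq.symm
      DH := X.D_le_H
      small := fun g j hj hjp h => by
        show _ ∈ Subgroup.zpowers X.zel
        rw [← X.zpowers_conj_of_mem hj hjp h]
        exact Subgroup.mem_zpowers _
      outside := X.outside
      trace := fun {_} => X.eps_trace }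
  obtain ⟨t0, ht0⟩ := X.exists_gen
  have hint := isIntClassFun_blockCoeff X.mod X.blockB
  obtain ⟨m, ρ, hirr, hnt, hne, hfix⟩ := Y.exists_family t0 ht0
    (fun g => red M (blockCoeff B g)) (fun g h => congrArg (red M) (hint.1 g h))
    (X.simpleHom_one hS ha htr)
  have h := card_le_blockRank X.mod X.blockB ρ hirr hnt hne hfix
  rwa [Fintype.card_fin, X.relIndex_eq] at h

end CycData

end Cfsg.Agent.BlkChar.CyclicDefect
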