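import Cfsg.Agent.BlkChar.CyclicDefect.Isometry
import Mathlib.RingTheory.ZMod.UnitsCyclic

/-!
# Matching two blocks with cyclic defect groups and equal inertial index
-/

set_option autoImplicit false
set_option linter.unusedSectionVars false
set_option linter.style.haveILetI false

namespace Cfsg.Agent.BlkChar.CyclicDefect

open BlocksCore BlocksDefect BC85 BC85.Star
open scoped Classical ComplexConjugate

universe u v

/-- The automorphisms of exponent dividing a divisor of `p - 1` of a cyclic `p`-group are no more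
than the divisor. -/
theorem card_torsion_mulAut_le {p : ℕ} [hp : Fact p.Prime] {Q : Type*} [Group Q] [Finite Q]
    [IsCyclic Q] (hQ : IsPGroup p Q) [Fintype (MulAut Q)] {e : ℕ} (he : 0 < e) (hne : ¬ p ∣ e) :
    (Finset.univ.filter fun α : MulAut Q => α ^ e = 1).card ≤ e := by
  obtain ⟨k, hk⟩ := IsPGroup.iff_card.mp hQ
  haveI : NeZero (Nat.card Q) := ⟨Nat.card_pos.ne'⟩
  rcases Nat.eq_zero_or_pos k with rfl | hk0
  · rw [pow_zero] at hk
    have hs : Subsingleton (MulAut Q) := by
      haveI : Subsingleton Q := (Nat.card_eq_one_iff_unique.mp hk).1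
      exact ⟨fun a b => MulEquiv.ext fun x => Subsingleton.elim _ _⟩
    exact (Finset.card_le_one.mpr fun a _ b _ => Subsingleton.elim a b).trans he
  let ψ : MulAut Q ≃* (ZMod (Nat.card Q))ˣ := (IsCyclic.mulAutMulEquiv Q)
  have hpn : p ∣ Nat.card Q := hk ▸ dvd_pow_self p hk0.ne'
  let ρ := (ZMod.unitsMap hpn).comp ψ.toMonoidHom
  have hker : ∀ u : (ZMod (Nat.card Q))ˣ, ZMod.unitsMap hpn u = 1 → u ^ e = 1 → u = 1 := by
    intro u hu hue
    set x : ZMod (Nat.card Q) := (u : ZMod (Nat.card Q)) - 1 with hx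
    have hcast : ZMod.castHom hpn (ZMod p) x = 0 := by
      have := congrArg Units.val hu
      rw [ZMod.unitsMap_def] at this
      simp only [Units.coe_map, MonoidHom.coe_coe, Units.val_one] at this
      rw [hx, map_sub, map_one, this, sub_self]
    obtain ⟨j, hj⟩ : p ∣ x.val := by
      rw [← ZMod.natCast_eq_zero_iff _ p, ← hcast, ← map_natCast (ZMod.castHom hpn (ZMod p)),
        ZMod.natCast_zmod_val]
    have hxp : x = (p : ZMod (Nat.card Q)) * j := by
      rw [← ZMod.natCast_zmod_val x, hj, Nat.cast_mul]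
    have hxn : IsNilpotent x := ⟨k, by
      rw [hxp, mul_pow, ← Nat.cast_pow, ← hk, ZMod.natCast_self, zero_mul]⟩
    have heu : IsUnit (e : ZMod (Nat.card Q)) := by
      rw [← ZMod.coe_unitOfCoprime e (hk ▸ Nat.Coprime.pow_right k
        ((hp.out.coprime_iff_not_dvd.mpr hne).symm))]
      exact Units.isUnit _
    set y : ZMod (Nat.card Q) := (u : ZMod (Nat.card Q)) with hy
    have hsum : IsUnit (∑ i ∈ Finset.range e, y ^ i) := by
      have : ∑ i ∈ Finset.range e, y ^ i = (e : ZMod (Nat.card Q)) +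
          x * ∑ i ∈ Finset.range e, ∑ l ∈ Finset.range i, y ^ l := by
        rw [Finset.mul_sum, ← Finset.sum_congr rfl fun i _ => show y ^ i - 1 =
          x * ∑ l ∈ Finset.range i, y ^ l by rw [hx, mul_geom_sum], Finset.sum_sub_distrib]
        simp
      rw [this]
      exact IsNilpotent.isUnit_add_left_of_commute
        ((Commute.all x _).isNilpotent_mul_right hxn) heu (Commute.all _ _)
    have h1 : x * ∑ i ∈ Finset.range e, y ^ i = 0 := by
      rw [hx, mul_geom_sum, hy, ← Units.val_pow_eq_pow_val, hue, Units.val_one, sub_self]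
    exact Units.ext (sub_eq_zero.mp (hsum.mul_left_eq_zero.mp h1))
  calc (Finset.univ.filter fun α : MulAut Q => α ^ e = 1).card
      ≤ (Finset.univ.filter fun z : (ZMod p)ˣ => z ^ e = 1).card := by
        refine Finset.card_le_card_of_injOn ρ (fun α hα => ?_) fun α hα β hβ h => ?_
        · have h1 := (Finset.mem_filter.mp hα).2
          exact Finset.mem_filter.mpr ⟨Finset.mem_univ _, by rw [← map_pow, h1, map_one]⟩
        · have ha := (Finset.mem_filter.mp hα).2
          have hb := (Finset.mem_filter.mp hβ).2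
          refine ψ.injective (mul_inv_eq_one.mp (hker _ ?_ ?_))
          · rw [map_mul, map_inv, mul_inv_eq_one]
            exact h
          · rw [mul_pow, inv_pow, ← map_pow, ← map_pow, ha, hb, map_one, inv_one, mul_one]
    _ ≤ e := IsCyclic.card_pow_eq_one_le he

variable {G : Type u} [Group G] [Fintype G] {p : ℕ} [Fact p.Prime] {M : Ideal AlgInt}
  [hP : M.IsPrime] {B : Set (IrrCharacter G)} {D : Subgroup G}
  {c : Set (IrrCharacter (Subgroup.centralizer (D : Set G)))}

namespace CycData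

variable (X : CycData p M B D c)
include X

theorem locHom_locHom (s t : stabT D c) (x : X.loc) :
    X.locHom s (X.locHom t x) = X.locHom (t * s) x :=
  Subtype.ext (Subtype.ext (by
    rw [locHom_coe, locHom_coe, locHom_coe]
    push_cast
    group))

theorem locHom_one (x : X.loc) : X.locHom 1 x = x :=
  Subtype.ext (Subtype.ext (by rw [locHom_coe]; simp))

/-- The action of the inertial group on the defect group. -/
noncomputable def autT : stabT D c →* MulAut X.loc :=
  MonoidHom.mk' (fun t => MonoidHom.toMulEquiv (X.locHom t⁻¹) (X.locHom t)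
    (MonoidHom.ext fun x => by
      rw [MonoidHom.comp_apply, X.locHom_locHom, inv_mul_cancel, X.locHom_one]; rfl)
    (MonoidHom.ext fun x => by
      rw [MonoidHom.comp_apply, X.locHom_locHom, mul_inv_cancel, X.locHom_one]; rfl))
    fun s t => MulEquiv.ext fun x => by
      show X.locHom (s * t)⁻¹ x = X.locHom s⁻¹ (X.locHom t⁻¹ x)
      rw [X.locHom_locHom, mul_inv_rev]

theorem autT_apply (t : stabT D c) (x : X.loc) : X.autT t x = X.locHom t⁻¹ x := rfl

theorem card_range_autT : Nat.card X.autT.range = X.ei := by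
  rw [← Subgroup.index_ker, ei, Subgroup.relIndex]
  congr 1
  ext t
  rw [MonoidHom.mem_ker, Subgroup.mem_subgroupOf]
  constructor
  · intro h
    refine X.free t.2 X.zel_mem (fun h1 => (Fact.out : p.Prime).one_lt.ne (by
      rw [← X.orderOf_zel, h1, orderOf_one])) ?_
    have h2 := congrArg (fun w : X.loc => ((w : X.H) : G))
      (DFunLike.congr_fun h (⟨⟨X.zel, X.D_le_H X.zel_mem⟩, X.zel_mem⟩ : X.loc))
    simp only [autT_apply, locHom_coe, Subgroup.coe_inv, inv_inv, MulAut.one_apply] at h2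
    exact h2
  · intro h
    refine MulEquiv.ext fun x => Subtype.ext (Subtype.ext ?_)
    rw [autT_apply, locHom_coe, Subgroup.coe_inv, inv_inv, MulAut.one_apply]
    exact mul_inv_eq_iff_eq_mul.mpr (Subgroup.mem_centralizer_iff.mp h _ x.2).symm

theorem pow_ei (t : stabT D c) : X.autT t ^ X.ei = 1 := by
  rw [← X.card_range_autT]
  have h := pow_card_eq_one' (x := (⟨X.autT t, ⟨t, rfl⟩⟩ : X.autT.range))
  exact congrArg Subtype.val h

end CycData

section Two

variable (X : CycData p M B D c)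
  {F : Type v} [Group F] [Fintype F] {B' : Set (IrrCharacter F)} {D' : Subgroup F}
  {c' : Set (IrrCharacter (Subgroup.centralizer (D' : Set F)))} (Y : CycData p M B' D' c')
  (ι : X.loc ≃* Y.loc)

/-- The inertial actions correspond under every isomorphism of the defect groups. -/
theorem exists_respect (he : X.ei = Y.ei) (t : stabT D c) :
    ∃ t' : stabT D' c', ∀ l, pull X Y ι (Y.lconj t' l) = X.lconj t (pull X Y ι l) := by
  haveI := Y.nil.cyc
  haveI := Fusion.finite_mulAut Y.loc
  letI := Fintype.ofFinite (MulAut Y.loc)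
  set α : MulAut Y.loc := (ι.symm.trans (X.autT t⁻¹)).trans ι with hα
  have hpow : α ^ Y.ei = 1 := by
    have hk : ∀ k : ℕ, α ^ k = (ι.symm.trans (X.autT t⁻¹ ^ k)).trans ι := by
      intro k
      induction k with
      | zero => exact MulEquiv.ext fun x => by simp
      | succ k ih =>
        rw [pow_succ, ih, pow_succ]
        exact MulEquiv.ext fun x => by simp [hα]
    rw [hk, ← he, X.pow_ei]
    exact MulEquiv.ext fun x => by simp
  have hsub : (Finset.univ.filter fun β : MulAut Y.loc => β ∈ Y.autT.range) ⊆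
      Finset.univ.filter fun β : MulAut Y.loc => β ^ Y.ei = 1 := fun β hβ => by
    obtain ⟨s, rfl⟩ := (Finset.mem_filter.mp hβ).2
    exact Finset.mem_filter.mpr ⟨Finset.mem_univ _, Y.pow_ei s⟩
  have hcard : (Finset.univ.filter fun β : MulAut Y.loc => β ∈ Y.autT.range).card = Y.ei := by
    rw [← Y.card_range_autT, Nat.card_eq_fintype_card, Fintype.card_subtype]
  have hle := card_torsion_mulAut_le (Y.nil.max.1.1.1) Y.ei_pos Y.not_dvd_ei
  have heq := Finset.eq_of_subset_of_card_le hsub ((le_of_eq (congrArg Finset.card (by congr!))).trans (hle.trans hcard.ge))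
  obtain ⟨s, hs⟩ := (Finset.mem_filter.mp (heq.symm ▸
    (Finset.mem_filter.mpr ⟨Finset.mem_univ _, hpow⟩ : α ∈ _))).2
  refine ⟨s⁻¹, fun l => MonoidHom.ext fun x => ?_⟩
  show l (Y.locHom s⁻¹ (ι x)) = l (ι (X.locHom t x))
  congr 1
  rw [← Y.autT_apply, hs, hα, MulEquiv.trans_apply, MulEquiv.trans_apply,
    MulEquiv.symm_apply_apply, X.autT_apply, inv_inv]

theorem exists_reps_image (he : X.ei = Y.ei) {R : Finset (X.loc →* ℂˣ)} (hR : X.Reps R) :
    Y.Reps (R.image (pull Y X ι.symm)) := by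
  have hinj : Function.Injective (pull Y X ι.symm) := fun a b h => by
    rw [← pull_pull X Y ι a, h, pull_pull]
  refine ⟨fun l hl => ?_, fun l hl => ?_, fun l hl m hm t h => ?_, ?_, ?_⟩
  · obtain ⟨a, ha, rfl⟩ := Finset.mem_image.mp hl
    exact fun h => hR.ne_one a ha (hinj (h.trans (pull_one Y X ι.symm).symm))
  · have hne : pull X Y ι l ≠ 1 := fun h => hl (by
      rw [← pull_pull Y X ι.symm l, MulEquiv.symm_symm, h, pull_one])
    obtain ⟨t, ht⟩ := hR.exists_rep _ hne
    obtain ⟨t', ht'⟩ := exists_respect X Y ι he t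
    refine ⟨t', Finset.mem_image.mpr ⟨_, ht, ?_⟩⟩
    rw [← ht' l]
    exact MonoidHom.ext fun x => by simp [pull]
  · obtain ⟨a, ha, rfl⟩ := Finset.mem_image.mp hl
    obtain ⟨b, hb, rfl⟩ := Finset.mem_image.mp hm
    obtain ⟨t', ht'⟩ := exists_respect Y X ι.symm he.symm t
    refine congrArg _ (hR.eq_of a ha b hb t' (hinj ?_))
    rw [ht' b, h]
  · rw [Finset.card_image_of_injective _ hinj, ← he, hR.card,
      ← Nat.card_congr (Subgroup.subgroupOfEquivOfLe X.D_le_H).toEquiv,
      ← Nat.card_congr (Subgroup.subgroupOfEquivOfLe Y.D_le_H).toEquiv]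
    exact Nat.card_congr ι.toEquiv
  · rw [Finset.card_image_of_injective _ hinj]
    exact hR.pos

theorem _root_.Cfsg.Agent.BlkChar.CyclicDefect.CycData.Tree.delta_of_ei_one
    {X : CycData p M B D c} {R : Finset (X.loc →* ℂˣ)} {f : (X.loc →* ℂˣ) → IrrCharacter G}
    {δ : IrrCharacter G → ℤ} {ε : ℤ} (T : X.Tree R f δ ε) (h1 : X.ei = 1) {χ : IrrCharacter G}
    (hχ : χ ∈ CycData.Tree.nonExc X R f) : δ χ = -ε := by
  obtain ⟨l, hl⟩ := Finset.card_pos.mp T.reps.pos
  have hs : CycData.Tree.nonExc X R f = {χ} := by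
    have h := T.card_nonExc
    rw [Nat.card_coe_set_eq, h1, Set.ncard_eq_one] at h
    obtain ⟨a, ha⟩ := h
    rw [ha] at hχ ⊢
    rw [Set.mem_singleton_iff.mp hχ]
  have h := T.relation hl (g := 1) (by
    rw [orderOf_one]; exact (Fact.out : p.Prime).not_dvd_one)
  rw [hs, finsum_mem_singleton, irr_one_eq, irr_one_eq] at h
  have h' : ε * (charDegree (f l : G → ℂ) : ℤ) + δ χ * (charDegree (χ : G → ℂ) : ℤ) = 0 := by
    exact_mod_cast h
  have ha := charDegree_pos (f l)
  have hb := charDegree_pos χ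
  rcases T.sign with rfl | rfl <;>
    rcases (T.coef_nonexc χ hχ.1 hχ.2).1 with h2 | h2 <;> rw [h2] at h' ⊢ <;> omega

/-- Blocks with cyclic defect groups of the same order and the same inertial index match. -/
theorem exists_matches (he : X.ei = Y.ei) {R : Finset (X.loc →* ℂˣ)}
    {f : (X.loc →* ℂˣ) → IrrCharacter G} {δ : IrrCharacter G → ℤ} {ε : ℤ}
    (T : X.Tree R f δ ε) :
    ∃ I s, Matches X Y ι I s ∧ (∀ l ∈ R, ∀ m ∈ R, s (f l) = s (f m)) ∧
      (X.ei = 1 → ∀ η ∈ B, ∀ η' ∈ B, s η = s η') := by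
  have := finite_irr (G := G)
  have := finite_irr (G := F)
  obtain ⟨f', δ', ε', T'⟩ := Y.exists_tree_of_reps (exists_reps_image X Y ι he T.reps)
  obtain ⟨φ⟩ : Nonempty (CycData.Tree.nonExc X R f ≃
      CycData.Tree.nonExc Y (R.image (pull Y X ι.symm)) f') :=
    ⟨Finite.equivFinOfCardEq T.card_nonExc |>.trans
      ((finCongr he).trans (Finite.equivFinOfCardEq T'.card_nonExc).symm)⟩
  set I : IrrCharacter G → IrrCharacter F := fun η =>
    if h : η ∈ CycData.Tree.nonExc X R f then (φ ⟨η, h⟩ : IrrCharacter F)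
    else f' (pull Y X ι.symm (Function.invFunOn f R η)) with hI
  set s : IrrCharacter G → ℤ := fun η =>
    if η ∈ CycData.Tree.nonExc X R f then δ η * δ' (I η) else ε * ε' with hs
  have hn : ∀ {η}, η ∈ CycData.Tree.nonExc X R f →
      I η ∈ CycData.Tree.nonExc Y (R.image (pull Y X ι.symm)) f' ∧ s η = δ η * δ' (I η) :=
    fun {η} h => ⟨by rw [hI]; simp only [dif_pos h]; exact (φ ⟨η, h⟩).2,
      by simp only [hs, if_pos h]⟩
  have hf : ∀ {l}, l ∈ R → I (f l) = f' (pull Y X ι.symm l) ∧ s (f l) = ε * ε' := by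
    intro l hl
    have h : f l ∉ CycData.Tree.nonExc X R f := fun h => h.2 l hl rfl
    refine ⟨?_, by simp only [hs, if_neg h]⟩
    simp only [hI, dif_neg h]
    rw [T.image_inj.leftInvOn_invFunOn (by exact hl)]
  have hsplit : ∀ η ∈ B, η ∈ CycData.Tree.nonExc X R f ∨ ∃ l ∈ R, f l = η := fun η hη => by
    rcases (T.union_eq ▸ hη : η ∈ CycData.Tree.nonExc X R f ∪ f '' R) with h | ⟨l, hl, e⟩
    · exact Or.inl h
    · exact Or.inr ⟨l, hl, e⟩
  have hinj : Function.Injective (pull Y X ι.symm) := fun a b h => by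
    rw [← pull_pull X Y ι a, h, pull_pull]
  refine ⟨I, s, ⟨⟨fun η hη => ?_, fun η hη θ hθ h => ?_, fun χ hχ => ?_⟩, fun η hη => ?_,
    fun l hl η hη => ?_⟩, fun l hl m hm => by rw [(hf hl).2, (hf hm).2], fun h1 η hη η' hη' => ?_⟩
  · rcases hsplit η hη with h | ⟨l, hl, rfl⟩
    · exact (hn h).1.1
    · rw [(hf hl).1]; exact T'.mem _ (Finset.mem_image_of_mem _ hl)
  · rcases hsplit η hη with ha | ⟨l, hl, rfl⟩ <;> rcases hsplit θ hθ with hb | ⟨m, hm, rfl⟩
    · simp only [hI, dif_pos ha, dif_pos hb] at h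
      exact congrArg Subtype.val (φ.injective (Subtype.ext h))
    · rw [(hf hm).1] at h
      exact absurd h.symm ((hn ha).1.2 _ (Finset.mem_image_of_mem _ hm))
    · rw [(hf hl).1] at h
      exact absurd h ((hn hb).1.2 _ (Finset.mem_image_of_mem _ hl))
    · rw [(hf hl).1, (hf hm).1] at h
      rw [hinj (T'.inj _ (Finset.mem_image_of_mem _ hl) _ (Finset.mem_image_of_mem _ hm) h)]
  · rcases (T'.union_eq ▸ hχ : χ ∈ _ ∪ f' '' _) with h | ⟨l, hl, rfl⟩
    · refine ⟨φ.symm ⟨χ, h⟩, (φ.symm ⟨χ, h⟩).2.1, ?_⟩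
      simp only [hI, dif_pos (φ.symm ⟨χ, h⟩).2]
      exact congrArg Subtype.val (φ.apply_symm_apply ⟨χ, h⟩)
    · obtain ⟨m, hm, rfl⟩ := Finset.mem_image.mp hl
      exact ⟨f m, T.mem m hm, (hf hm).1⟩
  · rcases hsplit η hη with h | ⟨l, hl, rfl⟩
    · rw [(hn h).2]
      rcases (T.coef_nonexc η h.1 h.2).1 with a | a <;>
        rcases (T'.coef_nonexc _ (hn h).1.1 (hn h).1.2).1 with b | b <;> simp [a, b]
    · rw [(hf hl).2]
      rcases T.sign with a | a <;> rcases T'.sign with b | b <;> simp [a, b]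
  · obtain ⟨t', ht'⟩ := T'.reps.exists_rep l hl
    obtain ⟨t, ht⟩ := exists_respect Y X ι.symm he.symm t'
    obtain ⟨r, hr, hr'⟩ := Finset.mem_image.mp ht'
    have e1 : X.lconj t (pull X Y ι l) = r := hinj (by
      rw [ht, hr', show pull Y X ι.symm (pull X Y ι l) = l from pull_pull Y X ι.symm l])
    rw [← Y.coef_lconj t' l, ← X.coef_lconj t, e1, ← hr']
    rcases hsplit η hη with h | ⟨q, hq, rfl⟩
    · rw [(hn h).2, (T'.coef_nonexc _ (hn h).1.1 (hn h).1.2).2 _ (Finset.mem_image_of_mem _ hr),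
        (T.coef_nonexc η h.1 h.2).2 r hr]
      linear_combination -(δ' (I η)) * T.delta_mul h
    · rw [(hf hq).2, (hf hq).1, T.coef_exc r hr q hq,
        T'.coef_exc _ (Finset.mem_image_of_mem _ hr) _ (Finset.mem_image_of_mem _ hq),
        if_congr hinj.eq_iff rfl rfl]
      split_ifs
      · linear_combination -ε' * T.sign_mul
      · simp
  · have key : ∀ θ ∈ B, s θ = ε * ε' := by
      intro θ hθ
      rcases hsplit θ hθ with h | ⟨l, hl, rfl⟩
      · rw [(hn h).2, T.delta_of_ei_one h1 h, T'.delta_of_ei_one (he ▸ h1) (hn h).1]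
        ring
      · exact (hf hl).2
    rw [key η hη, key η' hη']

/-- Perfect isometry of blocks with cyclic defect groups of the same order and equal inertial
indices. -/
theorem exists_isPerfectIsometry (he : X.ei = Y.ei) (hD : Nat.card D = Nat.card D') :
    ∃ I s, IsPerfectIsometry p M B B' I s := by
  haveI := X.nil.cyc
  haveI := Y.nil.cyc
  obtain ⟨R, f, δ, ε, T⟩ := X.exists_tree
  obtain ⟨I, s, A, -⟩ := exists_matches X Y (mulEquivOfCyclicCardEq (show
    Nat.card X.loc = Nat.card Y.loc by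
      rw [show Nat.card X.loc = Nat.card D from
          Nat.card_congr (Subgroup.subgroupOfEquivOfLe X.D_le_H).toEquiv,
        show Nat.card Y.loc = Nat.card D' from
          Nat.card_congr (Subgroup.subgroupOfEquivOfLe Y.D_le_H).toEquiv, hD])) he T
  exact ⟨I, s, A.isPerfectIsometry⟩

end Two

end Cfsg.Agent.BlkChar.CyclicDefect
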