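import Cfsg.Agent.BC85.Star.Stable
import Cfsg.Agent.BC85.Pairs.AbelianInertia
import Cfsg.Agent.BC85.Pairs.Sharp
import Cfsg.Agent.BlkChar.Blichfeldt
import Cfsg.Agent.CharDeep.Tools
import Cfsg.Agent.S4675

/-!
# The characters of a nilpotent block with cyclic defect group

The linear characters of the defect group act simply transitively on the block.
-/

set_option autoImplicit false
set_option linter.unusedSectionVars false

namespace Cfsg.Agent.BlkChar.CyclicDefect

open BlocksCore BlocksDefect BC85 BC85.Star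
open scoped Classical ComplexConjugate

universe u

/-- The data of a nilpotent block with cyclic defect group and a maximal pair. -/
structure NilData (p : ℕ) [Fact p.Prime] (M : Ideal AlgInt) {G : Type u} [Group G] [Fintype G]
    (B : Set (IrrCharacter G)) (P : Subgroup G)
    (e : Set (IrrCharacter (Subgroup.centralizer (P : Set G)))) : Prop where
  mod : IsPModular p M
  max : IsMaximalBrauerPair p M B P e
  cyc : IsCyclic P
  inert : ∀ x ∈ stabT P e, x ∈ Subgroup.centralizer (P : Set G)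

variable {G : Type u} [Group G] [Fintype G] {p : ℕ} [Fact p.Prime] {M : Ideal AlgInt}
  [hP : M.IsPrime] {B : Set (IrrCharacter G)} {P : Subgroup G}
  {e : Set (IrrCharacter (Subgroup.centralizer (P : Set G)))}

/-- A linear character as a function. -/
noncomputable def lf (l : P →* ℂˣ) : P → ℂ := fun x => (l x : ℂ)

theorem lf_apply (l : P →* ℂˣ) (x : P) : lf l x = (l x : ℂ) := rfl

theorem lf_one : lf (1 : P →* ℂˣ) = fun _ => 1 := funext fun x => by simp [lf]

theorem lf_mul (l m : P →* ℂˣ) : lf (l * m) = fun x => lf l x * lf m x :=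
  funext fun x => by simp [lf]

theorem conj_lf (l : P →* ℂˣ) (x : P) : conj (lf l x) = lf l x⁻¹ := by
  have : Finite P := inferInstance
  have h : (lf l x) ^ orderOf x = 1 := by
    rw [lf, ← Units.val_pow_eq_pow_val, ← map_pow, pow_orderOf_eq_one, map_one, Units.val_one]
  have hn : ‖lf l x‖ = 1 := Complex.norm_eq_one_of_pow_eq_one h (orderOf_pos x).ne'
  rw [← Complex.inv_eq_conj hn, lf, lf, map_inv, Units.val_inv_eq_inv_val]

theorem finite_lin [IsCyclic P] : Finite (P →* ℂˣ) := by
  letI := IsCyclic.commGroup (α := P)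
  exact Nat.finite_of_card_ne_zero
    (by rw [CommGroup.card_monoidHom_of_hasEnoughRootsOfUnity P ℂ]; exact Nat.card_pos.ne')

theorem card_lin (h : IsCyclic P) : Nat.card (P →* ℂˣ) = Nat.card P := by
  letI := IsCyclic.commGroup (α := P)
  exact CommGroup.card_monoidHom_of_hasEnoughRootsOfUnity P ℂ

theorem sum_lf (h : IsCyclic P) [Fintype (P →* ℂˣ)] (x : P) :
    ∑ l : P →* ℂˣ, lf l x = if x = 1 then (Nat.card P : ℂ) else 0 := by
  letI := IsCyclic.commGroup (α := P)
  split_ifs with hx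
  · subst hx
    simp [lf]
    rw [← Nat.card_eq_fintype_card, ← Nat.card_eq_fintype_card, card_lin h]
  · exact sum_monoidHom_apply_ne_one hx

/-- The function that is `1` at `w` only. -/
noncomputable def dfun (w : P) : P → ℂ := fun x => if x = w then 1 else 0

theorem dfun_eq_sum (h : IsCyclic P) [Fintype (P →* ℂˣ)] (w : P) :
    dfun w = fun x => ∑ l : P →* ℂˣ, (Nat.card P : ℂ)⁻¹ * lf l w⁻¹ * lf l x := by
  funext x
  have hne : (Nat.card P : ℂ) ≠ 0 := Nat.cast_ne_zero.mpr Nat.card_pos.ne'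
  simp only [mul_assoc, ← Finset.mul_sum]
  rw [show (∑ l : P →* ℂˣ, lf l w⁻¹ * lf l x) = ∑ l : P →* ℂˣ, lf l (w⁻¹ * x) from
    Finset.sum_congr rfl fun l _ => by simp [lf], sum_lf h]
  by_cases hx : x = w
  · subst hx
    simp [dfun, inv_mul_cancel₀ hne]
  · rw [dfun, if_neg hx, if_neg fun h1 => hx (inv_mul_eq_one.mp h1).symm, mul_zero]

omit [Fact p.Prime] in
/-- The star product is linear in the weight. -/
theorem starMul_sum [Fact p.Prime] {ι : Type*} (s : Finset ι) (c : ι → ℂ) (θ : ι → P → ℂ)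
    (F : G → ℂ) (g : G) :
    starMul p M P e (fun x => ∑ i ∈ s, c i * θ i x) F g =
      ∑ i ∈ s, c i * starMul p M P e (θ i) F g := by
  have hη : ∀ a v, etaOf p M P e (fun x => ∑ i ∈ s, c i * θ i x) a v =
      ∑ i ∈ s, c i * etaOf p M P e (θ i) a v := by
    intro a v
    simp only [etaOf]
    split_ifs
    · rfl
    · simp
  simp only [starMul, starFun_def, hη, Finset.sum_mul, Finset.mul_sum]
  rw [Finset.sum_comm]
  exact Finset.sum_congr rfl fun i _ => Finset.sum_congr rfl fun a _ => by ring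

namespace NilData

variable (D : NilData p M B P e)
include D

theorem isPBlock : IsPBlock M B := D.max.1.2.1

theorem abelian : ∀ x ∈ P, ∀ y ∈ P, x * y = y * x := fun a ha b hb => by
  haveI := D.cyc
  letI := IsCyclic.commGroup (α := P)
  exact congrArg Subtype.val (mul_comm (⟨a, ha⟩ : P) ⟨b, hb⟩)

theorem defect : IsDefectGroup p M B P := isDefectGroup_of_maximal D.mod D.max

/-- Fusion is trivial on the subgroup of the pair. -/
theorem eq_of_fused {v g : G} {a : BrauerPairIdx G} (hv : v ∈ P) (hgv : g * v * g⁻¹ ∈ P)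
    (ha : a.1 = Subgroup.zpowers v)
    (h : Relation.ReflTransGen (NormalSubpairRel p M) a ⟨P, e⟩)
    (h' : Relation.ReflTransGen (NormalSubpairRel p M) (conjPair g a) ⟨P, e⟩) :
    g * v * g⁻¹ = v := by
  have hmap : a.1.map (MulAut.conj g).toMonoidHom = a.1 := by
    refine eq_of_card_eq_of_le_cyclic D.cyc ?_ ?_ (natCard_map_conj a.1 g)
    · exact subpairLE_le (Q := (conjPair g a).1) (f := (conjPair g a).2) h'
    · exact subpairLE_le (Q := a.1) (f := a.2) h
  have hst : g ∈ stabT a.1 a.2 :=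
    conjPair_eq_self_iff.mp (below_eq D.mod D.max.1.1 h' h (by rw [conjPair_fst]; exact hmap))
  obtain ⟨y, hy, k, hk, rfl⟩ := conj_mul_of_abelian D.mod D.max D.abelian h hst
  have hk' : k * v * k⁻¹ = v := mul_inv_eq_iff_eq_mul.mpr
    (Subgroup.mem_centralizer_iff.mp hk v (by rw [ha]; exact Subgroup.mem_zpowers v)).symm
  calc y * k * v * (y * k)⁻¹ = y * (k * v * k⁻¹) * y⁻¹ := by group
    _ = v := by
      rw [hk']
      exact mul_inv_eq_iff_eq_mul.mpr (Subgroup.mem_centralizer_iff.mp (D.inert y hy) v hv).symm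

theorem stable (θ : P → ℂ) : IsPairStable p M P e θ := by
  intro v w g a ha h h' he
  congr 1
  exact Subtype.ext ((D.eq_of_fused v.2 (he ▸ w.2) ha h h').symm.trans he)

theorem starMul_lf_gen (l : P →* ℂˣ) (χ : IrrCharacter G) :
    IsGeneralizedCharacter G (starMul p M P e (lf l) (χ : G → ℂ)) :=
  starMul_gen D.mod D.max (CharCore.IsCharacter.isGeneralized (CharDeep.isCharacter_linear l))
    (D.stable _) χ

theorem exists_twist (l : P →* ℂˣ) {χ : IrrCharacter G} (hχ : χ ∈ B) :
    ∃ ψ : IrrCharacter G, ψ ∈ B ∧ (ψ : G → ℂ) = starMul p M P e (lf l) (χ : G → ℂ) := by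
  refine exists_irr_of_norm_one D.mod D.max
    (CharCore.IsCharacter.isGeneralized (CharDeep.isCharacter_linear l)) (D.stable _)
    (by simp [lf]) hχ ?_
  rw [classInner_starMul_starMul D.mod D.max (D.stable _) (D.stable _) (irr_class χ) (irr_class χ),
    show (fun x => conj ((l x : ℂˣ) : ℂ) * ((l x : ℂˣ) : ℂ)) = fun _ => (1 : ℂ) from
      funext fun x => by
      rw [show conj ((l x : ℂˣ) : ℂ) = lf l x⁻¹ from conj_lf l x, lf, ← Units.val_mul, ← map_mul,
        inv_mul_cancel, map_one, Units.val_one],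
    starMul_one D.mod D.max hχ, CharCore.classInner_irr_self]

/-- The twist of a member of the block by a linear character. -/
noncomputable def twist (l : P →* ℂˣ) (χ : IrrCharacter G) : IrrCharacter G :=
  if h : χ ∈ B then (D.exists_twist l h).choose else χ

theorem twist_mem (l : P →* ℂˣ) {χ : IrrCharacter G} (hχ : χ ∈ B) : D.twist l χ ∈ B := by
  rw [twist, dif_pos hχ]
  exact (D.exists_twist l hχ).choose_spec.1

theorem twist_coe (l : P →* ℂˣ) {χ : IrrCharacter G} (hχ : χ ∈ B) :
    (D.twist l χ : G → ℂ) = starMul p M P e (lf l) (χ : G → ℂ) := by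
  rw [twist, dif_pos hχ]
  exact (D.exists_twist l hχ).choose_spec.2

theorem twist_one {χ : IrrCharacter G} (hχ : χ ∈ B) : D.twist 1 χ = χ :=
  Subtype.ext (by rw [D.twist_coe 1 hχ, lf_one, starMul_one D.mod D.max hχ])

theorem twist_twist (l m : P →* ℂˣ) {χ : IrrCharacter G} (hχ : χ ∈ B) :
    D.twist l (D.twist m χ) = D.twist (l * m) χ :=
  Subtype.ext (by
    rw [D.twist_coe l (D.twist_mem m hχ), D.twist_coe m hχ, D.twist_coe (l * m) hχ,
      starMul_starMul D.mod D.max (D.stable _) (D.stable _) (irr_class χ), lf_mul])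

theorem twist_regular (l : P →* ℂˣ) {χ : IrrCharacter G} (hχ : χ ∈ B) {s : G}
    (hs : ¬ p ∣ orderOf s) : (D.twist l χ : G → ℂ) s = (χ : G → ℂ) s := by
  rw [D.twist_coe l hχ, starMul_regular D.mod D.max (D.stable _) hχ hs]
  simp [lf]

/-- The star product with the function that is `1` at the identity is the regular part. -/
theorem starMul_dfun_one {χ : IrrCharacter G} (hχ : χ ∈ B) :
    starMul p M P e (dfun 1) (χ : G → ℂ) = pRegularPart p (χ : G → ℂ) := by
  funext g
  obtain ⟨hcomm, hreg⟩ := regular_inv_pp_mul (p := p) g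
  have hord : ∃ n : ℕ, orderOf (pp p g) = p ^ n := (pp_spec (p := p) g).choose_spec.2.2.1
  by_cases hg : ¬ p ∣ orderOf g
  · rw [starMul_regular D.mod D.max (D.stable _) hχ hg, BC85.pRegularPart_pos hg]
    simp [dfun]
  · rw [not_not] at hg
    rw [BC85.pRegularPart_neg hg, starMul, starFun_def]
    refine Finset.sum_eq_zero fun a ha => ?_
    rw [etaOf]
    split_ifs with h
    · refine mul_eq_zero_of_left (if_neg fun h1 => ?_) _
      have h2 : pp p g = 1 := by simpa using congrArg Subtype.val h1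
      rw [h2, inv_one, one_mul] at hreg
      exact hreg hg
    · rw [zero_mul]

/-- The number of linear characters twisting `χ` into `ψ`. -/
theorem sum_classInner_twist [Fintype (P →* ℂˣ)] {χ : IrrCharacter G} (hχ : χ ∈ B) :
    ∑ l : P →* ℂˣ, classInner (D.twist l χ : G → ℂ) (χ : G → ℂ) =
      (Nat.card P : ℂ) * BC85.prj p χ χ := by
  rw [BC85.prj_def, ← D.starMul_dfun_one hχ, dfun_eq_sum D.cyc,
    show starMul p M P e (fun x => ∑ l : P →* ℂˣ, (Nat.card P : ℂ)⁻¹ * lf l (1 : P)⁻¹ * lf l x)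
        (χ : G → ℂ) = ∑ l : P →* ℂˣ, (Nat.card P : ℂ)⁻¹ • (D.twist l χ : G → ℂ) from funext fun g => by
      rw [starMul_sum, Finset.sum_apply]
      refine Finset.sum_congr rfl fun l _ => ?_
      rw [D.twist_coe l hχ]
      simp [lf],
    CharCore.classInner_sum_left, Finset.mul_sum]
  refine Finset.sum_congr rfl fun l _ => ?_
  rw [CharCore.classInner_smul_left, mul_inv_cancel_left₀ (Nat.cast_ne_zero.mpr Nat.card_pos.ne')]

theorem torsor (χ : IrrCharacter G) (hχ : χ ∈ B) :
    (∀ ψ ∈ B, ∃! l : P →* ℂˣ, D.twist l χ = ψ) := by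
  have hcycI := D.cyc
  have := finite_lin (P := P)
  have := Fintype.ofFinite (P →* ℂˣ)
  have := finite_irr (G := G)
  have := Fintype.ofFinite B
  obtain ⟨φ, d, ⟨n, hn⟩, hd, hsum⟩ :=
    S4675.result p M D.mod B D.isPBlock P D.defect
      (BC85.rank_one_of_abelian D.mod ((nilpotent_iff_of_abelian D.mod D.max D.abelian).mpr D.inert)
        D.defect D.abelian).1
  have h1reg : ¬ p ∣ orderOf (1 : G) := by
    rw [orderOf_one]; exact (Fact.out : p.Prime).not_dvd_one
  have hdeg : ∀ ψ ∈ B, (ψ : G → ℂ) 1 = d ψ * φ 1 := fun ψ hψ => hd ψ hψ 1 h1reg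
  have hφ1 : φ 1 ≠ 0 := fun h0 => irr_one_ne_zero χ (by rw [hdeg χ hχ, h0, mul_zero])
  have hdpos : ∀ ψ ∈ B, d ψ ≠ 0 := fun ψ hψ h0 => irr_one_ne_zero ψ (by
    rw [hdeg ψ hψ, h0, Nat.cast_zero, zero_mul])
  have hP0 : (Nat.card P : ℂ) ≠ 0 := Nat.cast_ne_zero.mpr Nat.card_pos.ne'
  rw [BC85.finsum_block] at hsum
  -- the pairing of the Brauer character with itself
  set X := classInner (pRegularPart p φ) (pRegularPart p φ) with hX
  have hregpart : ∀ ψ ∈ B, pRegularPart p (ψ : G → ℂ) = (d ψ : ℂ) • pRegularPart p φ := by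
    intro ψ hψ
    funext x
    by_cases hx : p ∣ orderOf x
    · simp [BC85.pRegularPart_neg hx]
    · simp [BC85.pRegularPart_pos hx, hd ψ hψ x hx]
  have hprj : ∀ ψ ∈ B, ∀ η ∈ B, BC85.prj p ψ η = (d ψ : ℂ) * d η * X := by
    intro ψ hψ η hη
    rw [BC85.prj_def, show classInner (pRegularPart p (ψ : G → ℂ)) (η : G → ℂ) =
      classInner (pRegularPart p (ψ : G → ℂ)) (pRegularPart p (η : G → ℂ)) by
        simp only [classInner]
        congr 1
        refine Finset.sum_congr rfl fun x _ => ?_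
        by_cases hx : p ∣ orderOf x
        · rw [BC85.pRegularPart_neg hx, zero_mul, zero_mul]
        · rw [BC85.pRegularPart_pos (χ := (η : G → ℂ)) hx],
      hregpart ψ hψ, hregpart η hη, CharCore.classInner_smul_left, CharCore.classInner_smul_right,
      Complex.conj_natCast]
    ring
  have hXP : (Nat.card P : ℂ) * X = 1 := by
    have h := BC85.pRegularPart_eq_finsum D.mod D.isPBlock hχ 1
    rw [BC85.pRegularPart_pos h1reg, BC85.finsum_block, hdeg χ hχ,
      Finset.sum_congr rfl fun ψ _ => by rw [hprj χ hχ ψ ψ.2, hdeg ψ ψ.2]] at h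
    have h2 : (d χ : ℂ) * φ 1 * ((Nat.card P : ℂ) * X) = (d χ : ℂ) * φ 1 * 1 := by
      rw [mul_one]
      conv_rhs => rw [h]
      rw [← hsum]
      push_cast
      rw [Finset.sum_mul, Finset.mul_sum]
      exact Finset.sum_congr rfl fun ψ _ => by ring
    exact mul_left_cancel₀ (mul_ne_zero (Nat.cast_ne_zero.mpr (hdpos χ hχ)) hφ1) h2
  -- the orbit
  have hdtw : ∀ l, d (D.twist l χ) = d χ := by
    intro l
    have h := D.twist_regular l hχ h1reg
    rw [hdeg _ (D.twist_mem l hχ), hdeg χ hχ] at h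
    exact_mod_cast mul_right_cancel₀ hφ1 h
  have hfib : ∀ m : P →* ℂˣ,
      (Finset.univ.filter fun l => D.twist l χ = D.twist m χ).card = d χ ^ 2 := by
    intro m
    set ψ := D.twist m χ
    have h0 : (Finset.univ.filter fun l : P →* ℂˣ => D.twist l χ = ψ).card =
        (Finset.univ.filter fun l : P →* ℂˣ => D.twist l ψ = ψ).card := by
      refine Finset.card_bij' (fun l _ => l * m⁻¹) (fun l _ => l * m) ?_ ?_
        (fun l _ => inv_mul_cancel_right l m) (fun l _ => mul_inv_cancel_right l m)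
      · intro l hl
        simp only [Finset.mem_filter, Finset.mem_univ, true_and] at hl ⊢
        rw [D.twist_twist _ _ hχ]
        rw [show l * m⁻¹ * m = l from MonoidHom.ext fun x => by simp]
        exact hl
      · intro l hl
        simp only [Finset.mem_filter, Finset.mem_univ, true_and] at hl ⊢
        rwa [D.twist_twist _ _ hχ] at hl
    have h := D.sum_classInner_twist (D.twist_mem m hχ)
    rw [hprj _ (D.twist_mem m hχ) _ (D.twist_mem m hχ), Finset.sum_congr rfl
      (g := fun l => if D.twist l ψ = ψ then (1 : ℂ) else 0) (fun _ _ => by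
        split_ifs with h1
        · rw [h1, CharCore.classInner_irr_self]
        · exact CharCore.classInner_irr_of_ne h1), Finset.sum_boole, ← h0, hdtw] at h
    have h2 : ((Finset.univ.filter fun l : P →* ℂˣ => D.twist l χ = ψ).card : ℂ) =
        (d χ : ℂ) ^ 2 := by linear_combination h + (d χ : ℂ) ^ 2 * hXP
    exact_mod_cast h2
  set O := Finset.univ.image fun l : P →* ℂˣ => D.twist l χ with hO
  have hOd : ∑ ψ ∈ O, d ψ ^ 2 = Nat.card P := by
    rw [← card_lin D.cyc, Nat.card_eq_fintype_card, ← Finset.card_univ,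
      Finset.card_eq_sum_card_image fun l : P →* ℂˣ => D.twist l χ]
    refine Finset.sum_congr rfl fun ψ hψ => ?_
    obtain ⟨m, -, rfl⟩ := Finset.mem_image.mp hψ
    rw [hfib, hdtw]
  have hall : ∀ ψ ∈ B, ψ ∈ O := by
    intro ψ hψ
    by_contra hno
    have hsub : insert ψ O ⊆ B.toFinset := by
      intro η hη
      rcases Finset.mem_insert.mp hη with rfl | hη
      · exact Set.mem_toFinset.mpr hψ
      · obtain ⟨m, -, rfl⟩ := Finset.mem_image.mp hη
        exact Set.mem_toFinset.mpr (D.twist_mem m hχ)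
    have h := Finset.sum_le_sum_of_subset (f := fun η => d η ^ 2) hsub
    rw [Finset.sum_insert hno, hOd, Finset.sum_set_coe B |>.symm, hsum] at h
    have := Nat.pos_of_ne_zero (pow_ne_zero 2 (hdpos ψ hψ))
    omega
  have hd1 : d χ = 1 := by
    have h := hn 1 h1reg
    rw [BC85.finsum_block, Finset.sum_congr rfl fun (ψ : B) _ => by
      rw [hdeg ψ ψ.2]] at h
    have hdall : ∀ ψ : B, d ψ = d χ := fun ψ => by
      obtain ⟨m, -, hm⟩ := Finset.mem_image.mp (hall ψ ψ.2)
      rw [← hm, hdtw]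
    simp only [hdall] at h
    have h2 : (((∑ ψ : B, n ψ) * (d χ : ℤ) : ℤ) : ℂ) * φ 1 = (1 : ℂ) * φ 1 := by
      rw [one_mul]
      conv_rhs => rw [h]
      push_cast
      rw [Finset.sum_mul, Finset.sum_mul]
      exact Finset.sum_congr rfl fun ψ _ => by ring
    have h3 : ((∑ ψ : B, n ψ) * (d χ : ℤ) : ℤ) = 1 := by
      exact_mod_cast mul_right_cancel₀ hφ1 h2
    exact_mod_cast Int.eq_one_of_mul_eq_one_left (Int.natCast_nonneg _) h3
  intro ψ hψ
  obtain ⟨m, -, hm⟩ := Finset.mem_image.mp (hall ψ hψ)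
  refine ⟨m, hm, fun l hl => ?_⟩
  have hl' : D.twist l χ = D.twist m χ := hl.trans hm.symm
  obtain ⟨x, hx⟩ := Finset.card_eq_one.mp (show
    (Finset.univ.filter fun l => D.twist l χ = D.twist m χ).card = 1 by rw [hfib, hd1, one_pow])
  have hlm : l ∈ ({x} : Finset _) ∧ m ∈ ({x} : Finset _) := by
    rw [← hx]; simp [hl']
  simp only [Finset.mem_singleton] at hlm
  rw [hlm.1, hlm.2]

theorem twist_injective {χ : IrrCharacter G} (hχ : χ ∈ B) :
    Function.Injective fun l => D.twist l χ := fun l m h =>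
  (D.torsor χ hχ _ (D.twist_mem m hχ)).unique h rfl

theorem classInner_twist {χ : IrrCharacter G} (hχ : χ ∈ B) (l m : P →* ℂˣ) :
    classInner (D.twist l χ : G → ℂ) (D.twist m χ : G → ℂ) = if l = m then 1 else 0 := by
  split_ifs with h
  · rw [h, CharCore.classInner_irr_self]
  · exact CharCore.classInner_irr_of_ne fun h' => h (D.twist_injective hχ h')

theorem regular_eq {χ ψ : IrrCharacter G} (hχ : χ ∈ B) (hψ : ψ ∈ B) {s : G}
    (hs : ¬ p ∣ orderOf s) : (ψ : G → ℂ) s = (χ : G → ℂ) s := by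
  obtain ⟨l, hl, -⟩ := D.torsor χ hχ ψ hψ
  rw [← hl, D.twist_regular l hχ hs]

theorem natCard_eq : Nat.card B = Nat.card P := by
  obtain ⟨χ, hχ⟩ := isPBlock_nonempty D.isPBlock
  rw [← card_lin D.cyc]
  refine (Nat.card_congr (Equiv.ofBijective (fun l => (⟨D.twist l χ, D.twist_mem l hχ⟩ : B))
    ⟨fun l m h => D.twist_injective hχ (congrArg Subtype.val h), fun ψ => ?_⟩)).symm
  obtain ⟨l, hl, -⟩ := D.torsor χ hχ ψ ψ.2
  exact ⟨l, Subtype.ext hl⟩

/-- Sum over the twists is the order of the group times the regular part. -/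
theorem sum_twist [Fintype (P →* ℂˣ)] {χ : IrrCharacter G} (hχ : χ ∈ B) (g : G) :
    ∑ l : P →* ℂˣ, (D.twist l χ : G → ℂ) g =
      (Nat.card P : ℂ) * pRegularPart p (χ : G → ℂ) g := by
  rw [← D.starMul_dfun_one hχ, dfun_eq_sum D.cyc, starMul_sum, Finset.mul_sum]
  refine Finset.sum_congr rfl fun l _ => ?_
  rw [D.twist_coe l hχ, show lf l (1 : P)⁻¹ = 1 by simp [lf], mul_one,
    mul_inv_cancel_left₀ (Nat.cast_ne_zero.mpr Nat.card_pos.ne')]

end NilData

end Cfsg.Agent.BlkChar.CyclicDefect
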