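import Cfsg.Agent.BlkChar.CyclicDefect.Nilpotent
import Cfsg.Agent.Lib.CharInd.Basic

/-!
# A block with cyclic defect group and the block of the centralizer of the subgroup of order `p`
-/

set_option autoImplicit false
set_option linter.unusedSectionVars false

namespace Cfsg.Agent.BlkChar.CyclicDefect

open BlocksCore BlocksDefect BC85 BC85.Star
open scoped Classical ComplexConjugate

universe u

section General

variable {G : Type u} [Group G] [Fintype G] {p : ℕ} [Fact p.Prime] {M : Ideal AlgInt}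
  [hP : M.IsPrime]

omit [Fact p.Prime] hP in
/-- Conjugation of a projection. -/
theorem proj_conjPair (x : G) (a : BrauerPairIdx G) (v : G) {F F' : G → ℂ}
    (h : ∀ g, F' g = F (x⁻¹ * g * x)) (s : G) :
    proj (conjPair x a) (x * v * x⁻¹) F' (x * s * x⁻¹) = proj a v F s := by
  refine Fintype.sum_equiv ((Equiv.mulLeft x⁻¹).trans (Equiv.mulRight x)) _ _ fun c => ?_
  simp only [Equiv.trans_apply, Equiv.coe_mulLeft, Equiv.coe_mulRight]
  rw [bp_conjPair, h]
  congr 2
  group

omit [Fact p.Prime] hP in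
theorem proj_sum {ι : Type*} (t : Finset ι) (k : ι → ℂ) (F : ι → G → ℂ) (a : BrauerPairIdx G)
    (v s : G) :
    proj a v (fun g => ∑ i ∈ t, k i * F i g) s = ∑ i ∈ t, k i * proj a v (F i) s := by
  simp only [proj, Finset.mul_sum]
  rw [Finset.sum_comm]
  exact Finset.sum_congr rfl fun i _ => Finset.sum_congr rfl fun c _ => by ring

omit [Fact p.Prime] hP in
theorem proj_sub (F F' : G → ℂ) (a : BrauerPairIdx G) (v s : G) :
    proj a v (fun g => F g - F' g) s = proj a v F s - proj a v F' s := by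
  simp only [proj, mul_sub, Finset.sum_sub_distrib]

variable {H : Subgroup G}

omit [Fact p.Prime] hP in
/-- A projection of a pair and of its exact lift. -/
theorem proj_lift {a' : BrauerPairIdx H} {a : BrauerPairIdx G} (h : IsExactLift a' a)
    (F : G → ℂ) (v s : H) :
    proj a (v : G) F (s : G) = proj a' v (fun x : H => F x) s := by
  rw [proj, proj, ← Finset.sum_filter_add_sum_filter_not Finset.univ (fun c : G => c ∈ H),
    Finset.sum_eq_zero (s := Finset.univ.filter fun c : G => ¬ c ∈ H) (fun c hc => by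
      rw [bp_of_notMem a.1 a.2 fun hc' => (Finset.mem_filter.mp hc).2 (h.1.centLe hc'), zero_mul]),
    add_zero, Finset.sum_subtype (p := fun c => c ∈ H) _ (fun c => by simp)]
  refine Finset.sum_congr (by congr!) fun c _ => ?_
  rw [h.1.coeff]
  rfl

/-- A class function without components outside the block and below the pair vanishes on the
singular elements. -/
theorem eq_zero_of_proj (hM : IsPModular p M) {B : Set (IrrCharacter G)} {P : Subgroup G}
    {e : Set (IrrCharacter (Subgroup.centralizer (P : Set G)))}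
    (hmax : IsMaximalBrauerPair p M B P e) {F : G → ℂ} (hF : IsClassFunction G F)
    (hout : ∀ (v : G) (a : BrauerPairIdx G), (∃ n : ℕ, orderOf v = p ^ n) →
      a ∈ pairsAt M (Subgroup.zpowers v) → ¬ IsBrauerPairOf p M B a.1 a.2 →
      ∀ s : G, Commute v s → ¬ p ∣ orderOf s → proj a v F s = 0)
    (hin : ∀ v ∈ P, v ≠ 1 → ∀ a : BrauerPairIdx G, a.1 = Subgroup.zpowers v →
      Relation.ReflTransGen (NormalSubpairRel p M) a ⟨P, e⟩ →
      ∀ s : G, Commute v s → ¬ p ∣ orderOf s → proj a v F s = 0)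
    {g : G} (hg : p ∣ orderOf g) : F g = 0 := by
  obtain ⟨hcomm, hreg⟩ := regular_inv_pp_mul (p := p) g
  have hord : ∃ n : ℕ, orderOf (pp p g) = p ^ n := (pp_spec (p := p) g).choose_spec.2.2.1
  set v := pp p g with hv
  have hv1 : v ≠ 1 := fun h => hreg (by rwa [h, inv_one, one_mul])
  have h := sum_proj (M := M) hM v F (v⁻¹ * g)
  rw [mul_inv_cancel_left] at h
  rw [← h]
  refine Finset.sum_eq_zero fun a ha => ?_
  by_cases hB : IsBrauerPairOf p M B a.1 a.2
  · obtain ⟨x, hx, hxv⟩ := exists_conj_mem hM hmax (mem_pairsAt.mp ha).1 hB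
    rw [← proj_conjPair x a v (F := F) (F' := F) (fun g => by
      have := hF g x⁻¹; rw [inv_inv] at this; exact this.symm)]
    refine hin _ hxv (fun h1 => hv1 ?_) _ ?_ hx _ ?_ ?_
    · rw [← mul_left_cancel_iff (a := x), mul_one]
      exact mul_inv_eq_one.mp h1
    · rw [conjPair_fst, (mem_pairsAt.mp ha).1, map_conj_zpowers]
    · exact hcomm.map (MulAut.conj x).toMonoidHom
    · rwa [← MulAut.conj_apply, MulEquiv.orderOf_eq]
  · exact hout v a hord ha hB _ hcomm hreg

/-- Combinations of members of a block have no components outside the block. -/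
theorem proj_eq_zero_of_span (hM : IsPModular p M) {B : Set (IrrCharacter G)} (hB : IsPBlock M B)
    {ι : Type*} (t : Finset ι) (k : ι → ℂ) (χ : ι → IrrCharacter G) (hχ : ∀ i ∈ t, χ i ∈ B)
    {v : G} (hv : ∃ n : ℕ, orderOf v = p ^ n) {a : BrauerPairIdx G}
    (ha : a ∈ pairsAt M (Subgroup.zpowers v)) (hnot : ¬ IsBrauerPairOf p M B a.1 a.2) {s : G}
    (hc : Commute v s) (hs : ¬ p ∣ orderOf s) :
    proj a v (fun g => ∑ i ∈ t, k i * (χ i : G → ℂ) g) s = 0 := by
  rw [proj_sum]
  refine Finset.sum_eq_zero fun i hi => ?_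
  rw [proj_eq_zero_of_not_pairOf hM hB (hχ i hi) hv ha hnot
    (s := ⟨s, Subgroup.mem_centralizer_singleton_iff.mpr hc.eq.symm⟩)
    (by rwa [Subgroup.orderOf_mk]), mul_zero]

end General

/-- The data of a block with a non-trivial cyclic defect group and a maximal pair. -/
structure CycData (p : ℕ) [Fact p.Prime] (M : Ideal AlgInt) {G : Type u} [Group G] [Fintype G]
    (B : Set (IrrCharacter G)) (D : Subgroup G)
    (c : Set (IrrCharacter (Subgroup.centralizer (D : Set G)))) : Prop where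
  mod : IsPModular p M
  max : IsMaximalBrauerPair p M B D c
  cyc : IsCyclic D
  ne_bot : D ≠ ⊥

variable {G : Type u} [Group G] [Fintype G] {p : ℕ} [Fact p.Prime] {M : Ideal AlgInt}
  [hP : M.IsPrime] {B : Set (IrrCharacter G)} {D : Subgroup G}
  {c : Set (IrrCharacter (Subgroup.centralizer (D : Set G)))}

namespace CycData

variable (X : CycData p M B D c)
include X

theorem isPGroup : IsPGroup p D := X.max.1.1.1

theorem abelian : ∀ x ∈ D, ∀ y ∈ D, x * y = y * x := fun a ha b hb => by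
  haveI := X.cyc
  letI := IsCyclic.commGroup (α := D)
  exact congrArg Subtype.val (mul_comm (⟨a, ha⟩ : D) ⟨b, hb⟩)

theorem exists_zel : ∃ z ∈ D, orderOf z = p := by
  obtain ⟨k, hk⟩ := IsPGroup.iff_card.mp X.isPGroup
  rcases Nat.eq_zero_or_pos k with rfl | hk0
  · exact absurd (Subgroup.card_eq_one.mp (by simpa using hk)) X.ne_bot
  · obtain ⟨z, hz⟩ := exists_prime_orderOf_dvd_card' (G := D) p (by rw [hk]; exact dvd_pow_self p hk0.ne')
    exact ⟨z, z.2, by rw [Subgroup.orderOf_coe, hz]⟩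

/-- An element of order `p` of the defect group. -/
noncomputable def zel : G := X.exists_zel.choose

theorem zel_mem : X.zel ∈ D := X.exists_zel.choose_spec.1

theorem orderOf_zel : orderOf X.zel = p := X.exists_zel.choose_spec.2

theorem zpowers_zel_le : Subgroup.zpowers X.zel ≤ D := Subgroup.zpowers_le.mpr X.zel_mem

/-- The centralizer of the subgroup of order `p`. -/
noncomputable def H : Subgroup G := Subgroup.centralizer ((Subgroup.zpowers X.zel : Subgroup G) : Set G)

theorem zel_le_zpowers {v : G} (hv : v ∈ D) (hv1 : v ≠ 1) :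
    Subgroup.zpowers X.zel ≤ Subgroup.zpowers v := by
  have hvD : Subgroup.zpowers v ≤ D := Subgroup.zpowers_le.mpr hv
  have hdvd : p ∣ Nat.card (Subgroup.zpowers v) := by
    obtain ⟨k, hk⟩ := IsPGroup.iff_card.mp (X.isPGroup.to_le hvD)
    rcases Nat.eq_zero_or_pos k with rfl | hk0
    · rw [pow_zero, Nat.card_zpowers, orderOf_eq_one_iff] at hk
      exact absurd hk hv1
    · rw [hk]; exact dvd_pow_self p hk0.ne'
  obtain ⟨w, hw⟩ := exists_prime_orderOf_dvd_card' (G := Subgroup.zpowers v) p hdvd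
  have hwv : Subgroup.zpowers (w : G) ≤ Subgroup.zpowers v := Subgroup.zpowers_le.mpr w.2
  have h := eq_of_card_eq_of_le_cyclic X.cyc X.zpowers_zel_le (hwv.trans hvD)
    (by rw [Nat.card_zpowers, Nat.card_zpowers, X.orderOf_zel, Subgroup.orderOf_coe, hw])
  exact h.le.trans hwv

theorem D_le_H : D ≤ X.H := fun u hu => Subgroup.mem_centralizer_iff.mpr fun q hq =>
  X.abelian q (X.zpowers_zel_le hq) u hu

theorem centralizer_le_H : Subgroup.centralizer (D : Set G) ≤ X.H :=
  centralizer_anti X.zpowers_zel_le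

theorem centralizer_zpowers_le_H {v : G} (hv : v ∈ D) (hv1 : v ≠ 1) :
    Subgroup.centralizer ((Subgroup.zpowers v : Subgroup G) : Set G) ≤ X.H :=
  centralizer_anti (X.zel_le_zpowers hv hv1)

theorem free {g : G} (hg : g ∈ stabT D c) {x : G} (hx : x ∈ D) (hx1 : x ≠ 1)
    (h : g * x * g⁻¹ = x) : g ∈ Subgroup.centralizer (D : Set G) :=
  free_of_cyclic X.mod X.max X.cyc hg hx hx1 h

/-- The block of the centralizer below the maximal pair. -/
noncomputable def blk : Set (IrrCharacter X.H) :=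
  (exists_below X.mod X.max.1.1 X.zpowers_zel_le).choose

theorem blk_le : SubpairLE p M (Subgroup.zpowers X.zel) X.blk D c :=
  (exists_below X.mod X.max.1.1 X.zpowers_zel_le).choose_spec

theorem blk_isPBlock : IsPBlock M X.blk := (subpairLE_isBrauerPair X.blk_le X.max.1.1).2

theorem blk_pairOf : IsBrauerPairOf p M B (Subgroup.zpowers X.zel) X.blk :=
  (subpairLE_pairOf_iff X.mod X.blk_le B).mp X.max.1

/-- The defect group inside the centralizer. -/
noncomputable def loc : Subgroup X.H := D.subgroupOf X.H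

theorem exists_cloc : ∃ c' : Set (IrrCharacter (Subgroup.centralizer (X.loc : Set X.H))),
    IsExactLift (⟨X.loc, c'⟩ : BrauerPairIdx X.H) ⟨D, c⟩ ∧ NilData p M X.blk X.loc c' := by
  have hM := X.mod
  have hmax := X.max
  have hab := X.abelian
  have he := hmax.1.1
  have hle := X.blk_le
  have hPC : D ≤ Subgroup.centralizer ((Subgroup.zpowers X.zel : Subgroup G) : Set G) := X.D_le_H
  have hfc : IsDefectGroup p M X.blk ((D ⊓ X.H).subgroupOf X.H) :=
    (fullyCentralized_iff hM (isBlockFusionSystemOn_blockFusion hM hmax) hle).mp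
      ⟨X.zpowers_zel_le, fun R _ => by
        rw [FusionSystem.centralizerIn, FusionSystem.centralizerIn, inf_eq_left.mpr hPC]
        exact Subgroup.card_le_of_le inf_le_left⟩
  rw [inf_eq_left.mpr X.D_le_H] at hfc
  obtain ⟨⟨P', c'⟩, hc', hlift⟩ := exists_exactUnlift (H := X.H) hM ⟨D, c⟩ X.centralizer_le_H
    X.D_le_H he.2
  obtain rfl : P' = X.loc := by
    have h1 : D = P'.map (X.H).subtype := hlift.2
    rw [loc, show D.subgroupOf X.H = (P'.map (X.H).subtype).subgroupOf X.H from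
      congrArg (fun K : Subgroup G => K.subgroupOf X.H) h1, Subgroup.subgroupOf,
      Subgroup.comap_map_eq_self_of_injective (Subgroup.subtype_injective _)]
  obtain ⟨-, -, -, -, -, hsub⟩ := (isNormalSubpair_iff hM).mp
    (normalSubpair_of_below hM he hle (hPC.trans (BlocksCore.centralizer_le_normalizer' _)))
  have hpair : IsBrauerPairOf p M X.blk X.loc c' :=
    (isBrauerPairOf_iff hM).mpr ⟨⟨isPGroup_subgroupOf he.1 _, hc'⟩, X.blk_isPBlock,
      (hlift.1.subset_cset_iff fun x => bp_apply_coe _ X.blk x).mp hsub⟩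
  have hab' : ∀ x ∈ X.loc, ∀ y ∈ X.loc, x * y = y * x := fun x hx y hy =>
    Subtype.ext (hab (x : G) hx (y : G) hy)
  have hmax' : IsMaximalBrauerPair p M X.blk X.loc c' := isMaximal_of_defect hM hfc hpair
  refine ⟨c', hlift, hM, hmax', ?_, (nilpotent_iff_of_abelian hM hmax' hab').mp
    ((nilpotent_local_iff hM hmax hab hle).mpr fun g hg hgQ => ?_)⟩
  · haveI := X.cyc
    exact (Subgroup.subgroupOfEquivOfLe X.D_le_H).isCyclic.mpr inferInstance
  · exact X.free hg X.zel_mem
      (fun h => (Fact.out : p.Prime).one_lt.ne (by rw [← X.orderOf_zel, h, orderOf_one]))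
      (mul_inv_eq_iff_eq_mul.mpr
        (Subgroup.mem_centralizer_iff.mp hgQ X.zel (Subgroup.mem_zpowers _)).symm)

/-- The block of the centralizer of the defect group, read in the centralizer of order `p`. -/
noncomputable def cloc : Set (IrrCharacter (Subgroup.centralizer (X.loc : Set X.H))) :=
  X.exists_cloc.choose

theorem cloc_lift : IsExactLift (⟨X.loc, X.cloc⟩ : BrauerPairIdx X.H) ⟨D, c⟩ :=
  X.exists_cloc.choose_spec.1

theorem nil : NilData p M X.blk X.loc X.cloc := X.exists_cloc.choose_spec.2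

/-- A pair below the maximal one, at a non-trivial element, comes from the centralizer. -/
theorem exists_local {v : X.H} (hv : (v : G) ∈ D) (hv1 : v ≠ 1) {a : BrauerPairIdx G}
    (ha : a.1 = Subgroup.zpowers (v : G))
    (hle : Relation.ReflTransGen (NormalSubpairRel p M) a ⟨D, c⟩) :
    ∃ a' : BrauerPairIdx X.H, a'.1 = Subgroup.zpowers v ∧ IsExactLift a' a ∧
      a' ∈ pairsAt M (Subgroup.zpowers v) ∧
      Relation.ReflTransGen (NormalSubpairRel p M) a' ⟨X.loc, X.cloc⟩ := by
  have hM := X.mod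
  obtain ⟨f', hf'⟩ := exists_below hM X.nil.max.1.1
    (show Subgroup.zpowers v ≤ X.loc from Subgroup.zpowers_le.mpr hv)
  have hmap : (Subgroup.zpowers v).map (X.H).subtype = Subgroup.zpowers (v : G) :=
    MonoidHom.map_zpowers _ v
  have hblk := (subpairLE_isBrauerPair hf' X.nil.max.1.1).2
  obtain ⟨b, hb, hbl⟩ := exists_exactLift hM (⟨Subgroup.zpowers v, f'⟩ : BrauerPairIdx X.H)
    (by rw [hmap]; exact X.centralizer_zpowers_le_H hv (fun h => hv1 (Subtype.ext h))) hblk
  have hble := hbl.subpairLE hM hf' _ X.cloc_lift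
  obtain rfl : b = a := below_eq hM X.max.1.1 hble hle (by rw [hbl.2, hmap, ha])
  exact ⟨_, rfl, hbl, mk_mem_pairsAt hblk, hf'⟩

theorem stabT_le_normalizer : stabT D c ≤ Subgroup.normalizer (Subgroup.zpowers X.zel : Set G) := by
  intro g hg
  have h1 : (Subgroup.zpowers X.zel).map (MulAut.conj g).toMonoidHom ≤ D := fun y hy => by
    obtain ⟨u, hu, rfl⟩ := hy
    exact (Subgroup.mem_normalizer_iff.mp hg.1 u).mp (X.zpowers_zel_le hu)
  have h2 : (Subgroup.zpowers X.zel).map (MulAut.conj g).toMonoidHom = Subgroup.zpowers X.zel :=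
    eq_of_card_eq_of_le_cyclic X.cyc h1 X.zpowers_zel_le (natCard_map_conj _ g)
  refine Subgroup.mem_normalizer_iff.mpr fun x => ?_
  conv_rhs => rw [← h2, mem_map_conj_iff]
  simp [mul_assoc]

theorem stabT_le : stabT D c ≤ stabT (Subgroup.zpowers X.zel) X.blk := fun _ hg =>
  stab_inf_normalizer_le X.mod X.max.1.1 X.blk_le ⟨hg, X.stabT_le_normalizer hg⟩

theorem conj_mem_H {t : G} (ht : t ∈ stabT D c) {x : G} (hx : x ∈ X.H) : t⁻¹ * x * t ∈ X.H := by
  have := (BlocksCore.conj_mem_centralizer_iff (x := x)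
    (Subgroup.inv_mem _ (X.stabT_le_normalizer ht))).mpr hx
  rwa [inv_inv] at this

theorem exists_conjChar (t : stabT D c) {χ : IrrCharacter X.H} (hχ : χ ∈ X.blk) :
    ∃ χ' : IrrCharacter X.H, χ' ∈ X.blk ∧
      ∀ h : X.H, (χ' : X.H → ℂ) h = (χ : X.H → ℂ) ⟨(t : G)⁻¹ * h * t, X.conj_mem_H t.2 h.2⟩ := by
  obtain ⟨χ', hχ', hc⟩ := (mem_stabT_iff.mp (X.stabT_le t.2)).2.2 χ hχ
  exact ⟨χ', hχ', fun h => hc _ h (by show (h : G) = _; group)⟩

/-- The conjugate of a member of the local block. -/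
noncomputable def conjT (t : stabT D c) (χ : IrrCharacter X.H) : IrrCharacter X.H :=
  if h : χ ∈ X.blk then (X.exists_conjChar t h).choose else χ

theorem conjT_mem (t : stabT D c) {χ : IrrCharacter X.H} (hχ : χ ∈ X.blk) :
    X.conjT t χ ∈ X.blk := by
  rw [conjT, dif_pos hχ]
  exact (X.exists_conjChar t hχ).choose_spec.1

theorem conjT_apply (t : stabT D c) {χ : IrrCharacter X.H} (hχ : χ ∈ X.blk) (h : X.H) :
    (X.conjT t χ : X.H → ℂ) h =
      (χ : X.H → ℂ) ⟨(t : G)⁻¹ * h * t, X.conj_mem_H t.2 h.2⟩ := by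
  rw [conjT, dif_pos hχ]
  exact (X.exists_conjChar t hχ).choose_spec.2 h

theorem conjT_mul (s t : stabT D c) {χ : IrrCharacter X.H} (hχ : χ ∈ X.blk) :
    X.conjT s (X.conjT t χ) = X.conjT (s * t) χ := by
  refine Subtype.ext (funext fun h => ?_)
  rw [X.conjT_apply s (X.conjT_mem t hχ), X.conjT_apply t hχ, X.conjT_apply (s * t) hχ]
  refine congrArg (χ : X.H → ℂ) ?_
  exact Subtype.ext (by show (t : G)⁻¹ * ((s : G)⁻¹ * (h : G) * s) * t =
    ((s * t : stabT D c) : G)⁻¹ * h * ((s * t : stabT D c) : G); push_cast; group)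

theorem conjT_of_mem_H (t : stabT D c) (ht : (t : G) ∈ X.H) {χ : IrrCharacter X.H}
    (hχ : χ ∈ X.blk) : X.conjT t χ = χ := by
  refine Subtype.ext (funext fun h => ?_)
  rw [X.conjT_apply t hχ]
  have := irr_class χ h ⟨(t : G)⁻¹, X.H.inv_mem ht⟩
  rw [← this]
  refine congrArg (χ : X.H → ℂ) ?_
  exact Subtype.ext (by
    show (t : G)⁻¹ * (h : G) * t = (t : G)⁻¹ * h * ((t : G)⁻¹)⁻¹
    rw [inv_inv])

/-- The automorphism of the defect group given by an inertial element. -/
noncomputable def locHom (t : stabT D c) : X.loc →* X.loc where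
  toFun x := ⟨⟨(t : G)⁻¹ * ((x : X.H) : G) * t, X.conj_mem_H t.2 (x : X.H).2⟩,
    (Subgroup.mem_normalizer_iff'.mp t.2.1 ((t : G)⁻¹ * ((x : X.H) : G))).mpr (by
      rw [mul_inv_cancel_left]
      exact x.2)⟩
  map_one' := Subtype.ext (Subtype.ext (by simp))
  map_mul' x y := Subtype.ext (Subtype.ext (by simp [mul_assoc]))

theorem locHom_coe (t : stabT D c) (x : X.loc) :
    (((X.locHom t x : X.loc) : X.H) : G) = (t : G)⁻¹ * ((x : X.H) : G) * t := rfl

/-- The conjugate of a linear character of the defect group. -/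
noncomputable def lconj (t : stabT D c) (l : X.loc →* ℂˣ) : X.loc →* ℂˣ := l.comp (X.locHom t)

theorem lconj_apply (t : stabT D c) (l : X.loc →* ℂˣ) (x : X.loc) :
    X.lconj t l x = l (X.locHom t x) := rfl

theorem lconj_mul (s t : stabT D c) (l : X.loc →* ℂˣ) :
    X.lconj s (X.lconj t l) = X.lconj (s * t) l := by
  refine MonoidHom.ext fun x => ?_
  rw [lconj_apply, lconj_apply, lconj_apply]
  congr 1
  exact Subtype.ext (Subtype.ext (by simp [locHom_coe, mul_assoc]))

theorem lconj_of_mem (t : stabT D c) (ht : (t : G) ∈ Subgroup.centralizer (D : Set G))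
    (l : X.loc →* ℂˣ) : X.lconj t l = l := by
  refine MonoidHom.ext fun x => ?_
  rw [lconj_apply]
  congr 1
  refine Subtype.ext (Subtype.ext ?_)
  rw [locHom_coe, mul_assoc, show ((x : X.H) : G) * t = t * ((x : X.H) : G) from
    Subgroup.mem_centralizer_iff.mp ht _ x.2, inv_mul_cancel_left]

/-- A function on the centralizer, extended by zero, at a pair below the maximal one. -/
theorem proj_twist (l : X.loc →* ℂˣ) {χ : IrrCharacter X.H} (hχ : χ ∈ X.blk) {v : X.H}
    (hv : (v : G) ∈ D) (hv1 : v ≠ 1) {a : BrauerPairIdx G} (ha : a.1 = Subgroup.zpowers (v : G))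
    (hle : Relation.ReflTransGen (NormalSubpairRel p M) a ⟨D, c⟩) {s : X.H}
    (hc : Commute v s) (hs : ¬ p ∣ orderOf s) :
    proj a (v : G) (extendByZero X.H (X.nil.twist l χ : X.H → ℂ)) (s : G) =
      (l ⟨v, hv⟩ : ℂ) * proj a (v : G) (extendByZero X.H (χ : X.H → ℂ)) (s : G) := by
  obtain ⟨a', ha', hlift, hmem, hle'⟩ := X.exists_local hv hv1 ha hle
  have hord : ∃ n : ℕ, orderOf v = p ^ n := by
    obtain ⟨n, hn⟩ := IsPGroup.iff_orderOf.mp X.isPGroup ⟨(v : G), hv⟩
    exact ⟨n, by rw [← Subgroup.orderOf_coe, ← hn, Subgroup.orderOf_mk]⟩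
  simp only [proj_lift hlift, CharInd.extendByZero_coe]
  rw [X.nil.twist_coe l hχ, proj_starMul X.mod X.nil.max (X.nil.stable _) (irr_class χ) hord hmem
    (Subgroup.mem_centralizer_singleton_iff.mpr hc.eq.symm) hs,
    etaOf_eq (X.nil.stable _) ha' (x := 1) (by rw [conjPair_one]; exact hle')
      (by rw [inv_one, one_mul, mul_one]; exact hv)]
  congr 2
  simp [lf]

/-- Members of the local block with the same components agree. -/
theorem eq_of_proj {χ ψ : IrrCharacter X.H} (hχ : χ ∈ X.blk) (hψ : ψ ∈ X.blk)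
    (h : ∀ v : X.H, (v : G) ∈ D → v ≠ 1 → ∀ a : BrauerPairIdx G,
      a.1 = Subgroup.zpowers (v : G) → Relation.ReflTransGen (NormalSubpairRel p M) a ⟨D, c⟩ →
      ∀ s : X.H, Commute v s → ¬ p ∣ orderOf s →
        proj a (v : G) (extendByZero X.H (χ : X.H → ℂ)) (s : G) =
          proj a (v : G) (extendByZero X.H (ψ : X.H → ℂ)) (s : G)) : χ = ψ := by
  refine Subtype.ext (funext fun g => ?_)
  by_cases hg : p ∣ orderOf g
  · refine sub_eq_zero.mp (eq_zero_of_proj X.mod X.nil.max
      (F := fun x => (χ : X.H → ℂ) x - (ψ : X.H → ℂ) x)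
      (fun x y => by simp only [irr_class χ x y, irr_class ψ x y]) ?_ ?_ hg)
    · intro v a hv ha hnot s hc hs
      rw [proj_sub,
        proj_eq_zero_of_not_pairOf X.mod X.blk_isPBlock hχ hv ha hnot
          (s := ⟨s, Subgroup.mem_centralizer_singleton_iff.mpr hc.eq.symm⟩)
          (by rwa [Subgroup.orderOf_mk]),
        proj_eq_zero_of_not_pairOf X.mod X.blk_isPBlock hψ hv ha hnot
          (s := ⟨s, Subgroup.mem_centralizer_singleton_iff.mpr hc.eq.symm⟩)
          (by rwa [Subgroup.orderOf_mk]), sub_zero]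
    · intro v hv hv1 a' ha' hle' s hc hs
      have hblk := (subpairLE_isBrauerPair (Q := a'.1) (f := a'.2) hle' X.nil.max.1.1).2
      obtain ⟨a, -, hlift⟩ := exists_exactLift X.mod a' (by
        rw [ha', MonoidHom.map_zpowers]
        exact X.centralizer_zpowers_le_H hv (fun h => hv1 (Subtype.ext h))) hblk
      have h1 := h v hv hv1 a (by rw [hlift.2, ha', MonoidHom.map_zpowers]; rfl)
        (hlift.subpairLE X.mod hle' _ X.cloc_lift) s hc hs
      simp only [proj_lift hlift, CharInd.extendByZero_coe] at h1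
      rw [proj_sub, h1, sub_self]
  · rw [X.nil.regular_eq hψ hχ hg]

/-- Conjugation is semilinear for the twists. -/
theorem conjT_twist (t : stabT D c) (l : X.loc →* ℂˣ) {χ : IrrCharacter X.H} (hχ : χ ∈ X.blk) :
    X.conjT t (X.nil.twist l χ) = X.nil.twist (X.lconj t l) (X.conjT t χ) := by
  refine X.eq_of_proj (X.conjT_mem t (X.nil.twist_mem l hχ))
    (X.nil.twist_mem _ (X.conjT_mem t hχ)) ?_
  intro v hv hv1 a ha hle s hc hs
  have hext : ∀ ψ ∈ X.blk, ∀ g : G, extendByZero X.H (X.conjT t ψ : X.H → ℂ) g =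
      extendByZero X.H (ψ : X.H → ℂ) ((t : G)⁻¹ * g * t) := by
    intro ψ hψ g
    by_cases hg : g ∈ X.H
    · rw [CharInd.extendByZero_mem _ hg, CharInd.extendByZero_mem _ (X.conj_mem_H t.2 hg),
        X.conjT_apply t hψ]
    · rw [CharInd.extendByZero_notMem _ hg, CharInd.extendByZero_notMem]
      intro hg'
      apply hg
      have := X.conj_mem_H (Subgroup.inv_mem _ t.2) hg'
      simpa [mul_assoc] using this
  have htr : ∀ ψ ∈ X.blk, proj a (v : G) (extendByZero X.H (X.conjT t ψ : X.H → ℂ)) (s : G) =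
      proj (conjPair (t : G)⁻¹ a) ((t : G)⁻¹ * v * t) (extendByZero X.H (ψ : X.H → ℂ))
        ((t : G)⁻¹ * s * t) := by
    intro ψ hψ
    have := proj_conjPair (t : G) (conjPair (t : G)⁻¹ a) ((t : G)⁻¹ * v * t)
      (F' := extendByZero X.H (X.conjT t ψ : X.H → ℂ)) (hext ψ hψ) ((t : G)⁻¹ * s * t)
    rw [conjPair_conjPair, mul_inv_cancel, conjPair_one] at this
    rw [← this]
    congr 1 <;> group
  have hvD : (t : G)⁻¹ * v * t ∈ D :=
    (Subgroup.mem_normalizer_iff'.mp t.2.1 ((t : G)⁻¹ * v)).mpr (by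
      rw [mul_inv_cancel_left]; exact hv)
  have ha' : (conjPair (t : G)⁻¹ a).1 = Subgroup.zpowers ((t : G)⁻¹ * v * t) := by
    rw [conjPair_fst, ha, map_conj_zpowers, inv_inv]
  have hle2 : Relation.ReflTransGen (NormalSubpairRel p M) (conjPair (t : G)⁻¹ a) ⟨D, c⟩ := by
    have h := subpairLE_conj X.mod (a := a) (b := ⟨D, c⟩) hle (t : G)⁻¹
    rwa [conjPair_eq_self_iff.mpr (Subgroup.inv_mem _ t.2)] at h
  have hs' : ¬ p ∣ orderOf (⟨(t : G)⁻¹ * s * t, X.conj_mem_H t.2 s.2⟩ : X.H) := by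
    rw [Subgroup.orderOf_mk, show (t : G)⁻¹ * s * t = MulAut.conj (t : G)⁻¹ (s : G) by simp,
      MulEquiv.orderOf_eq, Subgroup.orderOf_coe]
    exact hs
  rw [htr _ (X.nil.twist_mem l hχ), X.proj_twist (X.lconj t l) (X.conjT_mem t hχ) hv hv1 ha hle hc hs,
    htr χ hχ, X.proj_twist l hχ (v := ⟨_, X.conj_mem_H t.2 v.2⟩) hvD (fun h1 => hv1 (Subtype.ext
      (by simpa [mul_assoc, inv_mul_eq_one] using congrArg Subtype.val h1))) ha' hle2
      (s := ⟨_, X.conj_mem_H t.2 s.2⟩) ?_ hs']
  · rfl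
  · refine Subtype.ext ?_
    have e : (v : G) * s = s * v := congrArg Subtype.val hc.eq
    show (t : G)⁻¹ * v * t * ((t : G)⁻¹ * s * t) = (t : G)⁻¹ * s * t * ((t : G)⁻¹ * v * t)
    calc (t : G)⁻¹ * v * t * ((t : G)⁻¹ * s * t) = (t : G)⁻¹ * ((v : G) * s) * t := by group
      _ = _ := by rw [e]; group

/-- An inertial element outside the centralizer moves all of the defect group. -/
theorem surjective_diff (t : stabT D c) (ht : (t : G) ∉ Subgroup.centralizer (D : Set G)) :
    Function.Surjective (fun x : X.loc => x * (X.locHom t x)⁻¹) := by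
  haveI := X.nil.cyc
  refine Finite.injective_iff_surjective.mp fun x y h => ?_
  change x * (X.locHom t x)⁻¹ = y * (X.locHom t y)⁻¹ at h
  letI := IsCyclic.commGroup (α := X.loc)
  have h2 : X.locHom t (x * y⁻¹) = x * y⁻¹ := by
    rw [map_mul, map_inv, ← div_eq_mul_inv, ← div_eq_mul_inv, div_eq_div_iff_mul_eq_mul]
    rw [← div_eq_mul_inv, ← div_eq_mul_inv, div_eq_div_iff_mul_eq_mul] at h
    rw [h, mul_comm]
  by_contra hxy
  refine ht ?_
  rw [← inv_inv (t : G)]
  refine Subgroup.inv_mem _ (X.free (Subgroup.inv_mem _ t.2) (x * y⁻¹).2 (fun h1 => hxy ?_) ?_)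
  · exact mul_inv_eq_one.mp (Subtype.ext (Subtype.ext h1))
  · rw [inv_inv]
    exact congrArg (fun w : X.loc => ((w : X.H) : G)) h2

/-- The inertial quotient acts freely on the non-trivial linear characters. -/
theorem lconj_free (t : stabT D c) {l : X.loc →* ℂˣ} (hl : l ≠ 1) (h : X.lconj t l = l) :
    (t : G) ∈ Subgroup.centralizer (D : Set G) := by
  by_contra ht
  refine hl (MonoidHom.ext fun w => ?_)
  obtain ⟨x, rfl⟩ := X.surjective_diff t ht w
  rw [map_mul, map_inv, ← X.lconj_apply, h, mul_inv_cancel, MonoidHom.one_apply]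

/-- A member of the local block fixed by the inertial group. -/
theorem exists_fixed : ∃ χ ∈ X.blk, ∀ t : stabT D c, X.conjT t χ = χ := by
  have : ((Subgroup.centralizer (D : Set G)).subgroupOf (stabT D c)).Normal :=
    Subgroup.normal_subgroupOf_of_le_normalizer
      ((inf_le_left : stabT D c ≤ _).trans (normalizer_le_normalizer_centralizer D))
  have := (cyclic_inertia X.mod X.max X.cyc X.ne_bot).1
  obtain ⟨q, hq⟩ := IsCyclic.exists_generator
    (α := stabT D c ⧸ (Subgroup.centralizer (D : Set G)).subgroupOf (stabT D c))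
  obtain ⟨t0, rfl⟩ := QuotientGroup.mk_surjective q
  obtain ⟨χ1, hχ1⟩ := isPBlock_nonempty X.blk_isPBlock
  suffices ∃ χ ∈ X.blk, X.conjT t0 χ = χ by
    obtain ⟨χ, hχ, hfix⟩ := this
    refine ⟨χ, hχ, fun t => ?_⟩
    let S : Subgroup (stabT D c) :=
      { carrier := {t | X.conjT t χ = χ}
        one_mem' := X.conjT_of_mem_H 1 (one_mem _) hχ
        mul_mem' := fun {a b} ha hb => by
          show X.conjT (a * b) χ = χ
          rw [← X.conjT_mul a b hχ, show X.conjT b χ = χ from hb]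
          exact ha
        inv_mem' := fun {a} ha => by
          show X.conjT a⁻¹ χ = χ
          conv_lhs => rw [← show X.conjT a χ = χ from ha, X.conjT_mul _ _ hχ, inv_mul_cancel]
          exact X.conjT_of_mem_H 1 (one_mem _) hχ }
    have ht0 : t0 ∈ S := hfix
    obtain ⟨k, hk⟩ := Subgroup.mem_zpowers_iff.mp (hq (t : stabT D c ⧸ _))
    rw [← QuotientGroup.mk_zpow, QuotientGroup.eq] at hk
    have : (t0 ^ k)⁻¹ * t ∈ S := X.conjT_of_mem_H _ (X.centralizer_le_H (Subgroup.mem_subgroupOf.mp hk)) hχ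
    have h2 := S.mul_mem (S.zpow_mem ht0 k) this
    rwa [mul_inv_cancel_left] at h2
  by_cases ht0 : (t0 : G) ∈ Subgroup.centralizer (D : Set G)
  · exact ⟨χ1, hχ1, X.conjT_of_mem_H t0 (X.centralizer_le_H ht0) hχ1⟩
  haveI := X.nil.cyc
  haveI := finite_lin (P := X.loc)
  obtain ⟨μ, hμ, -⟩ := X.nil.torsor χ1 hχ1 _ (X.conjT_mem t0 hχ1)
  have hsurj := X.surjective_diff t0 ht0
  have hinj : Function.Injective fun l : X.loc →* ℂˣ => l / X.lconj t0 l := by
    intro l m h
    refine MonoidHom.ext fun w => ?_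
    obtain ⟨x, rfl⟩ := hsurj w
    have h1 := DFunLike.congr_fun h x
    simp only [MonoidHom.div_apply, lconj_apply] at h1
    simpa [map_mul, map_inv, div_eq_mul_inv] using h1
  obtain ⟨l, hl⟩ := Finite.injective_iff_surjective.mp hinj μ
  refine ⟨X.nil.twist l χ1, X.nil.twist_mem l hχ1, ?_⟩
  rw [X.conjT_twist t0 l hχ1, ← hμ, X.nil.twist_twist _ _ hχ1]
  congr 1
  rw [← hl]
  exact MonoidHom.ext fun x => by simp

end CycData

end Cfsg.Agent.BlkChar.CyclicDefect
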