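import Cfsg.Agent.BlkChar.CyclicDefect.Lattice
import Cfsg.Agent.BlkChar.CyclicDefect.Local
import Cfsg.Agent.Lib.BlocksCore.CyclicCount
import Cfsg.Agent.Lib.BlocksCore.DefectZero
import Cfsg.Agent.Lib.BlocksCore.Height

/-!
# The characters of a block with cyclic defect group
-/

set_option autoImplicit false
set_option linter.unusedSectionVars false

namespace Cfsg.Agent.BlkChar.CyclicDefect

open BlocksCore BlocksDefect BC85
open scoped Classical ComplexConjugate

universe u

variable {G : Type u} [Group G] [Fintype G] {p : ℕ} [Fact p.Prime] {M : Ideal AlgInt}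
  [hP : M.IsPrime]

/-- A generalized character vanishing at the non-trivial elements of a subgroup has its value at
the identity divisible by the order. -/
theorem exists_dvd_of_vanishes {F : G → ℂ} (hF : IsGeneralizedCharacter G F) (Q : Subgroup G)
    (h0 : ∀ q ∈ Q, q ≠ 1 → F q = 0) : ∃ k : ℤ, F 1 = (Nat.card Q : ℂ) * k := by
  obtain ⟨k, hk⟩ := CharCore.IsGeneralizedCharacter.exists_classInner_eq_intCast
    (CharCore.isGeneralized_restrict hF Q)
    (CharCore.IsCharacter.isGeneralized (CharCore.isCharacter_one (G := Q)))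
  rw [CharCore.classInner_def, Finset.sum_eq_single (1 : Q)
    (fun q _ hq => by rw [h0 q q.2 fun h => hq (Subtype.ext h), zero_mul])
    (fun h => absurd (Finset.mem_univ _) h), inv_mul_eq_iff_eq_mul₀
    (Nat.cast_ne_zero.mpr Nat.card_pos.ne')] at hk
  exact ⟨k, by simpa using hk⟩

namespace CycData

variable {B : Set (IrrCharacter G)} {D : Subgroup G}
  {c : Set (IrrCharacter (Subgroup.centralizer (D : Set G)))} (X : CycData p M B D c)
include X

/-- Induced differences of conjugate linear characters agree. -/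
theorem vind_lconj (t : stabT D c) (l : X.loc →* ℂˣ) : X.vind (X.lconj t l) = X.vind l := by
  funext g
  rw [vind, vind, CharInd.indFun_apply, CharInd.indFun_apply]
  congr 1
  refine Fintype.sum_equiv (Equiv.mulRight (t : G)) _ _ fun x => ?_
  rw [Equiv.coe_mulRight, show (x * (t : G))⁻¹ * g * (x * t) = (t : G)⁻¹ * (x⁻¹ * g * x) * t by group]
  by_cases hm : x⁻¹ * g * x ∈ X.H
  · rw [CharInd.extendByZero_mem _ hm, CharInd.extendByZero_mem _ (X.conj_mem_H t.2 hm),
      vfun_apply, vfun_apply]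
    have h1 := X.conjT_apply t (X.nil.twist_mem l X.χ0_mem) ⟨_, hm⟩
    have h2 := X.conjT_apply t X.χ0_mem ⟨_, hm⟩
    rw [X.conjT_twist t l X.χ0_mem, X.χ0_fixed] at h1
    rw [X.χ0_fixed] at h2
    rw [h1, ← h2]
  · rw [CharInd.extendByZero_notMem _ hm, CharInd.extendByZero_notMem]
    intro h
    apply hm
    have := X.conj_mem_H (Subgroup.inv_mem _ t.2) h
    simpa [mul_assoc] using this

theorem card_stabT : Nat.card (stabT D c) =
    X.ei * Nat.card (Subgroup.centralizer (D : Set G)) := by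
  have hCT : Subgroup.centralizer (D : Set G) ≤ stabT D c := le_sup_right.trans (le_stabT D c)
  rw [← Subgroup.card_mul_index ((Subgroup.centralizer (D : Set G)).subgroupOf (stabT D c)),
    Nat.card_congr (Subgroup.subgroupOfEquivOfLe hCT).toEquiv, mul_comm]
  rfl

theorem lconj_one (l : X.loc →* ℂˣ) : X.lconj 1 l = l := X.lconj_of_mem 1 (one_mem _) l

theorem lconj_ne_one (t : stabT D c) {l : X.loc →* ℂˣ} (hl : l ≠ 1) : X.lconj t l ≠ 1 := by
  intro h
  apply hl
  have h1 := congrArg (X.lconj t⁻¹) h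
  rw [X.lconj_mul, inv_mul_cancel, X.lconj_one] at h1
  rw [h1]
  exact MonoidHom.ext fun x => rfl

theorem card_fix {l m : X.loc →* ℂˣ} {t0 : stabT D c} (hm : m ≠ 1) (h0 : X.lconj t0 m = l) :
    (Finset.univ.filter fun t : stabT D c => X.lconj t m = l).card =
      Nat.card (Subgroup.centralizer (D : Set G)) := by
  have hCT : Subgroup.centralizer (D : Set G) ≤ stabT D c := le_sup_right.trans (le_stabT D c)
  rw [Nat.card_eq_fintype_card, ← Finset.card_univ]
  symm
  refine Finset.card_bij (fun w _ => t0 * ⟨(w : G), hCT w.2⟩) (fun w _ => ?_)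
    (fun a _ b _ h => Subtype.ext (congrArg (fun z : stabT D c => (z : G)) (mul_left_cancel h)))
    fun t ht => ?_
  · simp only [Finset.mem_filter, Finset.mem_univ, true_and]
    rw [← X.lconj_mul, X.lconj_of_mem ⟨(w : G), hCT w.2⟩ w.2, h0]
  · simp only [Finset.mem_filter, Finset.mem_univ, true_and] at ht
    have h1 : X.lconj (t0⁻¹ * t) m = m := by
      rw [← X.lconj_mul, ht, ← h0, X.lconj_mul, inv_mul_cancel, X.lconj_one]
    exact ⟨⟨_, X.lconj_free _ hm h1⟩, Finset.mem_univ _,
      Subtype.ext (by show (t0 : G) * ((t0⁻¹ * t : stabT D c) : G) = t; push_cast; group)⟩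

theorem card_orbit [Fintype (X.loc →* ℂˣ)] {l : X.loc →* ℂˣ} (hl : l ≠ 1) :
    (Finset.univ.image fun t : stabT D c => X.lconj t l).card = X.ei := by
  have h := Finset.card_eq_sum_card_image (fun t : stabT D c => X.lconj t l) Finset.univ
  rw [Finset.sum_congr rfl fun m hm => by
    obtain ⟨t0, -, ht0⟩ := Finset.mem_image.mp hm
    exact X.card_fix hl ht0, Finset.sum_const, Finset.card_univ, ← Nat.card_eq_fintype_card,
    X.card_stabT, smul_eq_mul] at h
  exact (Nat.eq_of_mul_eq_mul_right Nat.card_pos h).symm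

/-- Representatives of the non-trivial linear characters under the inertial group. -/
structure Reps (R : Finset (X.loc →* ℂˣ)) : Prop where
  ne_one : ∀ l ∈ R, l ≠ 1
  exists_rep : ∀ l : X.loc →* ℂˣ, l ≠ 1 → ∃ t, X.lconj t l ∈ R
  eq_of : ∀ l ∈ R, ∀ m ∈ R, ∀ t, X.lconj t m = l → m = l
  card : R.card * X.ei + 1 = Nat.card D
  pos : 0 < R.card

theorem exists_reps : ∃ R : Finset (X.loc →* ℂˣ), X.Reps R := by
  haveI := X.nil.cyc
  haveI := finite_lin (P := X.loc)
  letI := Fintype.ofFinite (X.loc →* ℂˣ)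
  let s : Setoid (X.loc →* ℂˣ) := ⟨fun l m => ∃ t, X.lconj t l = m,
    fun l => ⟨1, X.lconj_one l⟩,
    fun {l m} ⟨t, h⟩ => ⟨t⁻¹, by rw [← h, X.lconj_mul, inv_mul_cancel, X.lconj_one]⟩,
    fun {l m n} ⟨t, h⟩ ⟨t', h'⟩ => ⟨t' * t, by rw [← h', ← h, X.lconj_mul]⟩⟩
  set S := Finset.univ.filter fun l : X.loc →* ℂˣ => l ≠ 1 with hS
  let g : (X.loc →* ℂˣ) → X.loc →* ℂˣ := fun l => (Quotient.mk s l).out
  have hrel : ∀ l, ∃ t, X.lconj t l = g l := fun l => by
    obtain ⟨t, ht⟩ := Quotient.mk_out (s := s) l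
    exact ⟨t⁻¹, (congrArg (X.lconj t⁻¹) ht.symm).trans
      (by rw [X.lconj_mul, inv_mul_cancel, X.lconj_one])⟩
  have hg : ∀ t l, g (X.lconj t l) = g l := fun t l =>
    congrArg Quotient.out (Quotient.sound (s := s) ⟨t⁻¹, by
      rw [X.lconj_mul, inv_mul_cancel, X.lconj_one]⟩)
  have hgg : ∀ l, g (g l) = g l := fun l => by
    obtain ⟨t, ht⟩ := hrel l
    exact (congrArg g ht.symm).trans (hg t l)
  have hne : ∀ l ∈ S.image g, l ≠ 1 ∧ g l = l := by
    intro l hl
    obtain ⟨l', hl', rfl⟩ := Finset.mem_image.mp hl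
    obtain ⟨t, ht⟩ := hrel l'
    exact ⟨ht ▸ X.lconj_ne_one t (Finset.mem_filter.mp hl').2, hgg l'⟩
  have hcardS : S.card + 1 = Nat.card D := by
    rw [hS, Finset.filter_ne', Finset.card_erase_of_mem (Finset.mem_univ _), Finset.card_univ,
      ← Nat.card_eq_fintype_card, card_lin X.nil.cyc,
      loc, Nat.card_congr (Subgroup.subgroupOfEquivOfLe X.D_le_H).toEquiv]
    exact Nat.sub_add_cancel Nat.card_pos
  have hcard : (S.image g).card * X.ei + 1 = Nat.card D := by
    rw [← hcardS, Finset.card_eq_sum_card_image g S]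
    congr 1
    rw [← smul_eq_mul, ← Finset.sum_const]
    refine Finset.sum_congr rfl fun l hl => ?_
    rw [← X.card_orbit (hne l hl).1]
    congr 1
    ext m
    simp only [Finset.mem_image, Finset.mem_univ, true_and, Finset.mem_filter, hS]
    constructor
    · rintro ⟨t, rfl⟩
      exact ⟨X.lconj_ne_one t (hne l hl).1, by rw [hg, (hne l hl).2]⟩
    · rintro ⟨-, h⟩
      obtain ⟨t, ht⟩ := hrel m
      exact ⟨t⁻¹, by rw [← h, ← ht, X.lconj_mul, inv_mul_cancel, X.lconj_one]⟩
  refine ⟨S.image g, fun l hl => (hne l hl).1, fun l hl => ?_, fun l hl m hm t h => ?_, hcard, ?_⟩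
  · obtain ⟨t, ht⟩ := hrel l
    exact ⟨t, ht ▸ Finset.mem_image_of_mem g (Finset.mem_filter.mpr ⟨Finset.mem_univ _, hl⟩)⟩
  · rw [← (hne l hl).2, ← (hne m hm).2, ← h, hg]
  · refine Nat.pos_of_ne_zero fun h0 => X.ne_bot ((Subgroup.card_eq_one).mp ?_)
    rw [← hcard, h0, zero_mul]

theorem classInner_vind_reps {R : Finset (X.loc →* ℂˣ)} (hR : X.Reps R) {l m : X.loc →* ℂˣ}
    (hl : l ∈ R) (hm : m ∈ R) :
    classInner (X.vind l) (X.vind m) = (if l = m then 1 else 0) + (X.ei : ℂ) := by
  have h := X.classInner_vind l m (hR.ne_one l hl) (hR.ne_one m hm)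
  have hC : (Nat.card (Subgroup.centralizer (D : Set G)) : ℂ) ≠ 0 :=
    Nat.cast_ne_zero.mpr Nat.card_pos.ne'
  refine mul_left_cancel₀ hC (h.trans ?_)
  rw [X.card_stabT, mul_add, Nat.cast_mul, mul_comm (X.ei : ℂ)]
  congr 1
  split_ifs with hlm
  · rw [X.card_fix (hR.ne_one m hm) (t0 := 1) (by rw [X.lconj_one, hlm]), mul_one]
  · rw [Finset.card_eq_zero.mpr (Finset.filter_eq_empty_iff.mpr fun t _ ht =>
      hlm (hR.eq_of l hl m hm t ht).symm), Nat.cast_zero, mul_zero]

/-- The multiplicity of a character in an induced difference. -/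
noncomputable def coef (l : X.loc →* ℂˣ) (χ : IrrCharacter G) : ℤ :=
  (CharCore.IsGeneralizedCharacter.exists_classInner_irr_eq_intCast (X.vind_gen l) χ).choose

theorem coef_spec (l : X.loc →* ℂˣ) (χ : IrrCharacter G) :
    classInner (X.vind l) (χ : G → ℂ) = (X.coef l χ : ℂ) :=
  (CharCore.IsGeneralizedCharacter.exists_classInner_irr_eq_intCast (X.vind_gen l) χ).choose_spec

theorem vind_eq_sum [Fintype (IrrCharacter G)] (l : X.loc →* ℂˣ) (g : G) :
    X.vind l g = ∑ χ : IrrCharacter G, (X.coef l χ : ℂ) * (χ : G → ℂ) g := by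
  have h := congrFun (CharCore.eq_sum_classInner
    (CharCore.IsGeneralizedCharacter.isClassFunction (X.vind_gen l))) g
  simp only [Finset.sum_apply, Pi.smul_apply, smul_eq_mul, X.coef_spec] at h
  rw [h]
  exact Finset.sum_congr (by congr!) fun χ _ => rfl

theorem classInner_irr_vind (χ : IrrCharacter G) (l : X.loc →* ℂˣ) :
    classInner (χ : G → ℂ) (X.vind l) = (X.coef l χ : ℂ) := by
  rw [← map_intCast (starRingEnd ℂ) (X.coef l χ), ← X.coef_spec, classInner, classInner, map_mul, map_inv₀,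
    map_natCast, map_sum]
  congr 1
  exact Finset.sum_congr rfl fun g _ => by rw [map_mul, Complex.conj_conj, mul_comm]

/-- Every member of the block occurs in an induced difference. -/
theorem exists_coef_ne {R : Finset (X.loc →* ℂˣ)} (hR : X.Reps R) {χ : IrrCharacter G}
    (hχ : χ ∈ B) : ∃ l ∈ R, X.coef l χ ≠ 0 := by
  by_contra h
  push Not at h
  have hv : ∀ g : G, p ∣ orderOf g → (χ : G → ℂ) g = 0 := by
    intro g hg
    have := X.eq_zero_of_orth {χ} (fun _ => 1) id (fun i hi => by
      rw [Finset.mem_singleton.mp hi]; exact hχ) (fun l hl => ?_) hg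
    · simpa using this
    · obtain ⟨t, ht⟩ := hR.exists_rep l hl
      simp only [Finset.sum_singleton, one_mul, id]
      rw [← X.vind_lconj t l, X.classInner_irr_vind, h _ ht, Int.cast_zero]
  have hnd : ¬ p ∣ Nat.card G / charDegree (χ : G → ℂ) :=
    not_dvd_of_vanishes χ fun g hg ⟨k, hk⟩ => hv g (by
      rcases Nat.eq_zero_or_pos k with rfl | hk0
      · exact absurd (orderOf_eq_one_iff.mp (by simpa using hk)) hg
      · exact hk ▸ dvd_pow_self p hk0.ne')
  have hBs : B = {χ} := by
    rw [isPBlock_eq_blockOf X.blockB hχ]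
    exact blockOf_eq_singleton_of_not_dvd X.mod χ hnd
  obtain ⟨l, hl⟩ := Finset.card_pos.mp hR.pos
  have hfin := finite_irr (G := G)
  letI := Fintype.ofFinite (IrrCharacter G)
  have hz : ∀ θ : IrrCharacter G, X.coef l θ = 0 := by
    intro θ
    by_cases hθ : θ ∈ B
    · rw [hBs] at hθ
      rw [hθ, h l hl]
    · have h1 := (X.coef_spec l θ).symm.trans (X.classInner_vind_of_notMem l hθ)
      exact_mod_cast h1
  have h0 : X.vind l = 0 := funext fun g => by
    rw [X.vind_eq_sum l g]
    simp [hz]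
  have h1 := X.classInner_vind_reps hR hl hl
  rw [h0, CharCore.classInner_zero_left, if_pos rfl] at h1
  have h2 : (1 + X.ei : ℕ) = 0 := by exact_mod_cast h1.symm
  omega

/-- The Brauer tree data: exceptional members, signs, and the induced differences. -/
structure Tree (R : Finset (X.loc →* ℂˣ)) (f : (X.loc →* ℂˣ) → IrrCharacter G)
    (δ : IrrCharacter G → ℤ) (ε : ℤ) : Prop where
  reps : X.Reps R
  sign : ε = 1 ∨ ε = -1
  inj : ∀ l ∈ R, ∀ m ∈ R, f l = f m → l = m
  mem : ∀ l ∈ R, f l ∈ B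
  coef_exc : ∀ l ∈ R, ∀ m ∈ R, X.coef l (f m) = if l = m then ε else 0
  coef_nonexc : ∀ χ ∈ B, (∀ l ∈ R, f l ≠ χ) →
    (δ χ = 1 ∨ δ χ = -1) ∧ ∀ l ∈ R, X.coef l χ = δ χ
  card : Nat.card B = X.ei + R.card
  rank : blockRank p B = X.ei

theorem exists_tree_of_reps {R : Finset (X.loc →* ℂˣ)} (hR : X.Reps R) :
    ∃ f δ ε, X.Tree R f δ ε := by
  have hfin := finite_irr (G := G)
  letI := Fintype.ofFinite (IrrCharacter G)
  haveI : Nonempty R := (Finset.card_pos.mp hR.pos).to_subtype
  set v : R → IrrCharacter G → ℤ := fun i χ => X.coef i χ with hv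
  set Bs := B.toFinset with hBs
  have hBcard : Bs.card = Nat.card B := by rw [hBs, Set.toFinset_card, Nat.card_eq_fintype_card]
  have hgram : ∀ i j, ∑ χ, v i χ * v j χ = (if i = j then 1 else 0) + (X.ei : ℤ) := by
    intro i j
    have h := X.classInner_vind_reps hR i.2 j.2
    rw [CharCore.classInner_eq_sum
      (CharCore.IsGeneralizedCharacter.isClassFunction (X.vind_gen i))
      (CharCore.IsGeneralizedCharacter.isClassFunction (X.vind_gen j))] at h
    simp only [X.coef_spec, map_intCast] at h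
    refine Int.cast_injective (α := ℂ) ?_
    push_cast
    simp only [hv]
    rw [← h.trans (congrArg (· + (X.ei : ℂ)) (if_congr Subtype.ext_iff.symm rfl rfl))]
  have hoff : ∀ i χ, χ ∉ Bs → v i χ = 0 := by
    intro i χ hχ
    have h1 := (X.coef_spec i χ).symm.trans
      (X.classInner_vind_of_notMem i fun h => hχ (Set.mem_toFinset.mpr h))
    simp only [hv]
    exact_mod_cast h1
  have hsum : ∀ (i : R) (g : G), X.vind i g = ∑ χ ∈ Bs, (v i χ : ℂ) * (χ : G → ℂ) g := by
    intro i g
    rw [X.vind_eq_sum]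
    exact (Finset.sum_subset (Finset.subset_univ Bs) fun χ _ hχ => by
      rw [show X.coef i χ = 0 from hoff i χ hχ, Int.cast_zero, zero_mul]).symm
  have h1reg : ¬ p ∣ orderOf (1 : G) := by rw [orderOf_one]; exact (Fact.out : p.Prime).not_dvd_one
  have hdeg : ∀ i, ∑ χ : IrrCharacter G, (charDegree (χ : G → ℂ) : ℤ) * v i χ = 0 := by
    intro i
    refine Int.cast_injective (α := ℂ) ?_
    push_cast
    rw [← X.vind_regular i h1reg, X.vind_eq_sum]
    exact Finset.sum_congr rfl fun χ _ => by rw [irr_one_eq, mul_comm]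
  -- the rank is at most the members minus the differences
  let L := Fintype.linearCombination ℂ
    (fun χ : B => pRegularPart p ((χ : IrrCharacter G) : G → ℂ))
  have hrange : blockRank p B = Module.finrank ℂ L.range := by
    rw [blockRank, Fintype.range_linearCombination, Set.image_eq_range]
  let w : R → B → ℂ := fun i χ => (v i χ : ℂ)
  have hsumB : ∀ F : IrrCharacter G → ℂ, ∑ χ : B, F χ = ∑ χ ∈ Bs, F χ := fun F =>
    (Finset.sum_subtype Bs (fun χ => Set.mem_toFinset) F).symm
  have hwker : ∀ i, w i ∈ L.ker := by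
    intro i
    rw [LinearMap.mem_ker, Fintype.linearCombination_apply]
    funext g
    simp only [Finset.sum_apply, Pi.smul_apply, smul_eq_mul, w, Pi.zero_apply]
    by_cases hg : p ∣ orderOf g
    · exact Finset.sum_eq_zero fun χ _ => by rw [BC85.pRegularPart_neg hg, mul_zero]
    · rw [Finset.sum_congr rfl fun (χ : B) _ => by rw [BC85.pRegularPart_pos hg],
        hsumB (fun χ => (v i χ : ℂ) * (χ : G → ℂ) g), ← hsum, X.vind_regular i hg]
  have hli : LinearIndependent ℂ w := by
    refine Fintype.linearIndependent_iff.mpr fun a ha => ?_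
    have hj : ∀ j : R, a j + (X.ei : ℂ) * ∑ i, a i = 0 := by
      intro j
      have h0 : ∑ χ ∈ Bs, (∑ i, a i * (v i χ : ℂ)) * (v j χ : ℂ) = 0 := by
        rw [← hsumB (fun χ => (∑ i, a i * (v i χ : ℂ)) * (v j χ : ℂ))]
        refine Finset.sum_eq_zero fun χ _ => ?_
        have := congrFun ha χ
        simp only [Finset.sum_apply, Pi.smul_apply, smul_eq_mul, w, Pi.zero_apply] at this
        rw [this, zero_mul]
      simp only [Finset.sum_mul] at h0
      rw [Finset.sum_comm, Finset.sum_congr rfl fun i _ => show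
        ∑ χ ∈ Bs, a i * (v i χ : ℂ) * (v j χ : ℂ) = a i * ((if i = j then 1 else 0) + X.ei) from by
          rw [Finset.sum_subset (Finset.subset_univ Bs) fun χ _ hχ => by
            rw [hoff i χ hχ, Int.cast_zero, mul_zero, zero_mul]]
          simp only [mul_assoc, ← Finset.mul_sum]
          congr 1
          have := congrArg (fun z : ℤ => (z : ℂ)) (hgram i j)
          push_cast at this
          exact this] at h0
      simp only [mul_add, Finset.sum_add_distrib, ← Finset.sum_mul, mul_ite, mul_one, mul_zero,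
        Finset.sum_ite_eq', Finset.mem_univ, if_true] at h0
      linear_combination h0
    have hs : (∑ i, a i) * (1 + (R.card : ℂ) * X.ei) = 0 := by
      have := Finset.sum_eq_zero (s := (Finset.univ : Finset R)) fun j _ => hj j
      rw [Finset.sum_add_distrib, Finset.sum_const, Finset.card_univ, Fintype.card_coe,
        nsmul_eq_mul] at this
      linear_combination this
    have hs0 : ∑ i, a i = 0 := (mul_eq_zero.mp hs).resolve_right fun h => by
      have : (1 + R.card * X.ei : ℕ) = 0 := by exact_mod_cast h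
      omega
    intro j
    have h := hj j
    rwa [hs0, mul_zero, add_zero] at h
  have hdim : blockRank p B + R.card ≤ Nat.card B := by
    have h1 : Fintype.card R ≤ Module.finrank ℂ L.ker :=
      (LinearIndependent.of_comp L.ker.subtype (v := fun i => (⟨w i, hwker i⟩ : L.ker))
        hli).fintype_card_le_finrank
    have h2 := LinearMap.finrank_range_add_finrank_ker L
    rw [Module.finrank_fintype_fun_eq_card, ← hrange, ← Nat.card_eq_fintype_card] at h2
    rw [Fintype.card_coe] at h1
    omega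
  have hlow := X.ei_le_blockRank
  obtain ⟨f, δ, ε, hε, hinj, hfB, hvf, hcx, hcard⟩ := CyclicCount.shape Bs
    (fun χ => (charDegree (χ : G → ℂ) : ℤ)) (fun χ => by exact_mod_cast charDegree_pos χ) v X.ei
    hgram hdeg hoff (fun χ hχ => by
      obtain ⟨l, hl, h⟩ := X.exists_coef_ne hR (Set.mem_toFinset.mp hχ)
      exact ⟨⟨l, hl⟩, h⟩)
    (by rw [Fintype.card_coe, hBcard]; omega)
  obtain ⟨i0⟩ : Nonempty R := inferInstance
  refine ⟨fun l => if h : l ∈ R then f ⟨l, h⟩ else f i0, δ, ε, hR, hε, ?_, ?_, ?_, ?_, ?_, ?_⟩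
  · intro l hl m hm h
    simp only [dif_pos hl, dif_pos hm] at h
    exact congrArg Subtype.val (hinj h)
  · intro l hl
    simp only [dif_pos hl]
    exact Set.mem_toFinset.mp (hfB _)
  · intro l hl m hm
    simp only [dif_pos hm]
    exact (hvf ⟨l, hl⟩ ⟨m, hm⟩).trans (if_congr Subtype.ext_iff rfl rfl)
  · intro χ hχ hne
    obtain ⟨h1, h2⟩ := hcx χ (Set.mem_toFinset.mpr hχ) fun i => by
      have := hne i i.2
      simpa using this
    exact ⟨h1, fun l hl => h2 ⟨l, hl⟩⟩
  · rw [← hBcard, hcard, Fintype.card_coe]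
  · rw [← hBcard, hcard, Fintype.card_coe] at hdim
    omega

theorem exists_tree : ∃ R f δ ε, X.Tree R f δ ε := by
  obtain ⟨R, hR⟩ := X.exists_reps
  exact ⟨R, X.exists_tree_of_reps hR⟩

end CycData

end Cfsg.Agent.BlkChar.CyclicDefect
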