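import Cfsg.Agent.BlkChar.CyclicDefect.Center
import Cfsg.Agent.BlkChar.CyclicDefect.Modular

/-!
# The structure of a nilpotent block algebra with cyclic defect group

The block algebra over the residue field is a matrix algebra over a truncated polynomial algebra.
-/

set_option autoImplicit false
set_option linter.unusedSectionVars false

namespace Cfsg.Agent.BlkChar.CyclicDefect

open BlocksCore BlocksDefect BC85 BC85.Star
open scoped Classical ComplexConjugate
local notation "𝕜" => BlocksDefect.Res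

universe u

section Abstract

variable {K A : Type*} [Field K] [Ring A] [Algebra K A]

/-- The block cut out by `ε` is the algebra of matrices of size `n` over `K[π]/(π ^ N)`. -/
structure Shape (ε π : A) (N n : ℕ) [NeZero n] (R : A →ₐ[K] Matrix (Fin n) (Fin n) K) (f : A)
    (U V : Fin n → A) : Prop where
  idem : ε * ε = ε
  comm : ∀ a, ε * a = a * ε
  piComm : ∀ a, π * a = a * π
  piEps : ε * π = π
  piN : π ^ N = 0
  pos : 0 < N
  surj : Function.Surjective R
  map_eps : R ε = 1
  ff : f * f = f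
  εf : ε * f = f
  map_f : R f = Matrix.single 0 0 1
  map_U : ∀ a, R (U a) = Matrix.single a 0 1
  map_V : ∀ a, R (V a) = Matrix.single 0 a 1
  Uf : ∀ a, U a * f = U a
  fV : ∀ a, f * V a = V a
  εU : ∀ a, ε * U a = U a
  Vε : ∀ a z, V a * (ε * z) = V a * z
  UV : ∑ a, U a * V a = ε
  VU : ∀ a b, V a * U b = if a = b then f else 0
  corner : ∀ z, f * z = z → z * f = z → ∃ t : Fin N → K, z = ∑ j, t j • (π ^ (j : ℕ) * f)
  indep : ∀ t : Fin N → K, ∑ j, t j • (π ^ (j : ℕ) * f) = 0 → t = 0

/-- A block with one simple module, a central nilpotent generator and small dimension has the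
shape of matrices over a truncated polynomial algebra. -/
theorem exists_shape [FiniteDimensional K A] [IsAlgClosed K] {ε π : A} {N n : ℕ} [NeZero n]
    (R : A →ₐ[K] Matrix (Fin n) (Fin n) K) (hi : ε * ε = ε) (hc : ∀ a, ε * a = a * ε)
    (hπc : ∀ a, π * a = a * π) (hπε : ε * π = π) (hπN : π ^ N = 0) (hN : 0 < N)
    (hs : Function.Surjective R) (h1 : R ε = 1) (hJ : ∀ z ∈ Ring.jacobson A, R z = 0)
    (h0 : ∀ z, ε * z = z → R z = 0 → z ∈ Ring.jacobson A)
    (hind : LinearIndependent K fun j : Fin N => π ^ (j : ℕ) * ε)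
    (hdim : Module.finrank K (LinearMap.range (LinearMap.mulLeft K ε)) ≤ N * n ^ 2) :
    ∃ (f : A) (U V : Fin n → A), Shape ε π N n R f U V := by
  have : IsArtinianRing A := IsArtinianRing.of_finite K A
  obtain ⟨f, U, V, hff, hεf, hRf, hRU, hRV, hUf, hfV, hεU, hVε, hUV⟩ :=
    BlockAlg8.exists_units ε R hi hc hs h1 hJ h0
  have hπk : ∀ (k : ℕ) a, π ^ k * a = a * π ^ k := fun k a =>
    (Commute.pow_left (show Commute π a from hπc a) k).eq
  -- the matrix of products is the identity
  set Dm : Fin n → Fin n → A := fun a b => (if a = b then f else 0) - V a * U b with hDm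
  have hfVU : ∀ a b, f * (V a * U b) = V a * U b := fun a b => by rw [← mul_assoc, hfV]
  have hVUf : ∀ a b, V a * U b * f = V a * U b := fun a b => by rw [mul_assoc, hUf]
  have hXX : ∀ a b, ∑ c, V a * U c * (V c * U b) = V a * U b := fun a b => by
    calc ∑ c, V a * U c * (V c * U b) = V a * (∑ c, U c * V c) * U b := by
          rw [Finset.mul_sum, Finset.sum_mul]
          exact Finset.sum_congr rfl fun c _ => by simp only [mul_assoc]
      _ = V a * U b := by
          rw [hUV, show V a * ε = V a from by simpa using hVε a 1]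
  have hDD : ∀ a b, ∑ c, Dm a c * Dm c b = Dm a b := fun a b => by
    simp only [hDm, sub_mul, mul_sub, ite_mul, mul_ite, zero_mul, mul_zero, Finset.sum_sub_distrib,
      Finset.sum_ite_eq, Finset.sum_ite_eq', Finset.mem_univ, if_true, hfVU, hVUf, hff, hXX]
    abel
  have hDJ : ∀ a b, Dm a b ∈ Ring.jacobson A := fun a b => by
    refine h0 _ ?_ ?_
    · simp only [hDm, mul_sub, mul_ite, mul_zero, hεf, ← mul_assoc]
      rw [hc (V a), mul_assoc (V a) ε, hεU]
    · simp only [hDm, map_sub, map_mul, hRV, hRU, apply_ite R, hRf, map_zero]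
      by_cases hab : a = b
      · subst hab; rw [if_pos rfl, Matrix.single_mul_single_same, one_mul, sub_self]
      · rw [if_neg hab, Matrix.single_mul_single_of_ne (h := hab), sub_self]
  obtain ⟨L, hL⟩ := BlockAlg8.exists_jacobson_pow (A := A)
  have hDpow : ∀ k a b, Dm a b ∈ Ring.jacobson A ^ (k + 1) := by
    intro k
    induction k with
    | zero => intro a b; rw [zero_add, Submodule.pow_one]; exact hDJ a b
    | succ k ih =>
      intro a b
      rw [← hDD a b, Submodule.pow_succ]
      exact Submodule.sum_mem _ fun c _ => Ideal.mul_mem_mul (ih a c) (hDJ c b)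
  have hVU : ∀ a b, V a * U b = if a = b then f else 0 := fun a b => by
    have h2 : Dm a b ∈ Ring.jacobson A ^ L :=
      Ideal.pow_le_pow_right (Nat.le_succ L) (hDpow L a b)
    rw [hL, Ideal.mem_bot, hDm] at h2
    exact (sub_eq_zero.mp h2).symm
  -- the powers of `π` in the corner
  have hindf : ∀ t : Fin N → K, ∑ j, t j • (π ^ (j : ℕ) * f) = 0 → t = 0 := by
    intro t ht
    set x := ∑ j, t j • π ^ (j : ℕ) with hx
    have hxf : x * f = 0 := by rw [hx, Finset.sum_mul]; simpa [smul_mul_assoc] using ht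
    have hxc : ∀ a, x * a = a * x := fun a => by
      simp only [hx, Finset.sum_mul, Finset.mul_sum, smul_mul_assoc, mul_smul_comm, hπk]
    have hxε : x * ε = 0 := by
      rw [← hUV, Finset.mul_sum]
      refine Finset.sum_eq_zero fun a _ => ?_
      rw [← mul_assoc, hxc (U a), mul_assoc, ← hfV a, ← mul_assoc x, hxf, zero_mul, mul_zero]
    refine funext fun j => Fintype.linearIndependent_iff.mp hind t ?_ j
    rw [← hxε, hx, Finset.sum_mul]
    exact Finset.sum_congr rfl fun j _ => (smul_mul_assoc _ _ _).symm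
  -- the basis of the block
  let Ψ : (Fin n × Fin n × Fin N → K) →ₗ[K] A :=
    Fintype.linearCombination K fun q => U q.1 * (π ^ (q.2.2 : ℕ) * f) * V q.2.1
  have hΨ : ∀ t, Ψ t = ∑ q, t q • (U q.1 * (π ^ (q.2.2 : ℕ) * f) * V q.2.1) := fun t => rfl
  have hext : ∀ t a b, V a * Ψ t * U b = ∑ j, t (a, b, j) • (π ^ (j : ℕ) * f) := by
    intro t a b
    rw [hΨ, Finset.mul_sum, Finset.sum_mul, Fintype.sum_prod_type, Finset.sum_eq_single a,
      Fintype.sum_prod_type, Finset.sum_eq_single b]
    · refine Finset.sum_congr rfl fun j _ => ?_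
      rw [mul_smul_comm, smul_mul_assoc]
      congr 1
      calc V a * (U a * (π ^ (j : ℕ) * f) * V b) * U b
          = (V a * U a) * (π ^ (j : ℕ) * f) * (V b * U b) := by simp only [mul_assoc]
        _ = π ^ (j : ℕ) * f := by
            rw [hVU, if_pos rfl, hVU, if_pos rfl, ← mul_assoc, ← hπk, mul_assoc _ f f, hff,
              mul_assoc _ f f, hff]
    · intro c _ hc'
      refine Finset.sum_eq_zero fun j _ => ?_
      rw [mul_smul_comm, smul_mul_assoc]
      simp only [mul_assoc]
      rw [hVU c b, if_neg hc']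
      simp
    · exact fun h => absurd (Finset.mem_univ b) h
    · intro c _ hc'
      refine Finset.sum_eq_zero fun q _ => ?_
      rw [mul_smul_comm, smul_mul_assoc]
      simp only [← mul_assoc]
      rw [hVU a c, if_neg (Ne.symm hc')]
      simp
    · exact fun h => absurd (Finset.mem_univ a) h
  have hinj : Function.Injective Ψ := by
    rw [← LinearMap.ker_eq_bot, Submodule.eq_bot_iff]
    intro t ht
    rw [LinearMap.mem_ker] at ht
    funext q
    obtain ⟨a, b, j⟩ := q
    have h2 := hext t a b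
    rw [ht, mul_zero, zero_mul] at h2
    exact congrFun (hindf (fun j => t (a, b, j)) h2.symm) j
  have hrange : LinearMap.range Ψ = LinearMap.range (LinearMap.mulLeft K ε) := by
    refine Submodule.eq_of_le_of_finrank_le ?_ ?_
    · rintro _ ⟨t, rfl⟩
      refine ⟨Ψ t, ?_⟩
      rw [LinearMap.mulLeft_apply, hΨ, Finset.mul_sum]
      refine Finset.sum_congr rfl fun q _ => ?_
      rw [mul_smul_comm, ← mul_assoc, ← mul_assoc, hεU]
    · rw [LinearMap.finrank_range_of_inj hinj, Module.finrank_fintype_fun_eq_card]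
      simp only [Fintype.card_prod, Fintype.card_fin]
      linarith
  refine ⟨f, U, V, hi, hc, hπc, hπε, hπN, hN, hs, h1, hff, hεf, hRf, hRU, hRV, hUf, hfV, hεU,
    hVε, hUV, hVU, fun z hz1 hz2 => ?_, hindf⟩
  have hfu : f = V 0 * U 0 := by rw [hVU, if_pos rfl]
  obtain ⟨t, ht⟩ : U 0 * z * V 0 ∈ LinearMap.range Ψ := by
    rw [hrange]
    exact ⟨U 0 * z * V 0, by rw [LinearMap.mulLeft_apply, ← mul_assoc, ← mul_assoc, hεU]⟩
  refine ⟨fun j => t (0, 0, j), ?_⟩
  rw [← hext t 0 0, ht]
  calc z = (V 0 * U 0) * z * (V 0 * U 0) := by rw [← hfu, hz1, hz2]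
    _ = V 0 * (U 0 * z * V 0) * U 0 := by simp only [mul_assoc]

end Abstract

variable {G : Type u} [Group G] [Fintype G] {p : ℕ} [Fact p.Prime] {M : Ideal AlgInt}
  [hP : M.IsPrime] {B : Set (IrrCharacter G)} {P : Subgroup G}
  {e : Set (IrrCharacter (Subgroup.centralizer (P : Set G)))}

namespace NilData

variable (D : NilData p M B P e)
include D

theorem yel_central (u : P) (a : MonoidAlgebra (𝕜 M) G) : D.yel u * a = a * D.yel u :=
  BlockAlg8.toAlg_mul_comm (D.yfun_int u).1 a

/-- A generator of the defect group. -/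
noncomputable def gen : P := (D.cyc.exists_generator).choose

theorem gen_spec (x : P) : x ∈ Subgroup.zpowers D.gen := D.cyc.exists_generator.choose_spec x

/-- The nilpotent generator of the centre of the block. -/
noncomputable def piEl : MonoidAlgebra (𝕜 M) G := D.yel D.gen - D.yel 1

theorem yel_one_idem : D.yel 1 * D.yel 1 = D.yel 1 := by rw [D.yel_mul, one_mul]

theorem piEl_comm (a : MonoidAlgebra (𝕜 M) G) : D.piEl * a = a * D.piEl := by
  rw [piEl, sub_mul, mul_sub, D.yel_central, D.yel_central]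

theorem yel_one_piEl : D.yel 1 * D.piEl = D.piEl := by
  rw [piEl, mul_sub, D.yel_mul, D.yel_mul, one_mul, one_mul]

theorem piEl_pow : D.piEl ^ Nat.card P = 0 := by
  have := BlocksDefect.charP_res (M := M) D.mod
  have : CharP (MonoidAlgebra (𝕜 M) G) p :=
    charP_of_injective_algebraMap (FaithfulSMul.algebraMap_injective (𝕜 M) _) p
  have hpow : ∀ (u : P) (k : ℕ), 0 < k → D.yel u ^ k = D.yel (u ^ k) := by
    intro u k hk
    induction k with
    | zero => exact absurd hk (lt_irrefl 0)
    | succ k ih =>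
      rcases Nat.eq_zero_or_pos k with rfl | hk'
      · rw [pow_one, pow_one]
      · rw [pow_succ, ih hk', D.yel_mul, pow_succ]
  obtain ⟨a, ha⟩ := IsPGroup.iff_card.mp D.max.1.1.1
  have hpos : 0 < p ^ a := pow_pos (Fact.out : p.Prime).pos a
  rw [piEl, ha, sub_pow_char_pow_of_commute _ _ (D.yel_central _ _), hpow _ _ hpos,
    hpow _ _ hpos, one_pow, ← ha, pow_card_eq_one', sub_self]

theorem piEl_linearIndependent :
    LinearIndependent (𝕜 M) fun j : Fin (Nat.card P) => D.piEl ^ (j : ℕ) * D.yel 1 := by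
  set v : Fin (Nat.card P) → MonoidAlgebra (𝕜 M) G := fun j => D.piEl ^ (j : ℕ) * D.yel 1 with hv
  set S := Submodule.span (𝕜 M) (Set.range v) with hS
  have hN : 0 < Nat.card P := Nat.card_pos
  have hpow : ∀ k, D.piEl ^ k * D.yel 1 ∈ S := by
    intro k
    by_cases hk : k < Nat.card P
    · exact Submodule.subset_span ⟨⟨k, hk⟩, rfl⟩
    · rw [← Nat.sub_add_cancel (not_lt.mp hk), pow_add, D.piEl_pow, mul_zero, zero_mul]
      exact zero_mem _
  have hmul : ∀ x ∈ S, D.yel D.gen * x ∈ S := by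
    intro x hx
    induction hx using Submodule.span_induction with
    | mem y hy =>
      obtain ⟨j, rfl⟩ := hy
      have e : D.yel D.gen = D.piEl + D.yel 1 := by rw [piEl, sub_add_cancel]
      simp only [hv]
      rw [e, add_mul, ← mul_assoc, ← pow_succ']
      refine S.add_mem (hpow _) ?_
      rw [← mul_assoc, D.yel_central, mul_assoc, D.yel_one_idem]
      exact hpow _
    | zero => simp
    | add y z _ _ hy hz => rw [mul_add]; exact S.add_mem hy hz
    | smul t y _ hy => rw [mul_smul_comm]; exact S.smul_mem t hy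
  have hall : ∀ u : P, D.yel u ∈ S := by
    intro u
    obtain ⟨k, rfl⟩ : u ∈ Submonoid.powers D.gen := mem_powers_iff_mem_zpowers.mpr (D.gen_spec u)
    show D.yel (D.gen ^ k) ∈ S
    induction k with
    | zero =>
      rw [pow_zero]
      simpa using hpow 0
    | succ k ih => rw [pow_succ', ← D.yel_mul]; exact hmul _ ih
  rw [linearIndependent_iff_card_le_finrank_span, Fintype.card_fin]
  have h := (LinearIndependent.of_comp S.subtype (v := fun u : P => (⟨D.yel u, hall u⟩ : S))
    D.yel_linearIndependent).fintype_card_le_finrank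
  rwa [← Nat.card_eq_fintype_card] at h

theorem finrank_block : Module.finrank (𝕜 M)
    (LinearMap.range (LinearMap.mulLeft (𝕜 M) (D.yel 1))) =
      Nat.card P * charDegree (D.base : G → ℂ) ^ 2 := by
  set eC := blockCoeff B with heC
  have heI : IsIntClassFun M eC := isIntClassFun_blockCoeff D.mod D.isPBlock
  rw [D.yel_one]
  set e := toAlg M eC with he_def
  apply Nat.cast_injective (R := ℂ)
  let Φ : MonoidAlgebra (𝕜 M) G ≃ₗ[𝕜 M] (G → 𝕜 M) :=
    (MonoidAlgebra.coeffLinearEquiv (𝕜 M)).trans (Finsupp.linearEquivFunOnFinite (𝕜 M) (𝕜 M) G)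
  let E : G → G → ℂ := fun x y => eC (x * y⁻¹)
  have hidem : ∀ x z, ∑ y, E x y * E y z = E x z := fun x z => by
    have h := congrFun (conv_blockCoeff_self (G := G) B) (x * z⁻¹)
    rw [conv_apply] at h
    show _ = eC (x * z⁻¹)
    rw [heC, ← h]
    refine Fintype.sum_equiv ((Equiv.inv G).trans (Equiv.mulLeft x)) _ _ fun y => ?_
    simp only [Equiv.trans_apply, Equiv.inv_apply, Equiv.coe_mulLeft, E, heC]
    congr 2
    group
  have hE := BlockAlg8.finrank_range_red (fun x y => heI.2 (x * y⁻¹)) hidem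
  have hconj : (Matrix.toLin' (Matrix.of fun x y => red M (E x y))).comp Φ.toLinearMap =
      Φ.toLinearMap.comp (LinearMap.mulLeft (𝕜 M) e) := by
    refine LinearMap.ext fun z => funext fun x => ?_
    simp only [LinearMap.comp_apply, Matrix.toLin'_apply, Matrix.mulVec, dotProduct,
      LinearMap.mulLeft_apply, LinearEquiv.coe_coe]
    show ∑ y, red M (E x y) * z.coeff y = (e * z).coeff x
    rw [BlockAlg8.coeff_mul_eq]
    refine Fintype.sum_equiv ((Equiv.inv G).trans (Equiv.mulLeft x)) _ _ fun y => ?_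
    simp only [Equiv.trans_apply, Equiv.inv_apply, Equiv.coe_mulLeft, he_def,
      BlockAlg8.coeff_toAlg, E]
    congr 2
    group
  have hr : LinearMap.range (Matrix.toLin' (Matrix.of fun x y => red M (E x y))) =
      (LinearMap.range (LinearMap.mulLeft (𝕜 M) e)).map Φ.toLinearMap := by
    rw [← LinearMap.range_comp, ← hconj, LinearMap.range_comp_of_range_eq_top]
    exact LinearEquiv.range Φ
  rw [hr, LinearEquiv.finrank_map_eq] at hE
  rw [hE]
  simp only [E, mul_inv_cancel, Finset.sum_const, Finset.card_univ, nsmul_eq_mul, heC,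
    blockCoeff, ← Nat.card_eq_fintype_card]
  have := finite_irr (G := G)
  letI := Fintype.ofFinite B
  rw [mul_inv_cancel_left₀ (Nat.cast_ne_zero.mpr Nat.card_pos.ne'), finsum_mem_eq_toFinset_sum,
    Finset.sum_eq_card_nsmul (b := (charDegree (D.base : G → ℂ) : ℂ) ^ 2)]
  · rw [Set.toFinset_card, ← Nat.card_eq_fintype_card, D.natCard_eq, nsmul_eq_mul]
    push_cast
    ring
  · intro χ hχ
    have h := D.degree_eq (Set.mem_toFinset.mp hχ)
    simp only [irr_one_eq] at h ⊢
    rw [Complex.conj_natCast, ← h]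
    ring

/-- The block algebra of a nilpotent block with cyclic defect group. -/
theorem exists_shape : ∃ (n : ℕ) (_ : NeZero n)
    (R : MonoidAlgebra (𝕜 M) G →ₐ[𝕜 M] Matrix (Fin n) (Fin n) (𝕜 M)) (f : MonoidAlgebra (𝕜 M) G)
    (U V : Fin n → MonoidAlgebra (𝕜 M) G) (a : 𝕜 M),
    Shape (D.yel 1) D.piEl (Nat.card P) n R f U V ∧ a ≠ 0 ∧
      ∀ g : G, (R (MonoidAlgebra.of (𝕜 M) G g)).trace = a * red M ((D.base : G → ℂ) g) := by
  have := isMaximal D.mod
  have := BlocksDefect.charP_res (M := M) D.mod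
  have := finite_irr (G := G)
  letI := Fintype.ofFinite B
  have he0 : D.yel 1 ≠ 0 := D.yel_linearIndependent.ne_zero 1
  obtain ⟨r, d, π₀, hd, hπs, hπker⟩ :=
    BlockAlg8.exists_pi (K := 𝕜 M) (A := MonoidAlgebra (𝕜 M) G)
  have hε : ∀ i, π₀ (D.yel 1) i = 0 ∨ π₀ (D.yel 1) i = 1 := by
    intro i
    refine BlockAlg8.scalar_of_central (fun x => ?_) ?_
    · obtain ⟨z, hz⟩ := hπs (Pi.single i x)
      have h := congrArg (fun w => π₀ w i) (D.yel_central 1 z)
      simpa [hz] using h
    · simpa using congrArg (fun z => π₀ z i) D.yel_one_idem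
  obtain ⟨i, hi⟩ : ∃ i, π₀ (D.yel 1) i = 1 := by
    by_contra h
    push Not at h
    have hJe : D.yel 1 ∈ Ring.jacobson (MonoidAlgebra (𝕜 M) G) :=
      (hπker _).mp (funext fun i => (hε i).resolve_right (h i))
    have : IsArtinianRing (MonoidAlgebra (𝕜 M) G) := IsArtinianRing.of_finite (𝕜 M) _
    obtain ⟨L, hL⟩ := BlockAlg8.exists_jacobson_pow (A := MonoidAlgebra (𝕜 M) G)
    have h2 := Ideal.pow_mem_pow hJe (L + 1)
    rw [Submodule.pow_succ, hL, Submodule.bot_mul, Ideal.mem_bot] at h2
    exact he0 (((IsIdempotentElem.pow_succ_eq L (show IsIdempotentElem (D.yel 1) from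
      D.yel_one_idem))).symm.trans h2)
  let tr : Fin r → MonoidAlgebra (𝕜 M) G →ₗ[𝕜 M] 𝕜 M := fun k =>
    (Matrix.traceLinearMap (Fin (d k)) (𝕜 M) (𝕜 M)).comp
      ((LinearMap.proj k).comp π₀.toLinearMap)
  let Λ : MonoidAlgebra (𝕜 M) G →ₗ[𝕜 M] 𝕜 M :=
    ∑ g : G, red M ((D.base : G → ℂ) g) •
      (Finsupp.lapply g).comp (MonoidAlgebra.coeffLinearEquiv (𝕜 M)).toLinearMap
  have hΛg : ∀ g : G, Λ (MonoidAlgebra.of (𝕜 M) G g) = red M ((D.base : G → ℂ) g) := by
    intro g
    simp only [Λ, LinearMap.sum_apply, LinearMap.smul_apply, LinearMap.comp_apply, smul_eq_mul]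
    rw [Finset.sum_eq_single g]
    · simp
    · intro b _ hb; simp [Finsupp.single_eq_of_ne hb]
    · simp
  have htr : ∀ k, π₀ (D.yel 1) k = 1 → ∃ a, ∀ x, tr k x = a * Λ x := by
    intro k hk
    let ρ : Representation (𝕜 M) G (Fin (d k) → 𝕜 M) := Matrix.toLinAlgEquiv'.toMonoidHom.comp
      (((Pi.evalAlgHom (𝕜 M) _ k).comp π₀).toMonoidHom.comp (MonoidAlgebra.of (𝕜 M) G))
    have hρ : ∀ g, ρ g = Matrix.toLinAlgEquiv' (π₀ (MonoidAlgebra.of (𝕜 M) G g) k) := fun g => rfl
    have hfix : ∑ g, red M (blockCoeff B g) • ρ g = 1 := by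
      have h2 := congrArg Matrix.toLinAlgEquiv' hk
      rw [D.yel_one, toAlg, map_sum, Finset.sum_apply, map_sum, map_one] at h2
      rw [← h2]
      exact Finset.sum_congr rfl fun g _ => by rw [hρ, map_smul, Pi.smul_apply, map_smul]
    obtain ⟨A, hA⟩ := trace_mem_span D.mod D.isPBlock ρ hfix
    have hred : ∀ (θ : B) g, red M (((θ : IrrCharacter G) : G → ℂ) g) =
        red M ((D.base : G → ℂ) g) := by
      intro θ g
      obtain ⟨x, y, rfl, hxy, ⟨j, hx⟩, hy⟩ := exists_pPart (p := p) D.mod.1 g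
      have h1 := fun η : IrrCharacter G =>
        CyclicRank.R_irr_regular (RingHom.id (𝕜 M)) D.mod η hxy hx hy
      simp only [CyclicRank.R, RingHom.id_apply] at h1
      rw [h1, h1, D.regular_eq D.base_mem θ.2 hy]
    refine ⟨∑ θ : B, A θ, fun x => ?_⟩
    induction x using MonoidAlgebra.induction_on with
    | of g =>
      rw [hΛg, Finset.sum_mul]
      show (π₀ (MonoidAlgebra.of (𝕜 M) G g) k).trace = _
      have h2 := hA g
      rw [hρ] at h2
      rw [← Matrix.trace_toLin'_eq]
      refine h2.trans (Finset.sum_congr rfl fun θ _ => by rw [hred])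
    | add u w hu hw => rw [map_add, map_add, hu, hw, mul_add]
    | smul t u hu => rw [map_smul, map_smul, hu, smul_eq_mul, smul_eq_mul, mul_left_comm]
  have hpre : ∀ k, π₀ (D.yel 1) k = 1 → ∃ z, tr k z = 1 ∧ ∀ k', k' ≠ k → tr k' z = 0 := by
    intro k _
    have := hd k
    obtain ⟨z, hz⟩ := hπs (Pi.single k (Matrix.single 0 0 1))
    exact ⟨z, by simp [tr, hz], fun k' hk' => by simp [tr, hz, hk']⟩
  obtain ⟨a, ha⟩ := htr i hi
  obtain ⟨z, hz, hz'⟩ := hpre i hi
  have hΛz : Λ z ≠ 0 := fun h => by rw [ha, h, mul_zero] at hz; exact zero_ne_one hz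
  have ha0 : a ≠ 0 := fun h => by rw [ha, h, zero_mul] at hz; exact zero_ne_one hz
  have honly : ∀ k, k ≠ i → π₀ (D.yel 1) k = 0 := by
    intro k hk
    refine (hε k).resolve_right fun hk1 => ?_
    obtain ⟨b, hb⟩ := htr k hk1
    obtain ⟨w, hw, -⟩ := hpre k hk1
    have h2 := hz' k hk
    rw [hb] at h2
    rw [hb, (mul_eq_zero.mp h2).resolve_right hΛz, zero_mul] at hw
    exact zero_ne_one hw
  set R : MonoidAlgebra (𝕜 M) G →ₐ[𝕜 M] Matrix (Fin (d i)) (Fin (d i)) (𝕜 M) :=
    (Pi.evalAlgHom (𝕜 M) _ i).comp π₀ with hR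
  have hRg : ∀ g : G, (R (MonoidAlgebra.of (𝕜 M) G g)).trace =
      a * red M ((D.base : G → ℂ) g) := fun g => by rw [← hΛg]; exact ha _
  have hle : charDegree (D.base : G → ℂ) ≤ d i :=
    le_of_trace D.mod D.isPBlock D.base_mem (fun χ hχ s hs => D.regular_eq D.base_mem hχ hs)
      (R.toMonoidHom.comp (MonoidAlgebra.of (𝕜 M) G)) ha0 (fun s _ => hRg s)
  have hsurj : Function.Surjective R := fun X => by
    obtain ⟨w, hw⟩ := hπs (Pi.single i X)
    exact ⟨w, (congrFun hw i).trans (Pi.single_eq_same _ _)⟩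
  have := hd i
  obtain ⟨f, U, V, hS⟩ := CyclicDefect.exists_shape R D.yel_one_idem (D.yel_central 1) D.piEl_comm
    D.yel_one_piEl D.piEl_pow Nat.card_pos hsurj hi
    (fun w hw => by simp [hR, (hπker w).mpr hw]) (fun w hw h => (hπker w).mp (funext fun k => by
      by_cases hk : k = i
      · subst hk; exact h
      · rw [← hw, map_mul, Pi.mul_apply, honly k hk, zero_mul, Pi.zero_apply]))
    D.piEl_linearIndependent (by
      rw [D.finrank_block]
      exact Nat.mul_le_mul_left _ (Nat.pow_le_pow_left hle 2))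
  exact ⟨d i, hd i, R, f, U, V, a, hS, ha0, hRg⟩

end NilData

end Cfsg.Agent.BlkChar.CyclicDefect
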