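import Cfsg.Agent.BlkChar.CyclicDefect.Core

/-!
# Maps to the simple module of the local block which do not factor through projective modules
-/

set_option autoImplicit false
set_option linter.unusedSectionVars false

namespace Cfsg.Agent.BlkChar.CyclicDefect

open scoped Classical
open Finset MonoidAlgebra

variable {K : Type*} [Field K] {G : Type*} [Group G] [Fintype G] {H T Dd : Subgroup G}

/-- Conjugation by an element of the normalizer as an automorphism. -/
noncomputable def nmap (H : Subgroup G) (g : Subgroup.normalizer (H : Set G)) : H →* H where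
  toFun h := ⟨(g : G) * h * (g : G)⁻¹, (Subgroup.mem_normalizer_iff.mp g.2 h).mp h.2⟩
  map_one' := Subtype.ext (by simp)
  map_mul' a b := Subtype.ext (by simp [mul_assoc])

variable (K) in
/-- Conjugation on the group algebra of a subgroup. -/
noncomputable def cj (H : Subgroup G) (g : Subgroup.normalizer (H : Set G)) :
    MonoidAlgebra K H →ₐ[K] MonoidAlgebra K H :=
  MonoidAlgebra.mapDomainAlgHom K K (nmap H g)

theorem cj_of (g : Subgroup.normalizer (H : Set G)) (h : H) :
    cj K H g (of K H h) = of K H (nmap H g h) := by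
  simp [cj, MonoidAlgebra.mapDomainAlgHom]

/-- The action of the group algebra of a subgroup. -/
noncomputable def act {V : Type*} [AddCommGroup V] [Module K V] (H : Subgroup G)
    (ρ : Representation K G V) : MonoidAlgebra K H →ₐ[K] Module.End K V :=
  Representation.asAlgebraHom (ρ.comp H.subtype)

variable {V : Type*} [AddCommGroup V] [Module K V] (ρ : Representation K G V)

theorem act_of (h : H) : act H ρ (of K H h) = ρ (h : G) := Representation.asAlgebraHom_of _ h

theorem act_cj (g : Subgroup.normalizer (H : Set G)) (a : MonoidAlgebra K H) :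
    act H ρ (cj K H g a) = ρ (g : G) * act H ρ a * ρ (g : G)⁻¹ := by
  induction a using MonoidAlgebra.induction_on with
  | of h => rw [cj_of, act_of, act_of, ← map_mul, ← map_mul]; rfl
  | add a b ha hb => rw [map_add, map_add, map_add, ha, hb, mul_add, add_mul]
  | smul c a ha => rw [map_smul, map_smul, map_smul, ha, mul_smul_comm, smul_mul_assoc]

theorem act_apply_conj (g : Subgroup.normalizer (H : Set G)) (a : MonoidAlgebra K H) (v : V) :
    act H ρ (cj K H g a) (ρ (g : G) v) = ρ (g : G) (act H ρ a v) := by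
  rw [act_cj, Module.End.mul_apply, Module.End.mul_apply, ← Module.End.mul_apply (ρ (g : G)⁻¹),
    ← map_mul, inv_mul_cancel, map_one, Module.End.one_apply]

theorem act_inv_apply (g : Subgroup.normalizer (H : Set G)) (a : MonoidAlgebra K H) (v : V) :
    act H ρ a (ρ (g : G) v) = ρ (g : G) (act H ρ (cj K H g⁻¹ a) v) := by
  rw [act_cj, Subgroup.coe_inv, inv_inv, Module.End.mul_apply, Module.End.mul_apply,
    ← Module.End.mul_apply (ρ (g : G)), ← map_mul, mul_inv_cancel, map_one, Module.End.one_apply]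

variable (H T) in
/-- The cosets of `H` in `T`. -/
noncomputable def cosets : Finset (G ⧸ H) :=
  haveI := Fintype.ofFinite (G ⧸ H)
  Finset.univ.filter fun q => q.out ∈ T

theorem mem_cosets {q : G ⧸ H} : q ∈ cosets H T ↔ q.out ∈ T := by simp [cosets]

theorem out_inv_mul (g : G) : (QuotientGroup.mk g : G ⧸ H).out⁻¹ * g ∈ H := by
  rw [← QuotientGroup.eq, QuotientGroup.out_eq']

theorem sum_cosets_mul {A : Type*} [AddCommMonoid A] (hHT : H ≤ T) (F : G → A)
    (hF : ∀ g ∈ T, ∀ h ∈ H, F (g * h) = F g) {t : G} (ht : t ∈ T) :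
    ∑ q ∈ cosets H T, F (t * q.out) = ∑ q ∈ cosets H T, F q.out := by
  refine Finset.sum_bij' (fun q _ => t • q) (fun q _ => t⁻¹ • q) ?_ ?_
    (fun q _ => inv_smul_smul t q) (fun q _ => smul_inv_smul t q) ?_
  · intro q hq
    rw [mem_cosets] at hq ⊢
    have h := out_inv_mul (H := H) (t * q.out)
    rw [show (QuotientGroup.mk (t * q.out) : G ⧸ H) = t • q by
      conv_rhs => rw [← QuotientGroup.out_eq' q]
      rfl] at h
    have h2 := T.mul_mem (T.mul_mem ht hq) (T.inv_mem (hHT h))
    simpa [mul_assoc] using h2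
  · intro q hq
    rw [mem_cosets] at hq ⊢
    have h := out_inv_mul (H := H) (t⁻¹ * q.out)
    rw [show (QuotientGroup.mk (t⁻¹ * q.out) : G ⧸ H) = t⁻¹ • q by
      conv_rhs => rw [← QuotientGroup.out_eq' q]
      rfl] at h
    have h2 := T.mul_mem (T.mul_mem (T.inv_mem ht) hq) (T.inv_mem (hHT h))
    simpa [mul_assoc] using h2
  · intro q hq
    rw [mem_cosets] at hq
    have h := out_inv_mul (H := H) (t * q.out)
    rw [show (QuotientGroup.mk (t * q.out) : G ⧸ H) = t • q by
      conv_rhs => rw [← QuotientGroup.out_eq' q]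
      rfl] at h
    conv_lhs => rw [show t * q.out = (t • q).out * ((t • q).out⁻¹ * (t * q.out)) by
      rw [mul_inv_cancel_left]]
    refine hF _ ?_ _ h
    have h2 := T.mul_mem (T.mul_mem ht hq) (T.inv_mem (hHT h))
    simpa [mul_assoc] using h2

theorem card_cosets (hHT : H ≤ T) : (cosets H T).card = H.relIndex T := by
  rw [Subgroup.relIndex, Subgroup.index, ← Nat.card_eq_finsetCard]
  refine Nat.card_congr (Equiv.ofBijective
    (fun q : cosets H T => (QuotientGroup.mk ⟨q.1.out, mem_cosets.mp q.2⟩ : T ⧸ H.subgroupOf T))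
    ⟨fun q r h => ?_, fun x => ?_⟩)
  · rw [QuotientGroup.eq] at h
    refine Subtype.ext ?_
    rw [← QuotientGroup.out_eq' q.1, ← QuotientGroup.out_eq' r.1, QuotientGroup.eq]
    exact Subgroup.mem_subgroupOf.mp h
  · obtain ⟨t, rfl⟩ := QuotientGroup.mk_surjective x
    have h := out_inv_mul (H := H) (t : G)
    have hT : (QuotientGroup.mk (t : G) : G ⧸ H).out ∈ T := by
      have h2 := T.mul_mem t.2 (T.inv_mem (hHT h))
      simpa [mul_assoc] using h2
    refine ⟨⟨_, mem_cosets.mpr hT⟩, ?_⟩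
    rw [QuotientGroup.eq]
    exact Subgroup.mem_subgroupOf.mpr h

/-- The inertial configuration around the block of `H`. -/
structure Sys (p : ℕ) (H T Dd : Subgroup G) (z : H) (ε π w : MonoidAlgebra K H) (N q n : ℕ)
    [NeZero n] (R : MonoidAlgebra K H →ₐ[K] Matrix (Fin n) (Fin n) K) (f : MonoidAlgebra K H)
    (U V : Fin n → MonoidAlgebra K H) : Prop where
  core : Core p z ε π w N q n R f U V
  map_z : R (of K H z) = 1
  HT : H ≤ T
  TN : T ≤ Subgroup.normalizer (H : Set G)
  eps_T : ∀ g : Subgroup.normalizer (H : Set G), (g : G) ∈ T → cj K H g ε = ε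
  pi_T : ∀ g : Subgroup.normalizer (H : Set G), (g : G) ∈ T → ∃ b, cj K H g π = π * b
  not_dvd : ¬ p ∣ H.relIndex T
  cent_z : ∀ g : G, Commute g (z : G) → g ∈ H
  DH : Dd ≤ H
  small : ∀ (g : G) (j : ℕ), 0 < j → j < p → g⁻¹ * (z : G) ^ j * g ∈ Dd →
    g⁻¹ * (z : G) ^ j * g ∈ Subgroup.zpowers (z : G)
  outside : ∀ g : G, g ∉ T → (∀ j, 0 < j → j < p → g⁻¹ * (z : G) ^ j * g ∉ Dd) ∨
    (∃ hg : g ∈ Subgroup.normalizer (H : Set G), ε * cj K H ⟨g, hg⟩ ε = 0)
  trace : ∀ [Fintype (H ⧸ Dd.subgroupOf H)], ∃ x : MonoidAlgebra K H,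
    (∀ d : H, (d : G) ∈ Dd → of K H d * x = x * of K H d) ∧
      ε = ∑ r : H ⧸ Dd.subgroupOf H, of K H r.out * x * of K H r.out⁻¹

/-- The simple module as a representation of the group algebra. -/
noncomputable def simpleHom {n : ℕ} (R : MonoidAlgebra K H →ₐ[K] Matrix (Fin n) (Fin n) K) :
    MonoidAlgebra K H →ₐ[K] Module.End K (Fin n → K) :=
  Matrix.toLinAlgEquiv'.toAlgHom.comp R

/-- A representation of `T` extending the simple module. -/
def IsExt {n : ℕ} (hHT : H ≤ T) (R : MonoidAlgebra K H →ₐ[K] Matrix (Fin n) (Fin n) K)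
    (S : Representation K T (Fin n → K)) : Prop :=
  ∀ h : H, S ⟨(h : G), hHT h.2⟩ = simpleHom R (of K H h)

/-- A vector of the block not reaching the socle power. -/
def InKer (ε π : MonoidAlgebra K H) (N : ℕ) (v : V) : Prop :=
  act H ρ ε v = v ∧ act H ρ (π ^ (N - 1)) v = 0

/-- `φ` is equivariant for `T`. -/
def EquivT {S' : Type*} [AddCommGroup S'] [Module K S'] (S : Representation K T S')
    (φ : V →ₗ[K] S') : Prop :=
  ∀ (t : T) (v : V), φ (ρ (t : G) v) = S t (φ v)

namespace Sys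

variable {p : ℕ} [Fact p.Prime] [CharP K p] {z : H} {ε π w : MonoidAlgebra K H} {N q n : ℕ}
  [NeZero n] {R : MonoidAlgebra K H →ₐ[K] Matrix (Fin n) (Fin n) K} {f : MonoidAlgebra K H}
  {U V' : Fin n → MonoidAlgebra K H} (Y : Sys p H T Dd z ε π w N q n R f U V')

include Y

theorem card_cosets_ne_zero : ((cosets H T).card : K) ≠ 0 := by
  rw [card_cosets Y.HT, Ne, CharP.cast_eq_zero_iff K p]
  exact Y.not_dvd

theorem eps_inv (g : Subgroup.normalizer (H : Set G)) (hg : (g : G) ∈ T) : cj K H g⁻¹ ε = ε :=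
  Y.eps_T g⁻¹ (T.inv_mem hg)

theorem pi_pow_T (g : Subgroup.normalizer (H : Set G)) (hg : (g : G) ∈ T) (k : ℕ) :
    ∃ b, cj K H g (π ^ k) = π ^ k * b := by
  obtain ⟨b, hb⟩ := Y.pi_T g hg
  exact ⟨b ^ k, by rw [map_pow, hb, (show Commute π b from Y.core.shape.piComm b).mul_pow]⟩

/-- The powers of the generator have kernels invariant under `T`. -/
theorem act_pow_eq_zero {t : G} (ht : t ∈ T) {k : ℕ} {v : V} (hv : act H ρ (π ^ k) v = 0) :
    act H ρ (π ^ k) (ρ t v) = 0 := by
  obtain ⟨b, hb⟩ := Y.pi_pow_T (⟨t, Y.TN ht⟩ : Subgroup.normalizer (H : Set G))⁻¹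
    (T.inv_mem ht) k
  have h1 := act_inv_apply ρ (⟨t, Y.TN ht⟩ : Subgroup.normalizer (H : Set G)) (π ^ k) v
  rw [h1, hb, Y.core.shape.pow_comm, map_mul, Module.End.mul_apply, hv, map_zero, map_zero]

theorem act_eps_eq {t : G} (ht : t ∈ T) {v : V} (hv : act H ρ ε v = v) :
    act H ρ ε (ρ t v) = ρ t v := by
  have h1 := act_inv_apply ρ (⟨t, Y.TN ht⟩ : Subgroup.normalizer (H : Set G)) ε v
  rw [h1, Y.eps_inv _ ht, hv]

theorem inKer_smul {t : G} (ht : t ∈ T) {v : V} (hv : InKer ρ ε π N v) :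
    InKer ρ ε π N (ρ t v) :=
  ⟨Y.act_eps_eq ρ ht hv.1, Y.act_pow_eq_zero ρ ht hv.2⟩

variable {S : Representation K T (Fin n → K)} (hS : IsExt Y.HT R S) {φ : V →ₗ[K] Fin n → K}
  (hφ : EquivT ρ S φ)

include hS hφ

/-- Equivariant maps are linear over the group algebra. -/
theorem apply_act (a : MonoidAlgebra K H) (v : V) : φ (act H ρ a v) = simpleHom R a (φ v) := by
  induction a using MonoidAlgebra.induction_on with
  | of h => rw [act_of, ← hS h]; exact hφ ⟨(h : G), Y.HT h.2⟩ v
  | add a b ha hb => simp [ha, hb]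
  | smul c a ha => simp [ha]

theorem apply_pi (v : V) : φ (act H ρ π v) = 0 := by
  rw [Y.apply_act ρ hS hφ, simpleHom, AlgHom.comp_apply, Y.core.shape.R_pi, map_zero,
    LinearMap.zero_apply]

theorem apply_eps (v : V) : φ (act H ρ ε v) = φ v := by
  rw [Y.apply_act ρ hS hφ, simpleHom, AlgHom.comp_apply, Y.core.shape.map_eps, map_one,
    Module.End.one_apply]

/-- A sum over a set on which the subgroup of order `p` acts freely is killed. -/
theorem apply_free_sum {Ω : Type*} [MulAction H Ω] [Fintype Ω]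
    (hfree : ∀ (ω : Ω) (j : ℕ), 0 < j → j < p → z ^ j • ω ≠ ω) (O : Ω → Module.End K V)
    (hO : ∀ (h : H) ω, ρ (h : G) * O ω = O (h • ω) * ρ (h : G)) {v : V}
    (hv : InKer ρ ε π N v) : φ (∑ ω, O ω v) = 0 := by
  set σ := ρ.comp H.subtype with hσ
  have hμ := funRep_higman σ Ω (Fact.out : p.Prime).pos Y.core.z_pow hfree
  have hth := funRep_theta σ Ω O hO
  obtain ⟨y, hy⟩ := Y.core.exists_pi_of_free (funRep σ Ω) hμ (y := fun ω => O ω v)
    (by
      rw [hth]
      funext ω
      exact congrArg (O ω) hv.1)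
    (by
      rw [hth]
      funext ω
      show O ω (act H ρ (π ^ (N - 1)) v) = 0
      rw [hv.2, map_zero])
  have h : ∑ ω, O ω v = ∑ ω, (funRep σ Ω).asAlgebraHom π y ω :=
    congrArg (fun Φ : Ω → V => ∑ ω, Φ ω) hy
  rw [funRep_sum] at h
  rw [h]
  exact Y.apply_pi ρ hS hφ _

end Sys

end Cfsg.Agent.BlkChar.CyclicDefect
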