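import Cfsg.Agent.BlkChar.CyclicDefect.Exist

/-!
# An irreducible representation receives a non-projective map from at most one extension
-/

set_option autoImplicit false
set_option linter.unusedSectionVars false

namespace Cfsg.Agent.BlkChar.CyclicDefect

open scoped Classical
open Finset MonoidAlgebra BlocksCore

variable {K : Type*} [Field K] {G : Type*} [Group G] [Fintype G] {H T Dd : Subgroup G}

/-- A sum over the cosets of a subgroup in stages. -/
theorem sum_tower [Fintype (G ⧸ Dd)] [Fintype (G ⧸ H)] [Fintype (H ⧸ Dd.subgroupOf H)]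
    {A : Type*} [AddCommMonoid A] (hD : Dd ≤ H) (P : G → A) (hP : ∀ g, ∀ d ∈ Dd, P (g * d) = P g) :
    ∑ r : G ⧸ Dd, P r.out =
      ∑ q : G ⧸ H, ∑ s : H ⧸ Dd.subgroupOf H, P (q.out * (s.out : G)) := by
  rw [← Fintype.sum_prod_type' (fun (q : G ⧸ H) (s : H ⧸ Dd.subgroupOf H) =>
    P (q.out * (s.out : G)))]
  refine (Fintype.sum_equiv (Subgroup.quotientEquivProdOfLE hD).symm _ _ fun qs => ?_).symm
  obtain ⟨q, s⟩ := qs
  have e : (Subgroup.quotientEquivProdOfLE hD).symm (q, s) =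
      QuotientGroup.mk (q.out * (s.out : G)) := by
    conv_lhs => rw [← QuotientGroup.out_eq' s]
    rfl
  have h := out_inv_mul (H := Dd) (q.out * (s.out : G))
  rw [e]
  have h2 := hP (QuotientGroup.mk (q.out * (s.out : G)) : G ⧸ Dd).out _ h
  rw [mul_inv_cancel_left] at h2
  exact h2

namespace Sys

variable {p : ℕ} [Fact p.Prime] [CharP K p] {z : H} {ε π w : MonoidAlgebra K H} {N q n : ℕ}
  [NeZero n] {R : MonoidAlgebra K H →ₐ[K] Matrix (Fin n) (Fin n) K} {f : MonoidAlgebra K H}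
  {U V' : Fin n → MonoidAlgebra K H} (Y : Sys p H T Dd z ε π w N q n R f U V')

include Y

theorem eps_V (a : Fin n) : ε * V' a = V' a := by
  rw [← Y.core.shape.fV a, ← mul_assoc, Y.core.shape.εf]

theorem simple_V (a : Fin n) (x : Fin n → K) :
    simpleHom R (V' a) x = x a • (Pi.single 0 1 : Fin n → K) := by
  rw [simpleHom, simpleHom_apply, Y.core.shape.map_V, Matrix.single_mulVec]
  ext j
  by_cases hj : j = 0
  · subst hj; simp
  · simp [hj]

theorem simple_U (a : Fin n) :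
    simpleHom R (U a) (Pi.single 0 1) = (Pi.single a 1 : Fin n → K) := by
  rw [simpleHom, simpleHom_apply, Y.core.shape.map_U, Matrix.single_mulVec]
  ext j
  by_cases hj : j = a
  · subst hj; simp
  · simp [hj]

theorem simple_f : simpleHom R f (Pi.single 0 1) = (Pi.single 0 1 : Fin n → K) := by
  rw [simpleHom, simpleHom_apply, Y.core.shape.map_f, Matrix.single_mulVec]
  ext j
  by_cases hj : j = 0
  · subst hj; simp
  · simp [hj]

variable {V : Type*} [AddCommGroup V] [Module K V] (ρ : Representation K G V)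
  {S S' : Representation K T (Fin n → K)} (hS : IsExt Y.HT R S) (hS' : IsExt Y.HT R S')
  {φ ψ : V →ₗ[K] Fin n → K} (hφ : EquivT ρ S φ) (hψ : EquivT ρ S' ψ)

include hS hS' hφ hψ

/-- The key step. -/
theorem false_of_two_aux [IsAlgClosed K] [FiniteDimensional K V]
    (hirr : StableHom.IsIrr ρ)
    (hne : ∀ L : (Fin n → K) →ₗ[K] Fin n → K, (∀ t x, L (S t x) = S' t (L x)) → L = 0)
    {v₁ : V} (hv₁ : InKer ρ ε π N v₁) (hψv₁ : ψ v₁ ≠ 0) {i : ℕ} (hi : i + 1 ≤ N - 1) {v₀ : V}
    (hv₀ : act H ρ (π ^ (i + 1)) v₀ = 0) (hφv : φ v₀ ≠ 0)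
    (hk : ∀ u, act H ρ (π ^ i) u = 0 → φ u = 0 ∧ ψ u = 0) : False := by
  haveI := Fintype.ofFinite (G ⧸ H)
  haveI := Fintype.ofFinite (G ⧸ Dd)
  haveI := Fintype.ofFinite (H ⧸ Dd.subgroupOf H)
  obtain ⟨xD, hxD, hεD⟩ := Y.trace
  have hS0 := Y.core.shape
  set e0 : Fin n → K := Pi.single 0 1 with he0
  have hpc : ∀ (k : ℕ) (a : MonoidAlgebra K H) (v : V),
      act H ρ (π ^ k) (act H ρ a v) = act H ρ a (act H ρ (π ^ k) v) := fun k a v => by
    rw [← Module.End.mul_apply, ← map_mul, hS0.pow_comm, map_mul, Module.End.mul_apply]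
  have hpp : ∀ (k l : ℕ) (v : V),
      act H ρ (π ^ k) (act H ρ (π ^ l) v) = act H ρ (π ^ (k + l)) v := fun k l v => by
    rw [pow_add, map_mul, Module.End.mul_apply]
  obtain ⟨a₀, ha₀⟩ := Function.ne_iff.mp hφv
  simp only [Pi.zero_apply] at ha₀
  set x0 := (φ v₀ a₀)⁻¹ • act H ρ (V' a₀) v₀ with hx0
  have hx0φ : φ x0 = e0 := by
    rw [hx0, map_smul, Y.apply_act ρ hS hφ, Y.simple_V, smul_smul, inv_mul_cancel₀ ha₀, one_smul]
  have hx0π : act H ρ (π ^ (i + 1)) x0 = 0 := by
    rw [hx0, map_smul, hpc, hv₀, map_zero, smul_zero]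
  have hεx0 : act H ρ ε x0 = x0 := by
    rw [hx0, map_smul, ← Module.End.mul_apply, ← map_mul, Y.eps_V]
  have hfx0 : act H ρ f x0 = x0 := by
    rw [hx0, map_smul, ← Module.End.mul_apply, ← map_mul, hS0.fV]
  clear_value x0
  -- a section of `φ`
  let s0 : (Fin n → K) →ₗ[K] V := Fintype.linearCombination K fun a => act H ρ (U a) x0
  have hs0 : ∀ u, s0 u = ∑ a, u a • act H ρ (U a) x0 := fun u => rfl
  have hs0φ : ∀ u, φ (s0 u) = u := fun u => by
    rw [hs0, map_sum]
    simp only [map_smul, Y.apply_act ρ hS hφ, hx0φ, he0, Y.simple_U]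
    ext j
    simp [Finset.sum_apply, Pi.single_apply]
  have hs0π : ∀ u, act H ρ (π ^ (i + 1)) (s0 u) = 0 := fun u => by
    simp only [hs0, map_sum, map_smul, hpc, hx0π, map_zero, smul_zero, Finset.sum_const_zero]
  have hs0ε : ∀ u, act H ρ ε (s0 u) = s0 u := fun u => by
    simp only [hs0, map_sum, map_smul, ← Module.End.mul_apply, ← map_mul, hS0.εU]
  have hs0H : ∀ (x : MonoidAlgebra K H) u,
      act H ρ (π ^ i) (act H ρ x (s0 u)) = act H ρ (π ^ i) (s0 (simpleHom R x u)) := by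
    intro x u
    have h1 : ∀ a b, act H ρ (π ^ i) (act H ρ (V' b * x * U a) x0) =
        R x b a • act H ρ (π ^ i) x0 := fun a b => by
      obtain ⟨c', hc'⟩ := hS0.corner_split (hS0.fcf x b a).1 (hS0.fcf x b a).2
      rw [hS0.R_VxU] at hc'
      rw [hc', map_add, LinearMap.add_apply, map_smul, LinearMap.smul_apply, hfx0, map_add,
        map_smul, add_eq_left, ← Module.End.mul_apply, ← map_mul, ← mul_assoc, ← pow_succ,
        hS0.pow_comm, map_mul, Module.End.mul_apply, hx0π, map_zero]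
    have h2 : ∀ a, act H ρ x (act H ρ (U a) x0) =
        ∑ b, act H ρ (U b) (act H ρ (V' b * x * U a) x0) := fun a => by
      rw [← Module.End.mul_apply, ← map_mul, hS0.mul_U, map_sum, LinearMap.sum_apply]
      exact Finset.sum_congr rfl fun b _ => by rw [map_mul, Module.End.mul_apply]
    simp only [hs0, map_sum, map_smul, h2, Finset.smul_sum]
    rw [Finset.sum_comm]
    refine Finset.sum_congr rfl fun b _ => ?_
    rw [show simpleHom R x u b = ∑ a, R x b a * u a from rfl, Finset.sum_smul]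
    refine Finset.sum_congr rfl fun a _ => ?_
    rw [hpc, h1, map_smul, smul_smul, hpc, mul_comm]
  let F0 : (Fin n → K) → G → V := fun u g =>
    if hg : g ∈ T then ρ g (s0 (S (⟨g, hg⟩⁻¹ : T) u)) else 0
  let s : (Fin n → K) →ₗ[K] V := ((cosets H T).card : K)⁻¹ •
    { toFun := fun u => ∑ q ∈ cosets H T, F0 u q.out
      map_add' := fun u v => by
        rw [← Finset.sum_add_distrib]
        refine Finset.sum_congr rfl fun q hq => ?_
        simp only [F0, dif_pos (mem_cosets.mp hq), map_add]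
      map_smul' := fun c v => by
        rw [RingHom.id_apply, Finset.smul_sum]
        refine Finset.sum_congr rfl fun q hq => ?_
        simp only [F0, dif_pos (mem_cosets.mp hq), map_smul] }
  have hs : ∀ u, s u = ((cosets H T).card : K)⁻¹ • ∑ q ∈ cosets H T, F0 u q.out := fun u => rfl
  have hSinv : ∀ (t : T) x, S t (S t⁻¹ x) = x := fun t x => by
    rw [← Module.End.mul_apply, ← map_mul, mul_inv_cancel, map_one, Module.End.one_apply]
  have hsφ : ∀ u, φ (s u) = u := fun u => by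
    rw [hs, map_smul, map_sum, Finset.sum_eq_card_nsmul (b := u) fun q hq => ?_,
      ← Nat.cast_smul_eq_nsmul K, smul_smul, inv_mul_cancel₀ Y.card_cosets_ne_zero, one_smul]
    simp only [F0, dif_pos (mem_cosets.mp hq)]
    exact (hφ ⟨_, mem_cosets.mp hq⟩ _).trans (by rw [hs0φ, hSinv])
  have hsπ : ∀ u, act H ρ (π ^ (i + 1)) (s u) = 0 := fun u => by
    rw [hs, map_smul, map_sum, Finset.sum_eq_zero, smul_zero]
    intro q hq
    simp only [F0, dif_pos (mem_cosets.mp hq)]
    exact Y.act_pow_eq_zero ρ (mem_cosets.mp hq) (hs0π _)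
  have hsε : ∀ u, act H ρ ε (s u) = s u := fun u => by
    rw [hs, map_smul, map_sum]
    congr 1
    refine Finset.sum_congr rfl fun q hq => ?_
    simp only [F0, dif_pos (mem_cosets.mp hq)]
    exact Y.act_eps_eq ρ (mem_cosets.mp hq) (hs0ε _)
  have hsT : ∀ (t : T) u, act H ρ (π ^ i) (ρ (t : G) (s u)) = act H ρ (π ^ i) (s (S t u)) := by
    intro t u
    have hinv : ∀ g ∈ T, ∀ h ∈ H,
        act H ρ (π ^ i) (F0 (S t u) (g * h)) = act H ρ (π ^ i) (F0 (S t u) g) := by
      intro g hg h hh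
      have hgh : g * h ∈ T := T.mul_mem hg (Y.HT hh)
      simp only [F0, dif_pos hg, dif_pos hgh]
      rw [show (⟨g * h, hgh⟩ : T) = ⟨g, hg⟩ * ⟨((⟨h, hh⟩ : H) : G), Y.HT hh⟩ from rfl, mul_inv_rev,
        map_mul S, Module.End.mul_apply, map_mul ρ, Module.End.mul_apply,
        show (⟨((⟨h, hh⟩ : H) : G), Y.HT hh⟩ : T)⁻¹ =
          ⟨(((⟨h, hh⟩ : H)⁻¹ : H) : G), Y.HT (⟨h, hh⟩ : H)⁻¹.2⟩ from rfl, hS]
      have h0 := hs0H (of K H (⟨h, hh⟩ : H))
        (simpleHom R (of K H (⟨h, hh⟩ : H)⁻¹) (S (⟨g, hg⟩⁻¹ : T) (S t u)))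
      have e1 : ∀ y, simpleHom R (of K H (⟨h, hh⟩ : H)) (simpleHom R (of K H (⟨h, hh⟩ : H)⁻¹) y) = y :=
        fun y => by
        rw [← Module.End.mul_apply, ← map_mul, ← map_mul, mul_inv_cancel, map_one, map_one,
          Module.End.one_apply]
      rw [act_of, e1] at h0
      rw [← sub_eq_zero, ← map_sub, ← map_sub]
      exact Y.act_pow_eq_zero ρ hg (by rw [map_sub, h0, sub_self])
    simp only [hs, map_smul, map_sum]
    congr 1
    rw [← sum_cosets_mul Y.HT (fun g => act H ρ (π ^ i) (F0 (S t u) g)) hinv t.2]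
    refine Finset.sum_congr rfl fun q hq => ?_
    have hq' := mem_cosets.mp hq
    simp only [F0, dif_pos hq', dif_pos (T.mul_mem t.2 hq')]
    rw [map_mul ρ, Module.End.mul_apply,
      show (⟨(t : G) * q.out, T.mul_mem t.2 hq'⟩ : T) = t * ⟨q.out, hq'⟩ from rfl, mul_inv_rev,
      map_mul S, Module.End.mul_apply, ← Module.End.mul_apply (S t⁻¹), ← map_mul, inv_mul_cancel,
      map_one, Module.End.one_apply]
  have hψs : ∀ u, ψ (s u) = 0 := LinearMap.congr_fun (hne (ψ.comp s) fun t u => by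
    have h := (hk _ (sub_eq_zero.mpr (hsT t u) |> fun h => by rw [map_sub]; exact h)).2
    rw [map_sub, hψ, sub_eq_zero] at h
    exact h.symm)
  set x := act H ρ f (s e0) with hx
  have hxφ : φ x = e0 := by rw [hx, Y.apply_act ρ hS hφ, hsφ, he0, Y.simple_f]
  have hxψ : ψ x = 0 := by rw [hx, Y.apply_act ρ hS' hψ, hψs, map_zero]
  have hxπ : act H ρ (π ^ (i + 1)) x = 0 := by rw [hx, hpc, hsπ, map_zero]
  have hfx : act H ρ f x = x := by rw [hx, ← Module.End.mul_apply, ← map_mul, hS0.ff]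
  clear_value x
  obtain ⟨Φ, hΦ1, hΦ0⟩ : ∃ Φ : V →ₗ[K] K, Φ (act H ρ (π ^ i) x) = 1 ∧
      ∀ u, Φ (act H ρ (π ^ (i + 1)) u) = 0 := by
    obtain ⟨Φ, hΦ, hle⟩ := Submodule.exists_le_ker_of_notMem
      (p := LinearMap.range (act H ρ (π ^ (i + 1)))) (v := act H ρ (π ^ i) x) (by
        rintro ⟨u, hu⟩
        rw [pow_succ, map_mul, Module.End.mul_apply] at hu
        have h := (hk (x - act H ρ π u) (by rw [map_sub, hu, sub_self])).1
        rw [map_sub, hxφ, Y.apply_pi ρ hS hφ, sub_zero] at h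
        simpa [he0] using congrFun h 0)
    refine ⟨(Φ (act H ρ (π ^ i) x))⁻¹ • Φ, by
      rw [LinearMap.smul_apply, smul_eq_mul]; exact inv_mul_cancel₀ hΦ, fun u => ?_⟩
    rw [LinearMap.smul_apply, LinearMap.mem_ker.mp (hle ⟨u, rfl⟩), smul_zero]
  let κ : Module.End K V :=
    ∑ l ∈ range (i + 1), (Φ.comp (act H ρ (π ^ l))).smulRight (act H ρ (π ^ (i - l)) x)
  have hκ : ∀ v, κ v = ∑ l ∈ range (i + 1),
      Φ (act H ρ (π ^ l) v) • act H ρ (π ^ (i - l)) x := fun v => by simp [κ, LinearMap.sum_apply]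
  clear_value κ
  have hκπ : ∀ v, κ (act H ρ π v) = act H ρ π (κ v) := by
    intro v
    rw [hκ, hκ, map_sum]
    rw [Finset.sum_range_succ' (fun l => act H ρ π (Φ (act H ρ (π ^ l) v) • act H ρ (π ^ (i - l)) x)),
      Finset.sum_range_succ (fun l => Φ (act H ρ (π ^ l) (act H ρ π v)) • act H ρ (π ^ (i - l)) x)]
    simp only [map_smul, Nat.sub_zero, ← Module.End.mul_apply, ← map_mul, ← pow_succ, ← pow_succ',
      hxπ, smul_zero, add_zero, hΦ0, zero_smul, Nat.sub_self]
    refine Finset.sum_congr rfl fun l hl => ?_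
    have : i - (l + 1) + 1 = i - l := by
      have := Finset.mem_range.mp hl
      omega
    rw [this]
  have hκpow : ∀ (j : ℕ) v, κ (act H ρ (π ^ j) v) = act H ρ (π ^ j) (κ v) := by
    intro j
    induction j with
    | zero => intro v; simp
    | succ j ih => intro v; rw [pow_succ', map_mul, Module.End.mul_apply, hκπ, ih]; rfl
  have hfκ : ∀ v, act H ρ f (κ v) = κ v := fun v => by
    rw [hκ, map_sum]
    refine Finset.sum_congr rfl fun l _ => ?_
    rw [map_smul, ← hpc, hfx]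
  let E0 : Module.End K V := ∑ a, act H ρ (U a) * κ * act H ρ (V' a)
  have hE0 : ∀ v, E0 v = ∑ a, act H ρ (U a) (κ (act H ρ (V' a) v)) := fun v => by
    simp [E0, LinearMap.sum_apply, Module.End.mul_apply]
  clear_value E0
  have hE0H : ∀ (y : MonoidAlgebra K H) v, E0 (act H ρ y v) = act H ρ y (E0 v) := by
    intro y v
    have hc : ∀ a b, κ (act H ρ (V' a * y * U b) (act H ρ (V' b) v)) =
        act H ρ (V' a * y * U b) (κ (act H ρ (V' b) v)) := fun a b => by
      obtain ⟨t, ht⟩ := hS0.corner _ (hS0.fcf y a b).1 (hS0.fcf y a b).2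
      rw [ht]
      simp only [map_sum, LinearMap.sum_apply, map_smul, LinearMap.smul_apply]
      refine Finset.sum_congr rfl fun j _ => ?_
      rw [map_mul, Module.End.mul_apply, Module.End.mul_apply, hfκ, hκpow,
        ← Module.End.mul_apply (act H ρ f), ← map_mul, hS0.fV]
    rw [hE0, hE0, map_sum, Finset.sum_congr rfl fun a _ => by
      rw [← Module.End.mul_apply (act H ρ (V' a)), ← map_mul, hS0.V_mul' y a, map_sum,
        LinearMap.sum_apply, map_sum, map_sum]]
    rw [Finset.sum_comm]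
    refine Finset.sum_congr rfl fun b _ => ?_
    rw [← Module.End.mul_apply (act H ρ y), ← map_mul, hS0.mul_U, map_sum, LinearMap.sum_apply]
    refine Finset.sum_congr rfl fun a _ => ?_
    rw [map_mul (act H ρ) (V' a * y * U b), Module.End.mul_apply, hc,
      map_mul (act H ρ) (U a), Module.End.mul_apply]
  have hφκ : ∀ {S'' : Representation K T (Fin n → K)} (χ : V →ₗ[K] Fin n → K),
      IsExt Y.HT R S'' → EquivT ρ S'' χ → ∀ v, χ (κ v) = Φ (act H ρ (π ^ i) v) • χ x := by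
    intro S'' χ h1 h2 v
    rw [hκ, map_sum, Finset.sum_eq_single i]
    · simp
    · intro l hl hli
      obtain ⟨d, hd⟩ : ∃ d, i - l = d + 1 := ⟨i - l - 1, by have := Finset.mem_range.mp hl; omega⟩
      rw [map_smul, hd, pow_succ', map_mul, Module.End.mul_apply, Y.apply_pi ρ h1 h2, smul_zero]
    · simp
  have hφE0 : ∀ v, φ (E0 v) = fun a => Φ (act H ρ (π ^ i) (act H ρ (V' a) v)) := fun v => by
    rw [hE0, map_sum]
    simp only [Y.apply_act ρ hS hφ, hφκ φ hS hφ, hxφ, map_smul, he0, Y.simple_U]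
    ext j
    simp [Finset.sum_apply, Pi.single_apply, Y.apply_act ρ hS hφ]
  have hψE0 : ∀ v, ψ (E0 v) = 0 := fun v => by
    rw [hE0, map_sum]
    simp [Y.apply_act ρ hS' hψ, hφκ ψ hS' hψ, hxψ]
  have hE0ker : ∀ v, act H ρ (π ^ i) v = 0 → φ (E0 v) = 0 := fun v hv => by
    rw [hφE0]
    funext a
    rw [hpc, hv, map_zero, map_zero, Pi.zero_apply]
  have hsA : ∀ (y : MonoidAlgebra K H) u,
      act H ρ (π ^ i) (act H ρ y (s u)) = act H ρ (π ^ i) (s (simpleHom R y u)) := by
    intro y u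
    induction y using MonoidAlgebra.induction_on with
    | of h =>
      rw [act_of, ← hS h]
      exact hsT ⟨(h : G), Y.HT h.2⟩ u
    | add a b ha hb => simp only [map_add, LinearMap.add_apply, ha, hb]
    | smul c a ha => simp only [map_smul, LinearMap.smul_apply, ha]
  have hE0s : ∀ u, φ (E0 (s u)) = u := fun u => by
    rw [hφE0]
    funext a
    have h1 : act H ρ (π ^ i) (act H ρ (V' a) (s u)) = u a • act H ρ (π ^ i) x := by
      rw [← hS0.fV a, map_mul, Module.End.mul_apply, hpc, hsA, Y.simple_V, map_smul, map_smul,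
        map_smul, hx, hpc]
    rw [h1, map_smul, hΦ1, smul_eq_mul, mul_one]
  -- the two averages
  let F1 : V → G → V := fun v g => ρ g (E0 (ρ g⁻¹ v))
  set E : V → V := fun v => ∑ q ∈ cosets H T, F1 v q.out with hE
  have hψE : ∀ v, ψ (E v) = 0 := fun v => by
    simp only [hE, map_sum, F1]
    exact Finset.sum_eq_zero fun q hq =>
      (hψ ⟨_, mem_cosets.mp hq⟩ _).trans (by rw [hψE0, map_zero])
  have hφE : ∀ u, φ (E (s u)) = ((cosets H T).card : K) • u := fun u => by
    simp only [hE, map_sum, F1]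
    rw [Finset.sum_eq_card_nsmul (b := u) fun q hq => ?_, ← Nat.cast_smul_eq_nsmul K]
    refine (hφ ⟨_, mem_cosets.mp hq⟩ _).trans ?_
    have h0 := hE0ker _ (sub_eq_zero.mpr (hsT (⟨_, mem_cosets.mp hq⟩⁻¹ : T) u) |> fun h => by
      rw [map_sub]; exact h)
    rw [map_sub, map_sub, sub_eq_zero, hE0s] at h0
    rw [show φ (E0 (ρ q.out⁻¹ (s u))) = S (⟨_, mem_cosets.mp hq⟩⁻¹ : T) u from h0, hSinv]
  let y0 : Module.End K V := act H ρ xD * E0
  have hy0 : ∀ d ∈ Dd, ρ d * y0 = y0 * ρ d := by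
    intro d hd
    have e1 : ρ d = act H ρ (of K H ⟨d, Y.DH hd⟩) := (act_of (H := H) ρ ⟨d, Y.DH hd⟩).symm
    refine LinearMap.ext fun v => ?_
    simp only [y0, Module.End.mul_apply]
    rw [e1, hE0H, ← Module.End.mul_apply (act H ρ (of K H _)), ← map_mul, hxD _ hd, map_mul,
      Module.End.mul_apply]
  set Γ := StableHom.conjSum Dd ρ y0 with hΓ
  obtain ⟨l, hl⟩ : ∃ l : K, ∀ v, Γ v = l • v := by
    haveI : Nontrivial V := ⟨⟨v₀, 0, fun h => hφv (by rw [h, map_zero])⟩⟩
    obtain ⟨l, hl⟩ := Module.End.exists_eigenvalue Γ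
    have hA := hirr (Module.End.eigenspace Γ l) fun g u hu => by
      rw [Module.End.mem_eigenspace_iff] at hu ⊢
      rw [← Module.End.mul_apply, ← StableHom.conjSum_commute Dd ρ y0 hy0 g,
        Module.End.mul_apply, hu, map_smul]
    exact ⟨l, fun u => Module.End.mem_eigenspace_iff.mp (hA.resolve_left hl ▸ Submodule.mem_top)⟩
  let Free : G → Prop := fun g => ∀ j, 0 < j → j < p → g⁻¹ * (z : G) ^ j * g ∉ Dd
  have hFreeL : ∀ g, ∀ h ∈ H, Free (h * g) ↔ Free g := by
    intro g h hh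
    have e : ∀ j : ℕ, (h * g)⁻¹ * (z : G) ^ j * (h * g) = g⁻¹ * (z : G) ^ j * g := fun j => by
      have hc : Commute ((z : G) ^ j) h :=
        (Commute.pow_left (congrArg Subtype.val (Y.core.z_central ⟨h, hh⟩).eq) j)
      calc (h * g)⁻¹ * (z : G) ^ j * (h * g) = g⁻¹ * (h⁻¹ * ((z : G) ^ j * h)) * g := by group
        _ = _ := by rw [hc.eq]; group
    simp only [Free, e]
  have hFreeR : ∀ g, ∀ h ∈ H, Free g → Free (g * h) := by
    intro g h hh hg j hj hjp hmem
    obtain ⟨k, hk⟩ := Subgroup.mem_zpowers_iff.mp (Y.small (g * h) j hj hjp hmem)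
    refine hg j hj hjp ?_
    have hc : Commute ((z : G) ^ k) h :=
      (Commute.zpow_left (congrArg Subtype.val (Y.core.z_central ⟨h, hh⟩).eq) k)
    have e : g⁻¹ * (z : G) ^ j * g = (g * h)⁻¹ * (z : G) ^ j * (g * h) := by
      calc g⁻¹ * (z : G) ^ j * g = h * ((g * h)⁻¹ * (z : G) ^ j * (g * h)) * h⁻¹ := by group
        _ = h * (z : G) ^ k * h⁻¹ := by rw [hk]
        _ = (z : G) ^ k := by rw [← hc.eq, mul_inv_cancel_right]
        _ = _ := hk
    rwa [e]
  let Bad : G → Prop := fun g => g ∉ T ∧ Free g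
  have hBadR : ∀ g, ∀ h ∈ H, Bad (g * h) ↔ Bad g := by
    intro g h hh
    refine ⟨fun ⟨h1, h2⟩ => ⟨fun h3 => h1 (T.mul_mem h3 (Y.HT hh)), ?_⟩,
      fun ⟨h1, h2⟩ => ⟨fun h3 => h1 ?_, hFreeR g h hh h2⟩⟩
    · have := hFreeR (g * h) h⁻¹ (H.inv_mem hh) h2
      rwa [mul_inv_cancel_right] at this
    · exact (Subgroup.mul_mem_cancel_right T (Y.HT hh)).mp h3
  let _ : MulAction H {r : G ⧸ Dd // Bad r.out} :=
    { smul := fun h r => ⟨(h : G) • r.1, by
        have h1 := out_inv_mul (H := Dd) ((h : G) * r.1.out)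
        have e : (h : G) • r.1 = QuotientGroup.mk ((h : G) * r.1.out) := by
          conv_lhs => rw [← QuotientGroup.out_eq' r.1]
          rfl
        rw [e, ← hBadR _ _ (Y.DH h1), mul_inv_cancel_left]
        refine ⟨fun h3 => r.2.1 ((Subgroup.mul_mem_cancel_left T (Y.HT h.2)).mp h3), ?_⟩
        rw [hFreeL _ _ h.2]
        exact r.2.2⟩
      one_smul := fun r => Subtype.ext (one_smul G r.1)
      mul_smul := fun a b r => Subtype.ext (mul_smul (a : G) (b : G) r.1) }
  have hfree : ∀ (ω : {r : G ⧸ Dd // Bad r.out}) (j : ℕ), 0 < j → j < p → z ^ j • ω ≠ ω := by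
    intro ω j hj hjp h
    refine ω.2.2 j hj hjp ?_
    have h1 : ((z ^ j : H) : G) • ω.1 = ω.1 := congrArg Subtype.val h
    rw [Subgroup.coe_pow] at h1
    conv_lhs at h1 => rw [← QuotientGroup.out_eq' ω.1]
    conv_rhs at h1 => rw [← QuotientGroup.out_eq' ω.1]
    have h2 : ω.1.out⁻¹ * ((z : G) ^ j * ω.1.out) ∈ Dd := QuotientGroup.eq.mp h1.symm
    rwa [← mul_assoc] at h2
  have hout : ∀ {S'' : Representation K T (Fin n → K)} (χ : V →ₗ[K] Fin n → K),
      IsExt Y.HT R S'' → EquivT ρ S'' χ → ∀ v, InKer ρ ε π N v → χ (Γ v) = χ (E v) := by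
    intro S'' χ h1 h2 v hv
    let P : G → V := fun g => ρ g (y0 (ρ g⁻¹ v))
    have hP : ∀ g, ∀ d ∈ Dd, P (g * d) = P g := by
      intro g d hd
      have e := congrArg (fun A : Module.End K V => A (ρ d⁻¹ (ρ g⁻¹ v))) (hy0 d hd)
      simp only [Module.End.mul_apply] at e
      rw [← Module.End.mul_apply (ρ d) (ρ d⁻¹), ← map_mul, mul_inv_cancel, map_one,
        Module.End.one_apply] at e
      show ρ (g * d) (y0 (ρ (g * d)⁻¹ v)) = ρ g (y0 (ρ g⁻¹ v))
      rw [mul_inv_rev, map_mul ρ g d, map_mul ρ d⁻¹ g⁻¹]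
      show ρ g (ρ d (y0 (ρ d⁻¹ (ρ g⁻¹ v)))) = _
      rw [e]
    have hΓv : Γ v = ∑ r : G ⧸ Dd, P r.out := by
      simp only [hΓ, StableHom.conjSum, LinearMap.sum_apply, Module.End.mul_apply, P]
    have hfree0 : χ (∑ r : {r : G ⧸ Dd // Bad r.out}, P r.1.out) = 0 := by
      refine Y.apply_free_sum ρ h1 h2 hfree (fun r => ρ r.1.out * y0 * ρ r.1.out⁻¹) ?_ hv
      intro h r
      have e := StableHom.conj_eq_of_mk_eq Dd ρ y0 hy0 (a := ((h • r).1 : G ⧸ Dd).out)
        (b := (h : G) * r.1.out) (by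
          rw [QuotientGroup.out_eq']
          show (h : G) • r.1 = _
          conv_lhs => rw [← QuotientGroup.out_eq' r.1]
          rfl)
      show ρ (h : G) * (ρ r.1.out * y0 * ρ r.1.out⁻¹) =
        ρ (h • r).1.out * y0 * ρ (h • r).1.out⁻¹ * ρ (h : G)
      rw [e, mul_inv_rev, map_mul ρ (h : G), map_mul ρ r.1.out⁻¹]
      simp only [mul_assoc]
      rw [← map_mul ρ (h : G)⁻¹, inv_mul_cancel, map_one, mul_one]
    have hinner : ∀ g : G, ∑ s : H ⧸ Dd.subgroupOf H, P (g * (s.out : G)) =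
        ρ g (act H ρ ε (E0 (ρ g⁻¹ v))) := by
      intro g
      simp only [P]
      rw [hεD, map_sum, LinearMap.sum_apply, map_sum]
      refine Finset.sum_congr rfl fun s _ => ?_
      rw [map_mul, Module.End.mul_apply, mul_inv_rev, map_mul ρ _ g⁻¹, Module.End.mul_apply,
        show (((s.out : H) : G))⁻¹ = (((s.out : H)⁻¹ : H) : G) from rfl,
        ← act_of ρ (s.out⁻¹), ← act_of ρ s.out, map_mul, map_mul, Module.End.mul_apply,
        Module.End.mul_apply]
      simp only [y0, Module.End.mul_apply, hE0H]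
    let PB : G → Fin n → K := fun g => if Bad g then χ (P g) else 0
    have h3 := sum_tower (H := H) Y.DH PB (fun g d hd => by
      simp only [PB, hBadR g d (Y.DH hd), hP g d hd])
    have h4 : ∑ r : G ⧸ Dd, PB r.out = 0 := by
      simp only [PB]
      rw [← Finset.sum_filter, Finset.sum_subtype (p := fun r : G ⧸ Dd => Bad r.out) _ (by simp),
        ← map_sum]
      convert hfree0 using 3
    have h5 : ∀ q : G ⧸ H, χ (∑ s : H ⧸ Dd.subgroupOf H, P (q.out * (s.out : G))) =
        (if q ∈ cosets H T then χ (F1 v q.out) else 0) +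
          ∑ s : H ⧸ Dd.subgroupOf H, PB (q.out * (s.out : G)) := by
      intro q
      by_cases hq : q.out ∈ T
      · rw [if_pos (mem_cosets.mpr hq), hinner, Finset.sum_eq_zero (fun s _ => ?_), add_zero]
        · simp only [F1]
          congr 2
          rw [hE0, map_sum]
          refine Finset.sum_congr rfl fun a _ => ?_
          rw [← Module.End.mul_apply, ← map_mul, hS0.εU]
        · simp only [PB]
          rw [if_neg]
          rw [hBadR _ _ (SetLike.coe_mem _)]
          exact fun hb => hb.1 hq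
      · rw [if_neg (fun h => hq (mem_cosets.mp h)), zero_add]
        by_cases hB : Bad q.out
        · rw [map_sum]
          exact Finset.sum_congr rfl fun s _ => by
            simp only [PB, if_pos ((hBadR _ _ (SetLike.coe_mem s.out)).mpr hB)]
        · rw [hinner, Finset.sum_eq_zero (fun s _ => by
            simp only [PB, if_neg (mt (hBadR _ _ (SetLike.coe_mem s.out)).mp hB)])]
          obtain ⟨hg, hg0⟩ := (Y.outside q.out hq).resolve_left fun h => hB ⟨hq, h⟩
          rw [← act_apply_conj ρ ⟨q.out, hg⟩, ← Y.apply_eps ρ h1 h2, ← Module.End.mul_apply,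
            ← map_mul, hg0, map_zero, LinearMap.zero_apply, map_zero]
    rw [hΓv, sum_tower (H := H) Y.DH P hP, map_sum, Finset.sum_congr rfl fun q _ => h5 q,
      Finset.sum_add_distrib, ← h3, h4, add_zero]
    simp only [hE, map_sum]
    rw [← Finset.sum_filter]
    exact Finset.sum_congr (by ext q; simp) fun q _ => rfl
  have hl0 : l = 0 := by
    have h := hout ψ hS' hψ v₁ hv₁
    rw [hl, map_smul, hψE] at h
    exact (smul_eq_zero.mp h).resolve_right hψv₁
  have hker : InKer ρ ε π N (s e0) :=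
    ⟨hsε e0, by rw [← Nat.sub_add_cancel hi, ← hpp, hsπ, map_zero]⟩
  have h := hout φ hS hφ (s e0) hker
  rw [hl, hl0, zero_smul, map_zero, hφE] at h
  exact Y.card_cosets_ne_zero ((smul_eq_zero.mp h.symm).resolve_right (by simp [he0]))

/-- At most one extension receives a map which is not projective. -/
theorem false_of_two [IsAlgClosed K] [FiniteDimensional K V] (hirr : StableHom.IsIrr ρ)
    (hne : ∀ L : (Fin n → K) →ₗ[K] Fin n → K, (∀ t x, L (S t x) = S' t (L x)) → L = 0)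
    (hne' : ∀ L : (Fin n → K) →ₗ[K] Fin n → K, (∀ t x, L (S' t x) = S t (L x)) → L = 0)
    (hfs : ∃ v, InKer ρ ε π N v ∧ φ v ≠ 0) (hgs : ∃ v, InKer ρ ε π N v ∧ ψ v ≠ 0) : False := by
  obtain ⟨v, hv, hφv⟩ := hfs
  obtain ⟨v', hv', hψv⟩ := hgs
  have hex : ∃ j, ∃ u, act H ρ (π ^ j) u = 0 ∧ (φ u ≠ 0 ∨ ψ u ≠ 0) :=
    ⟨N - 1, v, hv.2, Or.inl hφv⟩
  obtain ⟨u, hu, hu'⟩ := Nat.find_spec hex
  have hle : Nat.find hex ≤ N - 1 := Nat.find_min' hex ⟨v, hv.2, Or.inl hφv⟩
  obtain ⟨i, hi⟩ : ∃ i, Nat.find hex = i + 1 := by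
    refine Nat.exists_eq_succ_of_ne_zero fun h0 => ?_
    rw [h0, pow_zero, map_one, Module.End.one_apply] at hu
    subst hu
    simp at hu'
  rw [hi] at hu hle
  have hk : ∀ w, act H ρ (π ^ i) w = 0 → φ w = 0 ∧ ψ w = 0 := by
    intro w hw
    have := Nat.find_min hex (m := i) (by omega)
    push Not at this
    exact this w hw
  rcases hu' with h | h
  · exact Y.false_of_two_aux ρ hS hS' hφ hψ hirr hne hv' hψv hle hu h hk
  · exact Y.false_of_two_aux ρ hS' hS hψ hφ hirr hne' hv hφv hle hu h fun w hw => (hk w hw).symm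

end Sys

end Cfsg.Agent.BlkChar.CyclicDefect
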