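import Cfsg.Agent.BlkChar.CyclicDefect.Shape
import Cfsg.Agent.BlkChar.CyclicDefect.Divide

/-!
# Values at singular elements in a block with cyclic defect group
-/

set_option autoImplicit false
set_option linter.unusedSectionVars false

namespace Cfsg.Agent.BlkChar.CyclicDefect

open BlocksCore BlocksDefect BC85 BC85.Star
open scoped Classical ComplexConjugate

universe u v

variable {G : Type u} [Group G] [Fintype G] {p : ℕ} [Fact p.Prime] {M : Ideal AlgInt}
  [hP : M.IsPrime]

theorem etaOf_mem {P : Subgroup G} {e : Set (IrrCharacter (Subgroup.centralizer (P : Set G)))}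
    {θ : P → ℂ} (h : ∀ u, MemLocalRing M (θ u)) (a : BrauerPairIdx G) (v : G) :
    MemLocalRing M (etaOf p M P e θ a v) := by
  rw [etaOf]
  split_ifs
  · exact h _
  · exact (localRing M).zero_mem

theorem starMul_mem (hM : IsPModular p M) {P : Subgroup G}
    {e : Set (IrrCharacter (Subgroup.centralizer (P : Set G)))} {θ : P → ℂ}
    (h : ∀ u, MemLocalRing M (θ u)) (χ : IrrCharacter G) (g : G) :
    MemLocalRing M (starMul p M P e θ (χ : G → ℂ) g) := by
  rw [starMul, starFun_def]
  exact (localRing M).sum_mem fun a ha => (localRing M).mul_mem (etaOf_mem h a _)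
    ((localRing M).sum_mem fun c _ => (localRing M).mul_mem (bp_mem hM ha c)
      (memLocalRing_of_isIntegral (isIntegral_irr χ _)))

namespace CycData

variable {B : Set (IrrCharacter G)} {D : Subgroup G}
  {c : Set (IrrCharacter (Subgroup.centralizer (D : Set G)))} (X : CycData p M B D c)
include X

/-- The function on the centralizer belonging to a weight on the defect group. -/
noncomputable def sfun (θ : X.loc → ℂ) : X.H → ℂ :=
  starMul p M X.loc X.cloc θ (X.χ0 : X.H → ℂ)

theorem sfun_class (θ : X.loc → ℂ) : IsClassFunction X.H (X.sfun θ) :=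
  starMul_isClassFunction X.mod X.nil.max (X.nil.stable θ) (irr_class X.χ0)

/-- The induced twist of the invariant member. -/
noncomputable def tw (l : X.loc →* ℂˣ) : G → ℂ := indFun X.H (X.nil.twist l X.χ0 : X.H → ℂ)

theorem tw_class (l : X.loc →* ℂˣ) : IsClassFunction G (X.tw l) :=
  CharInd.isClassFunction_indFun _ _

theorem vind_eq (l : X.loc →* ℂˣ) : X.vind l = X.tw l - X.tw 1 := by
  rw [tw, tw, X.nil.twist_one X.χ0_mem, ← CharInd.indFun_sub]
  rfl

theorem sum_tw_eq [Fintype (X.loc →* ℂˣ)] (k : (X.loc →* ℂˣ) → ℂ) (g : G) :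
    ∑ l, k l * X.tw l g = indFun X.H (X.sfun fun u => ∑ l, k l * lf l u) g := by
  rw [show (X.sfun fun u => ∑ l, k l * lf l u) = ∑ l, k l • (X.nil.twist l X.χ0 : X.H → ℂ) from
    funext fun h => by
      rw [sfun, starMul_sum, Finset.sum_apply]
      exact Finset.sum_congr rfl fun l _ => by
        rw [Pi.smul_apply, smul_eq_mul, X.nil.twist_coe l X.χ0_mem],
    CharInd.indFun_sum, Finset.sum_apply]
  exact Finset.sum_congr rfl fun l _ => by rw [CharInd.indFun_smul, Pi.smul_apply, smul_eq_mul, tw]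

theorem sum_tw [Fintype (X.loc →* ℂˣ)] {g : G} (hg : p ∣ orderOf g) : ∑ l, X.tw l g = 0 := by
  simp only [tw, CharInd.indFun_apply, ← Finset.mul_sum]
  rw [Finset.sum_comm]
  refine mul_eq_zero_of_right _ (Finset.sum_eq_zero fun x _ => ?_)
  by_cases hm : x⁻¹ * g * x ∈ X.H
  · simp only [CharInd.extendByZero_mem _ hm]
    rw [X.nil.sum_twist X.χ0_mem, BC85.pRegularPart_neg, mul_zero]
    rwa [Subgroup.orderOf_mk, show x⁻¹ * g * x = MulAut.conj x⁻¹ g by simp, MulEquiv.orderOf_eq]
  · exact Finset.sum_eq_zero fun l _ => CharInd.extendByZero_notMem _ hm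

theorem tw_regular (l : X.loc →* ℂˣ) {g : G} (hg : ¬ p ∣ orderOf g) : X.tw l g = X.tw 1 g := by
  have h := congrFun (X.vind_eq l) g
  rw [X.vind_regular l hg, Pi.sub_apply] at h
  exact sub_eq_zero.mp h.symm

theorem tw_lconj (t : stabT D c) (l : X.loc →* ℂˣ) : X.tw (X.lconj t l) = X.tw l := by
  have h := X.vind_lconj t l
  rwa [X.vind_eq, X.vind_eq, sub_left_inj] at h

theorem coef_lconj (t : stabT D c) (l : X.loc →* ℂˣ) (χ : IrrCharacter G) :
    X.coef (X.lconj t l) χ = X.coef l χ := by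
  have h := (X.coef_spec (X.lconj t l) χ).symm
  rw [X.vind_lconj, X.coef_spec] at h
  exact_mod_cast h

/-- An invariant sum over the non-trivial linear characters. -/
theorem sum_reps [Fintype (X.loc →* ℂˣ)] {R : Finset (X.loc →* ℂˣ)} (hR : X.Reps R)
    (F : (X.loc →* ℂˣ) → ℂ) (hF : ∀ t l, F (X.lconj t l) = F l) :
    ∑ l, F l = F 1 + (X.ei : ℂ) * ∑ l ∈ R, F l := by
  rw [← Finset.add_sum_erase _ _ (Finset.mem_univ (1 : X.loc →* ℂˣ))]
  congr 1
  have hu : (Finset.univ : Finset (X.loc →* ℂˣ)).erase 1 =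
      R.biUnion fun l => Finset.univ.image fun t : stabT D c => X.lconj t l := by
    ext m
    simp only [Finset.mem_erase, Finset.mem_univ, and_true, Finset.mem_biUnion, Finset.mem_image,
      true_and]
    refine ⟨fun hm => ?_, fun ⟨l, hl, t, ht⟩ => ht ▸ X.lconj_ne_one t (hR.ne_one l hl)⟩
    obtain ⟨t, ht⟩ := hR.exists_rep m hm
    exact ⟨_, ht, t⁻¹, by rw [X.lconj_mul, inv_mul_cancel, X.lconj_one]⟩
  rw [hu, Finset.sum_biUnion fun l hl m hm hne => by
    show Disjoint _ _
    rw [Finset.disjoint_left]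
    intro x hx hx'
    obtain ⟨t, -, rfl⟩ := Finset.mem_image.mp hx
    obtain ⟨t', -, h⟩ := Finset.mem_image.mp hx'
    refine hne (hR.eq_of l hl m hm (t⁻¹ * t') ?_).symm
    rw [← X.lconj_mul, h, X.lconj_mul, inv_mul_cancel, X.lconj_one], Finset.mul_sum]
  refine Finset.sum_congr rfl fun l hl => ?_
  rw [Finset.sum_eq_card_nsmul (b := F l) fun m hm => by
    obtain ⟨t, -, rfl⟩ := Finset.mem_image.mp hm
    exact hF t l, X.card_orbit (hR.ne_one l hl), nsmul_eq_mul]

/-- The values at a singular element of the members of the block. -/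
theorem apply_singular {R : Finset (X.loc →* ℂˣ)} (hR : X.Reps R) {x : G} (hx : p ∣ orderOf x)
    {χ : IrrCharacter G} (hχ : χ ∈ B) :
    (χ : G → ℂ) x = ∑ l ∈ R, (X.coef l χ : ℂ) * X.tw l x := by
  haveI := X.nil.cyc
  haveI := finite_lin (P := X.loc)
  letI := Fintype.ofFinite (X.loc →* ℂˣ)
  have hfin := finite_irr (G := G)
  letI := Fintype.ofFinite (IrrCharacter G)
  set Bs := B.toFinset with hBs
  have hoff : ∀ l, ∀ θ : IrrCharacter G, θ ∉ Bs → X.coef l θ = 0 := fun l θ hθ => by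
    have h1 := (X.coef_spec l θ).symm.trans
      (X.classInner_vind_of_notMem l fun h => hθ (Set.mem_toFinset.mpr h))
    exact_mod_cast h1
  set A : IrrCharacter G → ℂ := fun θ =>
    (θ : G → ℂ) x - ∑ l ∈ R, (X.coef l θ : ℂ) * X.tw l x with hA
  have hgram : ∀ m ∈ R, ∀ l ∈ R, ∑ θ ∈ Bs, (X.coef m θ : ℂ) * (X.coef l θ : ℂ) =
      (if m = l then 1 else 0) + (X.ei : ℂ) := by
    intro m hm l hl
    rw [← X.classInner_vind_reps hR hm hl, CharCore.classInner_eq_sum
      (CharCore.IsGeneralizedCharacter.isClassFunction (X.vind_gen m))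
      (CharCore.IsGeneralizedCharacter.isClassFunction (X.vind_gen l))]
    simp only [X.coef_spec, map_intCast]
    exact (Finset.sum_subset (Finset.subset_univ Bs) fun θ _ hθ => by
      rw [hoff m θ hθ, Int.cast_zero, zero_mul]).trans (Finset.sum_congr (by congr!) fun _ _ => rfl)
  have horth : ∀ m ∈ R, ∑ θ ∈ Bs, (X.coef m θ : ℂ) * A θ = 0 := by
    intro m hm
    have h1 : ∑ θ ∈ Bs, (X.coef m θ : ℂ) * (θ : G → ℂ) x = X.tw m x - X.tw 1 x := by
      rw [← Pi.sub_apply, ← X.vind_eq, X.vind_eq_sum]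
      exact Finset.sum_subset (Finset.subset_univ Bs) fun θ _ hθ => by
        rw [hoff m θ hθ, Int.cast_zero, zero_mul]
    have h2 : ∑ θ ∈ Bs, (X.coef m θ : ℂ) * ∑ l ∈ R, (X.coef l θ : ℂ) * X.tw l x =
        X.tw m x + (X.ei : ℂ) * ∑ l ∈ R, X.tw l x := by
      simp only [Finset.mul_sum, ← mul_assoc]
      rw [Finset.sum_comm, Finset.sum_congr rfl fun l hl => by
        rw [← Finset.sum_mul, hgram m hm l hl, add_mul], Finset.sum_add_distrib]
      simp [hm]
    have h3 := X.sum_reps hR (fun l => X.tw l x) fun t l => congrFun (X.tw_lconj t l) x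
    rw [X.sum_tw hx] at h3
    simp only [hA, mul_sub, Finset.sum_sub_distrib, h1, h2]
    linear_combination h3
  have hconj : ∀ m ∈ R, ∑ θ ∈ Bs, (X.coef m θ : ℂ) * conj (A θ) = 0 := fun m hm => by
    have h := congrArg (starRingEnd ℂ) (horth m hm)
    simpa [map_sum] using h
  have hvan : ∑ θ ∈ Bs, conj (A θ) * (θ : G → ℂ) x = 0 := by
    refine X.eq_zero_of_orth Bs (fun θ => conj (A θ)) id (fun θ => Set.mem_toFinset.mp)
      (fun l hl => ?_) hx
    obtain ⟨t, ht⟩ := hR.exists_rep l hl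
    rw [← X.vind_lconj t l,
      show (fun g => ∑ i ∈ Bs, conj (A i) * (id i : IrrCharacter G).1 g) =
      ∑ i ∈ Bs, conj (A i) • (i : G → ℂ) from funext fun g => by simp [Finset.sum_apply],
      CharCore.classInner_sum_left]
    simp only [CharCore.classInner_smul_left, X.classInner_irr_vind]
    rw [← hconj _ ht]
    exact Finset.sum_congr rfl fun θ _ => mul_comm _ _
  have hz : ∑ θ ∈ Bs, Complex.normSq (A θ) = 0 := by
    refine Complex.ofReal_injective ?_
    push_cast
    simp only [Complex.normSq_eq_conj_mul_self]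
    calc ∑ θ ∈ Bs, conj (A θ) * A θ
        = ∑ θ ∈ Bs, conj (A θ) * (θ : G → ℂ) x -
            ∑ l ∈ R, (∑ θ ∈ Bs, (X.coef l θ : ℂ) * conj (A θ)) * X.tw l x := by
          conv_rhs => arg 2; simp only [Finset.sum_mul]
          rw [Finset.sum_comm (s := R), ← Finset.sum_sub_distrib]
          refine Finset.sum_congr rfl fun θ _ => ?_
          conv_lhs => arg 2; simp only [hA]
          rw [mul_sub, Finset.mul_sum]
          exact congrArg _ (Finset.sum_congr rfl fun l _ => by ring)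
      _ = 0 := by
          rw [hvan, Finset.sum_eq_zero fun l hl => by rw [hconj l hl, zero_mul], sub_zero]
  have h0 := (Finset.sum_eq_zero_iff_of_nonneg fun θ _ => Complex.normSq_nonneg _).mp hz χ
    (Set.mem_toFinset.mpr hχ)
  exact sub_eq_zero.mp (Complex.normSq_eq_zero.mp h0)

theorem sfun_div_mem {θ : X.loc → ℂ}
    (hθ : ∀ u : X.loc, u ≠ 1 → MemLocalRing M (θ u / (Nat.card X.loc : ℂ))) {k : X.H}
    (hk : p ∣ orderOf k) :
    MemLocalRing M (X.sfun θ k / (Nat.card (Subgroup.centralizer ({k} : Set X.H)) : ℂ)) := by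
  obtain ⟨hcomm, hreg⟩ := regular_inv_pp_mul (p := p) k
  rw [sfun, starMul, starFun_def, Finset.sum_div]
  refine memLocalRing_sum fun a ha => ?_
  have hv1 : pp p k ≠ 1 := fun h => hreg (by rwa [h, inv_one, one_mul])
  have hη : MemLocalRing M (etaOf p M X.loc X.cloc θ a (pp p k) / (Nat.card X.loc : ℂ)) := by
    rw [etaOf]
    split_ifs with h
    · refine hθ _ fun h1 => hv1 ?_
      have h2 : h.choose * pp p k * h.choose⁻¹ = 1 := congrArg Subtype.val h1
      rw [← mul_left_cancel_iff (a := h.choose), mul_one]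
      exact mul_inv_eq_one.mp h2
    · rw [zero_div]; exact (localRing M).zero_mem
  set N := Nat.card (Subgroup.centralizer ({k} : Set X.H)) with hN
  have hF : ∀ g : X.H, MemLocalRing M ((Nat.card X.loc : ℂ) * (X.χ0 : X.H → ℂ) g /
      (Nat.card (Subgroup.centralizer ({g} : Set X.H)) : ℂ)) := by
    intro g
    have h1 := apply_one_mul_centralChar X.χ0 g
    have h2 := Subgroup.card_mul_index (Subgroup.centralizer ({g} : Set X.H))
    have hd : (charDegree (X.χ0 : X.H → ℂ) : ℂ) = (X.nil.base : X.H → ℂ) 1 :=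
      (irr_one_eq _).symm.trans (X.nil.degree_eq X.χ0_mem)
    have hi : ((Subgroup.centralizer ({g} : Set X.H)).index : ℂ) ≠ 0 :=
      Nat.cast_ne_zero.mpr Subgroup.FiniteIndex.index_ne_zero
    have hc : (Nat.card (Subgroup.centralizer ({g} : Set X.H)) : ℂ) ≠ 0 :=
      Nat.cast_ne_zero.mpr Nat.card_pos.ne'
    have e : (Nat.card X.loc : ℂ) * (X.χ0 : X.H → ℂ) g /
        (Nat.card (Subgroup.centralizer ({g} : Set X.H)) : ℂ) =
        X.nil.kap * centralChar (X.χ0 : X.H → ℂ) g := by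
      rw [NilData.kap, ← h2, Nat.cast_mul, ← hd]
      field_simp
      linear_combination -h1
    rw [e]
    exact (localRing M).mul_mem X.nil.kap_mem (centralChar_memLocalRing X.χ0 g)
  have hp' : proj a (pp p k) (fun g => (Nat.card X.loc : ℂ) * (X.χ0 : X.H → ℂ) g) ((pp p k)⁻¹ * k) =
      (Nat.card X.loc : ℂ) * proj a (pp p k) (X.χ0 : X.H → ℂ) ((pp p k)⁻¹ * k) := by
    simp only [proj, Finset.mul_sum]
    exact Finset.sum_congr rfl fun c _ => by ring
  have h := proj_div_mem (F := fun g => (Nat.card X.loc : ℂ) * (X.χ0 : X.H → ℂ) g) X.mod ha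
    (fun g t => by simp only [irr_class X.χ0 g t]) hF (s := (pp p k)⁻¹ * k) (fun x hx => by
      rw [mul_inv_cancel_left] at hx
      have e := pp_conj (p := p) k x
      rw [mul_inv_eq_iff_eq_mul.mpr hx.eq] at e
      exact (mul_inv_eq_iff_eq_mul.mp e.symm))
  rw [mul_inv_cancel_left, hp', ← hN] at h
  have hl : (Nat.card X.loc : ℂ) ≠ 0 := Nat.cast_ne_zero.mpr Nat.card_pos.ne'
  rw [show etaOf p M X.loc X.cloc θ a (pp p k) *
      proj a (pp p k) (X.χ0 : X.H → ℂ) ((pp p k)⁻¹ * k) / (N : ℂ) =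
    (etaOf p M X.loc X.cloc θ a (pp p k) / (Nat.card X.loc : ℂ)) *
      ((Nat.card X.loc : ℂ) * proj a (pp p k) (X.χ0 : X.H → ℂ) ((pp p k)⁻¹ * k) / (N : ℂ)) by
    field_simp]
  exact (localRing M).mul_mem hη h

end CycData

section Two

variable {B : Set (IrrCharacter G)} {D : Subgroup G}
  {c : Set (IrrCharacter (Subgroup.centralizer (D : Set G)))} (X : CycData p M B D c)
  {F : Type v} [Group F] [Fintype F] {B' : Set (IrrCharacter F)} {D' : Subgroup F}
  {c' : Set (IrrCharacter (Subgroup.centralizer (D' : Set F)))} (Y : CycData p M B' D' c')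

/-- Transport of linear characters along an isomorphism of the defect groups. -/
noncomputable def pull (ι : X.loc ≃* Y.loc) (l : Y.loc →* ℂˣ) : X.loc →* ℂˣ := l.comp ι.toMonoidHom

theorem pull_pull (ι : X.loc ≃* Y.loc) (l : X.loc →* ℂˣ) :
    pull X Y ι (pull Y X ι.symm l) = l :=
  MonoidHom.ext fun x => by simp [pull]

theorem pull_one (ι : X.loc ≃* Y.loc) : pull X Y ι 1 = 1 := MonoidHom.ext fun x => rfl

/-- The pairing of the induced twists is divisible by the order of the centralizer. -/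
theorem pairing_div_mem (ι : X.loc ≃* Y.loc) [Fintype (Y.loc →* ℂˣ)] {x : F}
    (hx : p ∣ orderOf x) (y : G) :
    MemLocalRing M ((∑ l : Y.loc →* ℂˣ, X.tw (pull X Y ι l) y * Y.tw l x) /
      (Nat.card (Subgroup.centralizer ({x} : Set F)) : ℂ)) := by
  rw [Y.sum_tw_eq]
  refine indFun_div_mem Y.H (Y.sfun_class _) fun k hk => Y.sfun_div_mem (fun u _ => ?_) ?_
  swap
  · obtain ⟨g, hg⟩ := isConj_iff.mp hk
    rw [← Subgroup.orderOf_coe, ← hg, ← MulAut.conj_apply, MulEquiv.orderOf_eq]
    exact hx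
  haveI := X.nil.cyc
  haveI := Y.nil.cyc
  haveI := finite_lin (P := X.loc)
  letI := Fintype.ofFinite (X.loc →* ℂˣ)
  have hn : (Nat.card Y.loc : ℂ) ≠ 0 := Nat.cast_ne_zero.mpr Nat.card_pos.ne'
  have hsum : ∑ l : Y.loc →* ℂˣ, X.tw (pull X Y ι l) y * lf l u =
      indFun X.H ((Nat.card Y.loc : ℂ) • X.sfun (dfun (ι.symm u⁻¹))) y := by
    rw [show ∑ l : Y.loc →* ℂˣ, X.tw (pull X Y ι l) y * lf l u =
        ∑ m : X.loc →* ℂˣ, lf m (ι.symm u) * X.tw m y from
      Finset.sum_bij' (fun l _ => pull X Y ι l) (fun m _ => pull Y X ι.symm m)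
        (fun _ _ => Finset.mem_univ _) (fun _ _ => Finset.mem_univ _)
        (fun l _ => MonoidHom.ext fun w => by simp [pull])
        (fun m _ => pull_pull X Y ι m) (fun l _ => by simp [lf, pull, mul_comm]),
      X.sum_tw_eq]
    refine congrFun (congrArg (indFun X.H) ?_) y
    funext h
    rw [Pi.smul_apply, smul_eq_mul, CycData.sfun, CycData.sfun, dfun_eq_sum X.nil.cyc,
      starMul_sum, starMul_sum, Finset.mul_sum, ← Nat.card_congr ι.toEquiv]
    refine Finset.sum_congr rfl fun m _ => ?_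
    rw [map_inv, inv_inv]
    field_simp
  rw [hsum, CharInd.indFun_smul, Pi.smul_apply, smul_eq_mul, mul_div_cancel_left₀ _ hn]
  refine indFun_mem X.H (X.sfun_class _) (fun k => ?_) y
  unfold CycData.sfun
  refine starMul_mem X.mod (fun w => ?_) X.χ0 k
  unfold dfun
  split_ifs
  · exact (localRing M).one_mem
  · exact (localRing M).zero_mem

end Two

end Cfsg.Agent.BlkChar.CyclicDefect
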